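import Groth.Agent.GrpdField29.PairGrpd
import Groth.Agent.GrpSchLib.FieldReduced
import Groth.Agent.GrpSchLib.Homogeneous

/-! Closures of images are groupoids, over a perfect field. -/

set_option autoImplicit false
set_option backward.isDefEq.respectTransparency false
set_option backward.isDefEq.respectTransparency.types false

universe u

open CategoryTheory CategoryTheory.Limits AlgebraicGeometry Grpd TopologicalSpace

namespace Groth.Agent.GrpdField29

/-- A map from a reduced scheme factors through a closed immersion containing its image. -/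
theorem exists_lift_of_reduced {T Y W : Scheme.{u}} [IsReduced T] (h : T ⟶ Y) (w : W ⟶ Y) [IsClosedImmersion w]
    (hr : ∀ x, h x ∈ Set.range ⇑w) : ∃ h' : T ⟶ W, h' ≫ w = h := by
  have : Surjective (pullback.snd w h) := ⟨fun x => by
    show x ∈ Set.range ⇑(pullback.snd w h)
    rw [Scheme.Pullback.range_snd]
    exact hr x⟩
  have : IsIso (pullback.snd w h) := isIso_of_isClosedImmersion_of_surjective _
  exact ⟨inv (pullback.snd w h) ≫ pullback.fst w h, by
    rw [Category.assoc, pullback.condition, IsIso.inv_hom_id_assoc]⟩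

/-- The closure of the image of a morphism of groupoids over a perfect field is a groupoid. -/
theorem exists_closure_groupoid {S : Scheme.{u}} {G₁ G₂ : GroupoidScheme S} (f : GroupoidScheme.Hom G₁ G₂)
    [IsIso f.fU] (k : Type u) [Field k] [PerfectField k] (eU : G₂.U ≅ Spec (CommRingCat.of k)) :
    ∃ (G' : GroupoidScheme S) (φ : GroupoidScheme.Hom G' G₂), IsIso φ.fU ∧ IsClosedImmersion φ.fR ∧
      IsReduced G'.R ∧ Set.range ⇑φ.fR = closure (Set.range ⇑f.fR) := by
  let I := Scheme.IdealSheafData.vanishingIdeal (⟨closure (Set.range ⇑f.fR), isClosed_closure⟩ : Closeds G₂.R)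
  let z : I.subscheme ⟶ G₂.R := I.subschemeι
  have hz : Set.range ⇑z = closure (Set.range ⇑f.fR) := by
    rw [Scheme.IdealSheafData.range_subschemeι, Scheme.IdealSheafData.coe_support_vanishingIdeal]
    rfl
  have : IsReduced G₂.U := isReduced_of_isOpenImmersion eU.hom
  have hW : IsReduced I.subscheme := Groth.Agent.H23.RedSub.isReduced_vanishingIdeal _
  have hP : IsReduced (pullback (z ≫ G₂.s) (z ≫ G₂.t)) := by
    let M := pullback.map (z ≫ G₂.s) (z ≫ G₂.t) ((z ≫ G₂.s) ≫ eU.hom) ((z ≫ G₂.t) ≫ eU.hom)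
      (𝟙 _) (𝟙 _) eU.hom (by simp) (by simp)
    have := Groth.Agent.GrpSchLib.isReduced_pullback_of_perfectField ((z ≫ G₂.s) ≫ eU.hom) ((z ≫ G₂.t) ≫ eU.hom)
    exact isReduced_of_isOpenImmersion M
  obtain ⟨e', he⟩ := exists_lift_of_reduced G₂.e z (fun x => by
    rw [hz]
    refine subset_closure ⟨G₁.e (inv f.fU x), ?_⟩
    rw [← Scheme.Hom.comp_apply, GrpdLib.hom_comm_e, ← Scheme.Hom.comp_apply, IsIso.inv_hom_id_assoc])
  obtain ⟨i', hi⟩ := exists_lift_of_reduced (z ≫ G₂.i) z (fun x => by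
    rw [hz, Scheme.Hom.comp_apply]
    have hx : z x ∈ closure (Set.range ⇑f.fR) := hz ▸ Set.mem_range_self x
    refine map_mem_closure (Scheme.Hom.continuous G₂.i) hx ?_
    rintro _ ⟨y, rfl⟩
    exact ⟨G₁.i y, by rw [← Scheme.Hom.comp_apply, hom_comm_i, Scheme.Hom.comp_apply]⟩)
  obtain ⟨c', hc⟩ := exists_lift_of_reduced (pairι G₂ z ≫ G₂.c) z (fun x => by
    rw [hz, Scheme.Hom.comp_apply]
    refine c_mem_closure f k eU _ ?_ ?_ <;> rw [← Scheme.Hom.comp_apply]
    · rw [show pairι G₂ z ≫ pullback.fst G₂.s G₂.t = pullback.fst _ _ ≫ z by simp [pairι],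
        Scheme.Hom.comp_apply, ← hz]
      exact ⟨_, rfl⟩
    · rw [show pairι G₂ z ≫ pullback.snd G₂.s G₂.t = pullback.snd _ _ ≫ z by simp [pairι],
        Scheme.Hom.comp_apply, ← hz]
      exact ⟨_, rfl⟩)
  obtain ⟨G', φ, ε, h₁, h₂⟩ := exists_subgroupoid G₂ z ⟨e', he⟩ ⟨i', hi⟩ ⟨c', hc⟩
  have e : φ.fR = ε.inv ≫ z := (Iso.eq_inv_comp ε).mpr h₂
  refine ⟨G', φ, h₁, by rw [e]; infer_instance, isReduced_of_isOpenImmersion ε.inv, ?_⟩
  rw [e, Scheme.Hom.comp_base, TopCat.coe_comp, Set.range_comp]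
  have : Set.range ⇑ε.inv = Set.univ := Set.range_eq_univ.mpr ε.inv.surjective
  rw [this, Set.image_univ, hz]

end Groth.Agent.GrpdField29
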