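import Groth.Agent.GrpdField29.SubGroupoid

/-! The pair groupoid U ×_S U ⇉ U. -/

set_option autoImplicit false
set_option backward.isDefEq.respectTransparency false
set_option backward.isDefEq.respectTransparency.types false

universe u

open CategoryTheory CategoryTheory.Limits AlgebraicGeometry Grpd

namespace Groth.Agent.GrpdField29

variable {S U : Scheme.{u}} (p : U ⟶ S)

/-- Composition of pairs. -/
noncomputable abbrev pairComp : pullback (pullback.snd p p) (pullback.fst p p) ⟶ pullback p p :=
  pullback.lift (pullback.fst _ _ ≫ pullback.fst p p) (pullback.snd _ _ ≫ pullback.snd p p) (by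
    rw [Category.assoc, Category.assoc, pullback.condition (f := p) (g := p), pullback.condition_assoc]
    rw [pullback.condition (f := p) (g := p)])

/-- The pair groupoid on U over S, with t = fst and s = snd. -/
noncomputable abbrev pairGrpd : GroupoidScheme S where
  U := U
  R := pullback p p
  pU := p
  pR := pullback.snd p p ≫ p
  s := pullback.snd p p
  t := pullback.fst p p
  e := pullback.lift (𝟙 U) (𝟙 U) rfl
  i := pullback.lift (pullback.snd p p) (pullback.fst p p) pullback.condition.symm
  c := pairComp p
  s_over := rfl
  t_over := pullback.condition
  comp_s α β h := by simp [pairComp]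
  comp_t α β h := by simp [pairComp]
  assoc α β γ h₁ h₂ := by apply pullback.hom_ext <;> simp [pairComp]
  e_s := by simp
  e_t := by simp
  comp_e α := by apply pullback.hom_ext <;> simp [pairComp]
  e_comp α := by apply pullback.hom_ext <;> simp [pairComp]
  i_s := by simp
  i_t := by simp
  comp_i α := by apply pullback.hom_ext <;> simp [pairComp]
  i_comp α := by apply pullback.hom_ext <;> simp [pairComp]

/-- The morphism j to the pair groupoid. -/
noncomputable def toPair (G : GroupoidScheme S) : GroupoidScheme.Hom G (pairGrpd G.pU) where
  fU := 𝟙 G.U
  fR := G.j
  fU_over := Category.id_comp _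
  comm_s := by simp [GroupoidScheme.j]
  comm_t := by simp [GroupoidScheme.j]
  comm_c α β h := by
    apply pullback.hom_ext
    · simp only [pairComp, GroupoidScheme.j, Category.assoc, pullback.lift_fst, pullback.lift_fst_assoc]
      rw [← Category.assoc, G.comp_t]
    · simp only [pairComp, GroupoidScheme.j, Category.assoc, pullback.lift_snd, pullback.lift_snd_assoc]
      rw [← Category.assoc, G.comp_s]

end Groth.Agent.GrpdField29
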