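import Mathlib.AlgebraicGeometry.Limits
import Mathlib.AlgebraicGeometry.Morphisms.QuasiSeparated
import Mathlib.AlgebraicGeometry.Stalk
import Mathlib.RingTheory.Nilpotent.Lemmas

/-! Maximal points (generic points of irreducible components). -/

set_option autoImplicit false
set_option backward.isDefEq.respectTransparency false
set_option backward.isDefEq.respectTransparency.types false

universe u

open CategoryTheory AlgebraicGeometry TopologicalSpace

namespace Groth.Agent.GrpdField29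

variable {X : Scheme.{u}} {η : X}

/-- Germs of functions vanishing at a maximal point are nilpotent. -/
theorem isNilpotent_germ (hη : ∀ x, x ⤳ η → x = η) {V : X.Opens} (hV : η ∈ V) (f : Γ(X, V))
    (hf : η ∉ X.basicOpen f) : IsNilpotent (X.presheaf.germ V η hV f) := by
  rw [← mem_nilradical, nilradical_eq_sInf, Submodule.mem_sInf]
  intro p (hp : Ideal.IsPrime p)
  have hp' : (⟨p, hp⟩ : PrimeSpectrum (X.presheaf.stalk η)) = IsLocalRing.closedPoint _ := by
    apply (X.fromSpecStalk η).isEmbedding.injective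
    have h : X.fromSpecStalk η ⟨p, hp⟩ ⤳ η := X.range_fromSpecStalk.subset ⟨_, rfl⟩
    exact (hη _ h).trans X.fromSpecStalk_closedPoint.symm
  rw [show p = IsLocalRing.maximalIdeal _ from congrArg PrimeSpectrum.asIdeal hp']
  rw [X.mem_basicOpen f η hV] at hf
  exact hf

/-- A maximal point outside a compact open of an affine open is outside its closure. -/
theorem notMem_closure_of_compact (hη : ∀ x, x ⤳ η → x = η) {A : X.Opens} (hA : IsAffineOpen A) (hηA : η ∈ A)
    {W : X.Opens} (hW : IsCompact (W : Set X)) (hWA : W ≤ A) (hηW : η ∉ W) : η ∉ closure (W : Set X) := by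
  have hb : ∀ x : W, ∃ f : Γ(X, A), X.basicOpen f ≤ W ∧ x.1 ∈ X.basicOpen f := fun x =>
    hA.exists_basicOpen_le (V := W) x (hWA x.2)
  choose f hf hx using hb
  obtain ⟨t, ht⟩ := hW.elim_finite_subcover (fun x : W => (X.basicOpen (f x) : Set X))
    (fun x => (X.basicOpen (f x)).isOpen) fun x hx' => Set.mem_iUnion.2 ⟨⟨x, hx'⟩, hx ⟨x, hx'⟩⟩
  intro hc
  have hc' : η ∈ closure (⋃ x ∈ t, (X.basicOpen (f x) : Set X)) := closure_mono ht hc
  rw [Finset.closure_biUnion] at hc'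
  obtain ⟨x, -, hxc⟩ := Set.mem_iUnion₂.1 hc'
  have hnot : η ∉ X.basicOpen (f x) := fun h => hηW (hf x h)
  obtain ⟨n, hn⟩ := isNilpotent_germ hη hηA (f x) hnot
  rw [← map_pow] at hn
  obtain ⟨O, hηO, i, j, hO⟩ := X.presheaf.germ_eq η hηA hηA (f x ^ n) 0 (by rw [hn, map_zero])
  obtain ⟨y, hyO, hy⟩ := mem_closure_iff.1 hxc O O.isOpen hηO
  have hg : IsUnit (X.presheaf.germ O y hyO (X.presheaf.map i.op (f x ^ n))) := by
    rw [TopCat.Presheaf.germ_res_apply, map_pow]
    exact ((X.mem_basicOpen _ y (X.basicOpen_le _ hy)).1 hy).pow n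
  rw [hO, map_zero, map_zero, isUnit_zero_iff] at hg
  exact zero_ne_one hg

/-- Finitely many maximal points have an affine neighbourhood. -/
theorem exists_affine_of_maximal [QuasiSeparatedSpace X] (T : Finset X) (hT : ∀ η ∈ T, ∀ x, x ⤳ η → x = η) :
    ∃ U : X.Opens, IsAffineOpen U ∧ ∀ η ∈ T, η ∈ U := by
  classical
  have hA : ∀ η : T, ∃ A : X.Opens, IsAffineOpen A ∧ η.1 ∈ A ∧ ∀ η' : T, η' ≠ η → η'.1 ∉ A := fun η => by
    let C : Set X := ⋃ η' : {η' : T // η' ≠ η}, closure {η'.1.1}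
    have hC : IsClosed C := isClosed_iUnion_of_finite fun _ => isClosed_closure
    obtain ⟨A, hA, hηA, hAC⟩ := exists_isAffineOpen_mem_and_subset (x := η.1) (U := ⟨Cᶜ, hC.isOpen_compl⟩) (by
      rintro h
      obtain ⟨η', h'⟩ := Set.mem_iUnion.1 h
      exact η'.2 (Subtype.ext (hT η.1 η.2 η'.1.1 (specializes_iff_mem_closure.2 h'))))
    exact ⟨A, hA, hηA, fun η' hne hin => hAC hin (Set.mem_iUnion.2 ⟨⟨η', hne⟩, subset_closure rfl⟩)⟩
  choose A hAaff hηA hAother using hA
  have hD : ∀ η : T, ∃ D : X.Opens, IsAffineOpen D ∧ η.1 ∈ D ∧ D ≤ A η ∧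
      ∀ η' : T, η' ≠ η → Disjoint (D : Set X) ((A η ⊓ A η' : X.Opens) : Set X) := fun η => by
    let C : Set X := ⋃ η' : {η' : T // η' ≠ η}, closure ((A η ⊓ A η'.1 : X.Opens) : Set X)
    have hC : IsClosed C := isClosed_iUnion_of_finite fun _ => isClosed_closure
    obtain ⟨D, hD, hηD, hDle⟩ := exists_isAffineOpen_mem_and_subset (x := η.1)
      (U := A η ⊓ ⟨Cᶜ, hC.isOpen_compl⟩) ⟨hηA η, by
      rintro h
      obtain ⟨η', h'⟩ := Set.mem_iUnion.1 h
      exact notMem_closure_of_compact (hT η.1 η.2) (hAaff η) (hηA η)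
        (QuasiSeparatedSpace.inter_isCompact _ _ (A η).isOpen (hAaff η).isCompact (A η'.1).isOpen (hAaff η'.1).isCompact)
        inf_le_left (fun hin => hAother η'.1 η η'.2.symm hin.2) h'⟩
    exact ⟨D, hD, hηD, fun y hy => (hDle hy).1, fun η' hne => Set.disjoint_left.2 fun y hy hy' =>
      (hDle hy).2 (Set.mem_iUnion.2 ⟨⟨η', hne⟩, subset_closure hy'⟩)⟩
  choose D hDaff hηD hDA hDdis using hD
  refine ⟨⨆ η : T, D η, IsAffineOpen.iSup_of_disjoint hDaff fun η η' hne => ?_,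
    fun η hη => Opens.mem_iSup.2 ⟨⟨η, hη⟩, hηD ⟨η, hη⟩⟩⟩
  refine disjoint_iff.2 (eq_bot_iff.2 fun y hy => ?_)
  exact Set.disjoint_left.1 (hDdis η η' (Ne.symm hne)) hy.1 ⟨hDA η hy.1, hDA η' hy.2⟩

end Groth.Agent.GrpdField29
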