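import Mathlib

/-! Elements whose polynomial values over a small field are units. -/

universe u

namespace Groth.Agent.GrpdField29

open Polynomial

/-- In a finite type domain over `k`, an element all whose values under nonzero polynomials with coefficients
in a subfield are units is algebraic over `k`. -/
theorem isAlgebraic_of_isUnit_aeval {F k B : Type u} [Field F] [Field k] [Algebra F k] [CommRing B] [IsDomain B]
    [Algebra k B] [Algebra.FiniteType k B] [Algebra F B] [IsScalarTower F k B] (f : B)
    (hf : ∀ p : F[X], p ≠ 0 → IsUnit (aeval f p)) : IsAlgebraic k f := by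
  by_contra hf'
  have hinj : Function.Injective (aeval (R := k) f) := transcendental_iff_injective.mp hf'
  letI := (aeval (R := k) f).toRingHom.toAlgebra
  haveI : IsScalarTower k k[X] B := IsScalarTower.of_algebraMap_eq fun x => ((aeval (R := k) f).commutes x).symm
  haveI : FaithfulSMul k[X] B := (faithfulSMul_iff_algebraMap_injective _ _).mpr hinj
  haveI : Algebra.FiniteType k[X] B := Algebra.FiniteType.of_restrictScalars_finiteType k k[X] B
  haveI : Algebra.FinitePresentation k[X] B := Algebra.FinitePresentation.of_finiteType.mp ‹_›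
  haveI : Module.IsTorsionFree k[X] B := inferInstance
  haveI : Module.Flat k[X] B := by
    rw [Module.Flat.flat_iff_torsion_eq_bot_of_isBezout, ← Submodule.isTorsionFree_iff_torsion_eq_bot]
    infer_instance
  have hopen := PrimeSpectrum.isOpenMap_comap_of_hasGoingDown_of_finitePresentation (R := k[X]) (S := B)
  have hO : IsOpen (Set.range (PrimeSpectrum.comap (algebraMap k[X] B))) := hopen.isOpen_range
  obtain ⟨_, ⟨g, rfl⟩, hne, hsub⟩ := PrimeSpectrum.isTopologicalBasis_basic_opens.exists_subset_of_mem_open
    (Set.mem_range_self (⟨⊥, Ideal.isPrime_bot⟩ : PrimeSpectrum B)) hO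
  have hg : g ≠ 0 := fun h => hne (by simp [h])
  let K := AlgebraicClosure k
  haveI : IsScalarTower F k K := inferInstance
  haveI : IsAlgClosed ↥(algebraicClosure F K) := (algebraicClosure.isAlgClosure F K).isAlgClosed
  haveI : Infinite ↥(algebraicClosure F K) := IsAlgClosed.instInfinite
  obtain ⟨α, hα⟩ : ∃ α : ↥(algebraicClosure F K), aeval (α : K) g ≠ 0 := by
    by_contra! h
    have hfin := (g.map (algebraMap k K)).finite_setOf_isRoot (map_ne_zero hg)
    apply Set.infinite_range_of_injective
      (f := fun α : ↥(algebraicClosure F K) => (α : K)) Subtype.coe_injective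
    refine hfin.subset ?_
    rintro _ ⟨α, rfl⟩
    show (g.map (algebraMap k K)).IsRoot (α : K)
    rw [IsRoot, eval_map, ← aeval_def]
    exact h α
  let χ := aeval (R := k) (α : K)
  let m : PrimeSpectrum k[X] := ⟨RingHom.ker χ, RingHom.ker_isPrime _⟩
  obtain ⟨P, hP⟩ := hsub (show m ∈ PrimeSpectrum.basicOpen g from hα)
  have hint : IsIntegral F (α : K) := (α.2 : (α : K) ∈ algebraicClosure F K)
  let p := minpoly F (α : K)
  have hpm : p.map (algebraMap F k) ∈ m.asIdeal := by
    show χ (p.map (algebraMap F k)) = 0
    rw [aeval_map_algebraMap]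
    exact minpoly.aeval F (α : K)
  have hmem : aeval f p ∈ P.asIdeal := by
    rw [← hP] at hpm
    have : algebraMap k[X] B (p.map (algebraMap F k)) ∈ P.asIdeal := hpm
    rwa [show algebraMap k[X] B (p.map (algebraMap F k)) = aeval f (p.map (algebraMap F k)) from rfl,
      aeval_map_algebraMap] at this
  exact P.isPrime.ne_top (Ideal.eq_top_of_isUnit_mem _ hmem (hf p (minpoly.ne_zero hint)))

/-- A field homomorphism into a finite type domain over `k` has values algebraic over `k`. -/
theorem isAlgebraic_fieldHom {k B : Type u} [Field k] [CommRing B] [IsDomain B] [Algebra k B]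
    [Algebra.FiniteType k B] (σ : k →+* B) (a : k) : IsAlgebraic k (σ a) := by
  let F : Subfield k := ⊥
  have hσF : ∀ x : F, σ (x : k) = algebraMap k B (x : k) := by
    intro x
    exact (bot_le : (⊥ : Subfield k) ≤ σ.eqLocusField (algebraMap k B)) x.2
  by_cases ha : IsAlgebraic F a
  · obtain ⟨p, hp0, hp⟩ := ha
    refine ⟨p.map (algebraMap F k), (Polynomial.map_ne_zero_iff (algebraMap F k).injective).mpr hp0, ?_⟩
    rw [aeval_map_algebraMap]
    let σ' : k →ₐ[F] B := { σ with commutes' := hσF }
    rw [show σ a = σ' a from rfl, aeval_algHom_apply, hp, map_zero]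
  · refine isAlgebraic_of_isUnit_aeval (F := F) (σ a) fun p hp => ?_
    let σ' : k →ₐ[F] B := { σ with commutes' := hσF }
    rw [show σ a = σ' a from rfl, aeval_algHom_apply]
    exact (isUnit_iff_ne_zero.mpr fun h => ha ⟨p, hp, h⟩).map σ'

end Groth.Agent.GrpdField29
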