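import Groth.Agent.GrpdField29.Closure
import Groth.Agent.GrpdLib.DegDecomp
import Groth.Agent.GrpSchLib.SmoothQuot

/-! Homogeneity of groupoids over a field: smoothness. -/

set_option backward.isDefEq.respectTransparency false
set_option backward.isDefEq.respectTransparency.types false

universe u

open CategoryTheory CategoryTheory.Limits AlgebraicGeometry Grpd TopologicalSpace

namespace Groth.Agent.GrpdField29

/-- A base change is smooth over an open where the morphism is smooth. -/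
theorem smooth_restrict_baseChange {P A B Y : Scheme.{u}} {p : P ⟶ A} {q : P ⟶ B} {f : A ⟶ Y} {g : B ⟶ Y}
    (h : IsPullback p q f g) (T : A.Opens) [Smooth (T.ι ≫ f)] : Smooth ((p ⁻¹ᵁ T).ι ≫ q) :=
  MorphismProperty.of_isPullback (P := @Smooth) ((isPullback_morphismRestrict p T).paste_vert h) inferInstance

theorem smooth_ι_smoothLocus {X Y : Scheme.{u}} (f : X ⟶ Y) [LocallyOfFinitePresentation f] :
    Smooth (f.smoothLocus.ι ≫ f) := by
  rw [← Scheme.Hom.smoothLocus_eq_top_iff, ← Scheme.Hom.preimage_smoothLocus_eq, eq_top_iff]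
  intro x _
  exact x.2

variable {S : Scheme.{u}} (G : GroupoidScheme S) (k : Type u) [Field k]

/-- Over a field, every arrow is a composite of arrows from given dense opens. -/
theorem exists_pair (eU : G.U ≅ Spec (CommRingCat.of k)) (T₁ T₂ : G.R.Opens) (h₁ : Dense (T₁ : Set G.R))
    (h₂ : Dense (T₂ : Set G.R)) (r : G.R) :
    ∃ p : ↑(pullback G.s G.t), G.c p = r ∧ pullback.fst G.s G.t p ∈ T₁ ∧ pullback.snd G.s G.t p ∈ T₂ := by
  have : Nonempty G.U := ⟨eU.inv (IsLocalRing.closedPoint k)⟩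
  have : IsIntegral G.U := isIntegral_of_isOpenImmersion eU.hom
  have : Subsingleton G.U := eU.hom.homeomorph.subsingleton
  let ξ := G.R.fromSpecResidueField r
  let L := pullback.fst G.c ξ
  have hL := IsPullback.of_hasPullback G.c ξ
  have ho1 : IsOpenMap ⇑(L ≫ pullback.fst G.s G.t) :=
    haveI := MorphismProperty.of_isPullback (P := @UniversallyOpen)
      (hL.flip.paste_vert (GrpdLib.isPullback_fst_c G).flip) (universallyOpen_of_subsingleton (ξ ≫ G.t))
    Scheme.Hom.isOpenMap _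
  have ho2 : IsOpenMap ⇑(L ≫ pullback.snd G.s G.t) :=
    haveI := MorphismProperty.of_isPullback (P := @UniversallyOpen)
      (hL.flip.paste_vert (GrpdLib.isPullback_snd_c G).flip) (universallyOpen_of_subsingleton (ξ ≫ G.s))
    Scheme.Hom.isOpenMap _
  obtain ⟨p, -, hp⟩ := Scheme.exists_preimage_of_isPullback (GrpdLib.isPullback_fst_c G) r r rfl
  obtain ⟨z₀, -⟩ := Scheme.exists_preimage_of_isPullback hL p (IsLocalRing.closedPoint (G.R.residueField r))
    (hp.trans (Scheme.fromSpecResidueField_apply _ _).symm)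
  have d1 := (h₁.preimage ho1)
  have d2 := (h₂.preimage ho2)
  obtain ⟨z, hz1, hz2⟩ := d2.inter_open_nonempty _ (T₁.isOpen.preimage (Scheme.Hom.continuous _))
    ((d1.inter_open_nonempty _ isOpen_univ ⟨z₀, trivial⟩).imp fun z hz => hz.2)
  refine ⟨L z, ?_, ?_, ?_⟩
  · rw [← Scheme.Hom.comp_apply, pullback.condition, Scheme.Hom.comp_apply]
    exact Scheme.fromSpecResidueField_apply _ _
  · rw [← Scheme.Hom.comp_apply]; exact hz1
  · rw [← Scheme.Hom.comp_apply]; exact hz2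

theorem smooth_s_of_dense (eU : G.U ≅ Spec (CommRingCat.of k)) [LocallyOfFiniteType G.s] [LocallyOfFiniteType G.t]
    (Ts Tt : G.R.Opens) [Smooth (Ts.ι ≫ G.s)] [Smooth (Tt.ι ≫ G.t)]
    (hs : Dense (Ts : Set G.R)) (ht : Dense (Tt : Set G.R)) : Smooth G.s := by
  have : Nonempty G.U := ⟨eU.inv (IsLocalRing.closedPoint k)⟩
  have : IsIntegral G.U := isIntegral_of_isOpenImmersion eU.hom
  have : Subsingleton G.U := eU.hom.homeomorph.subsingleton
  have : IsLocallyNoetherian G.U := isLocallyNoetherian_of_isOpenImmersion eU.hom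
  haveI : LocallyOfFinitePresentation G.s := LocallyOfFinitePresentation.iff_locallyOfFiniteType.2 inferInstance
  rw [← Scheme.Hom.smoothLocus_eq_top_iff, eq_top_iff]
  intro r _
  obtain ⟨p, hp, hp1, hp2⟩ :=
    exists_pair G k eU (Ts ⊓ Tt) Ts (hs.inter_of_isOpen_left ht Ts.isOpen) hs r
  let A₁ := pullback.fst G.s G.t ⁻¹ᵁ Ts
  let A₂ := pullback.fst G.s G.t ⁻¹ᵁ Tt
  let P₀ := A₁ ⊓ A₂ ⊓ pullback.snd G.s G.t ⁻¹ᵁ Ts
  have hpP : p ∈ P₀ := ⟨⟨hp1.1, hp1.2⟩, hp2⟩
  have hsnd : Smooth (P₀.ι ≫ pullback.snd G.s G.t) := by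
    haveI := smooth_restrict_baseChange (IsPullback.of_hasPullback G.s G.t) Ts
    rw [← (pullback G.s G.t).homOfLE_ι (show P₀ ≤ A₁ from inf_le_left.trans inf_le_left), Category.assoc]
    infer_instance
  have hc : Smooth (P₀.ι ≫ G.c) := by
    haveI := smooth_restrict_baseChange (GrpdLib.isPullback_fst_c G) Tt
    rw [← (pullback G.s G.t).homOfLE_ι (show P₀ ≤ A₂ from inf_le_left.trans inf_le_right), Category.assoc]
    infer_instance
  have hrange : Set.range ⇑(P₀.ι ≫ pullback.snd G.s G.t) ⊆ Set.range ⇑Ts.ι := by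
    rintro _ ⟨y, rfl⟩
    rw [Scheme.Opens.range_ι, Scheme.Hom.comp_apply]
    exact (y.2 : (y.1 : ↑(pullback G.s G.t)) ∈ P₀).2
  let q := IsOpenImmersion.lift Ts.ι (P₀.ι ≫ pullback.snd G.s G.t) hrange
  have hq : q ≫ Ts.ι = P₀.ι ≫ pullback.snd G.s G.t := IsOpenImmersion.lift_fac ..
  haveI : Smooth (q ≫ Ts.ι) := hq ▸ hsnd
  haveI : Smooth q := MorphismProperty.of_isPullback (P := @Smooth)
    (IsPullback.of_horiz_isIso_mono (fst := 𝟙 _) (snd := q) (f := q ≫ Ts.ι) (g := Ts.ι) ⟨Category.id_comp _⟩) inferInstance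
  have hcomp : Smooth ((P₀.ι ≫ G.c) ≫ G.s) := by
    rw [Category.assoc, GrpdLib.c_s G, ← reassoc_of% hq]
    infer_instance
  let O : G.R.Opens := ⟨Set.range ⇑(P₀.ι ≫ G.c), (Scheme.Hom.isOpenMap (P₀.ι ≫ G.c)).isOpen_range⟩
  let c₀ := IsOpenImmersion.lift O.ι (P₀.ι ≫ G.c) (by rw [Scheme.Opens.range_ι]; exact subset_rfl)
  have hc₀ : c₀ ≫ O.ι = P₀.ι ≫ G.c := IsOpenImmersion.lift_fac ..
  haveI : Smooth (c₀ ≫ O.ι) := hc₀ ▸ hc
  haveI : Smooth c₀ := MorphismProperty.of_isPullback (P := @Smooth)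
    (IsPullback.of_horiz_isIso_mono (fst := 𝟙 _) (snd := c₀) (f := c₀ ≫ O.ι) (g := O.ι) ⟨Category.id_comp _⟩) inferInstance
  haveI : Surjective c₀ := ⟨fun o => by
    obtain ⟨y, hy⟩ := (o.2 : (o.1 : G.R) ∈ O)
    refine ⟨y, O.ι.isOpenEmbedding.injective ?_⟩
    rw [← Scheme.Hom.comp_apply, hc₀]
    exact hy⟩
  haveI : Smooth (c₀ ≫ O.ι ≫ G.s ≫ eU.hom) := by
    rw [reassoc_of% hc₀, ← Category.assoc, ← Category.assoc]
    infer_instance
  haveI : Smooth ((O.ι ≫ G.s) ≫ eU.hom) := by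
    rw [Category.assoc]
    exact GrpSchLib.smooth_of_flat_surjective c₀ (O.ι ≫ G.s ≫ eU.hom)
  have hO : Smooth (O.ι ≫ G.s) := (MorphismProperty.cancel_right_of_respectsIso @Smooth (O.ι ≫ G.s) eU.hom).1 inferInstance
  have hr : r ∈ O := ⟨⟨p, hpP⟩, hp⟩
  have h := Scheme.Hom.preimage_smoothLocus_eq O.ι G.s
  rw [Scheme.Hom.smoothLocus_eq_top (O.ι ≫ G.s)] at h
  exact (h ▸ Set.mem_univ _ : (⟨r, hr⟩ : (O : Scheme.{u})) ∈ O.ι ⁻¹ᵁ G.s.smoothLocus)

theorem smooth_t_of_smooth_s (h : Smooth G.s) : Smooth G.t := by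
  haveI : IsIso G.i := ⟨G.i, GrpdLib.i_i G, GrpdLib.i_i G⟩
  rw [← G.i_s]
  infer_instance

theorem smooth_of_perfect_reduced [PerfectField k] (eU : G.U ≅ Spec (CommRingCat.of k))
    [LocallyOfFiniteType G.s] [LocallyOfFiniteType G.t] [IsReduced G.R] : Smooth G.s ∧ Smooth G.t := by
  have hh : ∀ (f : G.R ⟶ G.U) [LocallyOfFiniteType f], ∃ T : G.R.Opens, Smooth (T.ι ≫ f) ∧ Dense (T : Set G.R) := by
    intro f _
    haveI : LocallyOfFinitePresentation (f ≫ eU.hom) :=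
      LocallyOfFinitePresentation.iff_locallyOfFiniteType.2 inferInstance
    refine ⟨(f ≫ eU.hom).smoothLocus, ?_, (f ≫ eU.hom).dense_smoothLocus_of_perfectField⟩
    have := smooth_ι_smoothLocus (f ≫ eU.hom)
    rw [← Category.assoc] at this
    exact (MorphismProperty.cancel_right_of_respectsIso @Smooth _ eU.hom).1 this
  obtain ⟨Ts, hTs, hds⟩ := hh G.s
  obtain ⟨Tt, hTt, hdt⟩ := hh G.t
  exact ⟨smooth_s_of_dense G k eU Ts Tt hds hdt, smooth_t_of_smooth_s G (smooth_s_of_dense G k eU Ts Tt hds hdt)⟩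

end Groth.Agent.GrpdField29
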