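import Groth.Agent.GrpdField29.Omega
import Groth.Agent.GrpdField29.Smooth
import Groth.Agent.GrpSchLib.CartierCore
import Groth.Agent.GrpOmega.Free
import Groth.Agent.OmegaLib.Affine
import Groth.Agent.OmegaUniv.Restrict
import Mathlib.RingTheory.Kaehler.TensorProduct
import Mathlib.RingTheory.Jacobson.Ring
import Mathlib.RingTheory.LocalProperties.Reduced
import Mathlib.LinearAlgebra.TensorProduct.Basis
import Mathlib.FieldTheory.IsAlgClosed.AlgebraicClosure

/-! Groupoids over fields of characteristic zero are smooth. -/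

set_option autoImplicit false
set_option backward.isDefEq.respectTransparency false
set_option backward.isDefEq.respectTransparency.types false

universe u

open CategoryTheory CategoryTheory.Limits AlgebraicGeometry Grpd TensorProduct

namespace Groth.Agent.GrpdField29

theorem isReduced_of_projective_kaehler_algClosed {K : Type u} [Field K] [IsAlgClosed K] [CharZero K]
    (B : Type u) [CommRing B] [Algebra K B] [Algebra.FiniteType K B] [Module.Projective B (Ω[B⁄K])] :
    _root_.IsReduced B := by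
  haveI : IsNoetherianRing B := Algebra.FiniteType.isNoetherianRing K B
  refine isReduced_ofLocalizationMaximal _ fun m hm => ?_
  letI : Field (B ⧸ m) := Ideal.Quotient.field m
  haveI : Algebra.FiniteType K (B ⧸ m) :=
    Algebra.FiniteType.of_surjective (Ideal.Quotient.mkₐ K m) Ideal.Quotient.mk_surjective
  haveI : Module.Finite K (B ⧸ m) := finite_of_finite_type_of_isJacobsonRing K (B ⧸ m)
  have hb : Function.Bijective (algebraMap K (B ⧸ m)) :=
    IsAlgClosed.algebraMap_bijective_of_isIntegral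
  let e : K ≃+* B ⧸ m := RingEquiv.ofBijective _ hb
  have hres : ∀ b : B, ∃ c : K, b - algebraMap K B c ∈ m := by
    intro b
    obtain ⟨c, hc⟩ := hb.2 (Ideal.Quotient.mk m b)
    exact ⟨c, Ideal.Quotient.eq.mp hc.symm⟩
  refine (GrpSchLib.isDomain_of_derivations (k := K) m hres ?_ (Localization.AtPrime m) : IsDomain (Localization.AtPrime m)) |> fun h => by
    haveI := h; infer_instance
  intro l hl1 hl
  have hlC : ∀ c : K, l (algebraMap K B c) = 0 := fun c => by
    rw [Algebra.algebraMap_eq_smul_one, map_smul, hl1, smul_zero]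
  have hleib : ∀ a b, algebraMap K (B ⧸ m) (l (a * b)) =
      Ideal.Quotient.mk m a * algebraMap K (B ⧸ m) (l b) + Ideal.Quotient.mk m b * algebraMap K (B ⧸ m) (l a) := by
    intro a b
    obtain ⟨ca, hca⟩ := hres a
    obtain ⟨cb, hcb⟩ := hres b
    have h2 : l ((a - algebraMap K B ca) * (b - algebraMap K B cb)) = 0 := by
      refine hl _ ?_
      rw [pow_two]
      exact Ideal.mul_mem_mul hca hcb
    have hab : l (a * b) = ca * l b + cb * l a := by
      have : a * b = (a - algebraMap K B ca) * (b - algebraMap K B cb) + ca • b + cb • a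
          - algebraMap K B (ca * cb) := by
        rw [Algebra.smul_def, Algebra.smul_def, map_mul]; ring
      rw [this, map_sub, map_add, map_add, h2, map_smul, map_smul, hlC, smul_eq_mul, smul_eq_mul]
      ring
    rw [hab, map_add, map_mul, map_mul]
    congr 2 <;> exact Eq.symm (Ideal.Quotient.eq.mpr (by assumption))
  let δ : Derivation K B (B ⧸ m) :=
    Derivation.mk' ((Algebra.linearMap K (B ⧸ m)).comp l) fun a b => by
      simp only [LinearMap.comp_apply, Algebra.linearMap_apply, Algebra.smul_def]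
      exact hleib a b
  obtain ⟨φ, hφ⟩ := Module.projective_lifting_property (Algebra.linearMap B (B ⧸ m)) δ.liftKaehlerDifferential
    Ideal.Quotient.mk_surjective
  refine ⟨φ.compDer (KaehlerDifferential.D K B), fun b => ?_⟩
  rw [← Ideal.Quotient.eq]
  have := LinearMap.congr_fun hφ (KaehlerDifferential.D K B b)
  rw [LinearMap.comp_apply, Derivation.liftKaehlerDifferential_comp_D] at this
  exact this

theorem isReduced_of_free_kaehler {k : Type u} [Field k] [CharZero k] (B : Type u) [CommRing B] [Algebra k B]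
    [Algebra.FiniteType k B] [Module.Free B (Ω[B⁄k])] : _root_.IsReduced B := by
  let K := AlgebraicClosure k
  haveI : CharZero K := charZero_of_injective_algebraMap (algebraMap k K).injective
  letI : Algebra B (K ⊗[k] B) := Algebra.TensorProduct.rightAlgebra
  haveI : Module.Free (K ⊗[k] B) (Ω[(K ⊗[k] B)⁄K]) :=
    Module.Free.of_equiv (KaehlerDifferential.tensorKaehlerEquiv k K B (K ⊗[k] B))
  haveI := isReduced_of_projective_kaehler_algClosed (K := K) (K ⊗[k] B)
  exact isReduced_of_injective (Algebra.TensorProduct.includeRight (R := k) (A := K) (B := B))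
    (Algebra.TensorProduct.includeRight_injective (algebraMap k K).injective)

variable {S : Scheme.{u}} (G : GroupoidScheme S) (k : Type u) [Field k]

theorem exists_free_omega_t (eU : G.U ≅ Spec (CommRingCat.of k)) [QuasiSeparated G.t] :
    ∃ I : Type u, Nonempty (Omega.sheaf G.t ≅ ∐ fun _ : I => Coh.structureModule G.R) := by
  obtain ⟨a⟩ := nonempty_omega_t_iso G
  obtain ⟨I, ⟨c⟩⟩ := GrpOmega.exists_free_pullback G.s (QCoh.isQCoh_pullback G.e
    (Synt29.OmegaStalk.isQCoh_of_isUniversal (OmegaUniv.isUniversal_dOmega G.t))) k eU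
  exact ⟨I, ⟨a.symm ≪≫ c⟩⟩

theorem isReduced_of_charZero [CharZero k] (eU : G.U ≅ Spec (CommRingCat.of k)) [LocallyOfFiniteType G.t] :
    IsReduced G.R := by
  haveI : Subsingleton G.U := eU.hom.homeomorph.subsingleton
  haveI : IsLocallyNoetherian G.U := isLocallyNoetherian_of_isOpenImmersion eU.hom
  haveI : IsLocallyNoetherian G.R := LocallyOfFiniteType.isLocallyNoetherian G.t
  haveI : QuasiSeparated G.t := inferInstance
  obtain ⟨I, ⟨eΩ⟩⟩ := exists_free_omega_t G k eU
  suffices h : ∀ W : G.R.affineOpens, IsReduced (W.1 : Scheme.{u}) by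
    haveI : ∀ x : G.R, _root_.IsReduced (G.R.presheaf.stalk x) := fun x => by
      obtain ⟨W, hW, hxW, -⟩ := exists_isAffineOpen_mem_and_subset (show x ∈ (⊤ : G.R.Opens) from trivial)
      haveI := h ⟨W, hW⟩
      exact isReduced_of_injective (W.ι.stalkMap ⟨x, hxW⟩).hom
        (asIso (W.ι.stalkMap ⟨x, hxW⟩)).commRingCatIsoToRingEquiv.injective
    exact isReduced_of_isReduced_stalk _
  intro W
  let j := W.2.fromSpec
  obtain ⟨σ, hσ⟩ := Spec.map_surjective (j ≫ G.t ≫ eU.hom)
  letI : Algebra k Γ(G.R, W.1) := σ.hom.toAlgebra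
  have hj : j ≫ G.t ≫ eU.hom = OmegaLib.sMap k Γ(G.R, W.1) := hσ.symm
  haveI : LocallyOfFiniteType (OmegaLib.sMap k Γ(G.R, W.1)) := hj ▸ inferInstance
  haveI : Algebra.FiniteType k Γ(G.R, W.1) :=
    (HasRingHomProperty.Spec_iff (P := @LocallyOfFiniteType)).mp ‹LocallyOfFiniteType (OmegaLib.sMap k Γ(G.R, W.1))›
  have w : OmegaLib.sMap k Γ(G.R, W.1) ≫ eU.inv = j ≫ G.t := by
    rw [← hj, Category.assoc, Category.assoc, eU.hom_inv_id, Category.comp_id]
  haveI : QuasiSeparated (OmegaLib.sMap k Γ(G.R, W.1)) := inferInstance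
  haveI := OmegaUniv.isIso_ε G.t (OmegaLib.sMap k Γ(G.R, W.1)) j eU.inv w
  obtain ⟨e1⟩ := OmegaLib.nonempty_iso_tilde k Γ(G.R, W.1)
  obtain ⟨e2⟩ := GrpOmega.nonempty_pullback_sigma j I
  let e3 : tilde (R := Γ(G.R, W.1)) (ModuleCat.of Γ(G.R, W.1) (Ω[Γ(G.R, W.1)⁄k])) ≅
      tilde (R := Γ(G.R, W.1)) (ModuleCat.of Γ(G.R, W.1) (I →₀ Γ(G.R, W.1))) :=
    e1.symm ≪≫ asIso (OmegaUniv.ε G.t (OmegaLib.sMap k Γ(G.R, W.1)) j eU.inv w) ≪≫
      (Scheme.Modules.restrictFunctorIsoPullback j).app _ ≪≫ (Scheme.Modules.pullback j).mapIso eΩ ≪≫ e2 ≪≫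
      (tildeFinsupp _).symm
  haveI : Module.Free Γ(G.R, W.1) (Ω[Γ(G.R, W.1)⁄k]) :=
    Module.Free.of_equiv ((tilde.fullyFaithfulFunctor (R := Γ(G.R, W.1))).preimageIso e3).toLinearEquiv.symm
  haveI : _root_.IsReduced Γ(G.R, W.1) := isReduced_of_free_kaehler (k := k) Γ(G.R, W.1)
  exact isReduced_of_isOpenImmersion W.2.isoSpec.hom

theorem smooth_of_charZero [CharZero k] (eU : G.U ≅ Spec (CommRingCat.of k))
    [LocallyOfFiniteType G.s] [LocallyOfFiniteType G.t] : Smooth G.s ∧ Smooth G.t := by
  haveI := isReduced_of_charZero G k eU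
  exact smooth_of_perfect_reduced G k eU

end Groth.Agent.GrpdField29
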