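import Groth.Agent.GrpdLib.HomField
import Mathlib.AlgebraicGeometry.IdealSheaf.Subscheme

/-! Closures of images of arrows, over a field of objects. -/

universe u

open CategoryTheory CategoryTheory.Limits AlgebraicGeometry Grpd TopologicalSpace

namespace Groth.Agent.GrpdField29

set_option backward.isDefEq.respectTransparency false
set_option backward.isDefEq.respectTransparency.types false

/-- Any morphism to an integral scheme with one point is universally open. -/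
theorem universallyOpen_of_subsingleton {X U : Scheme.{u}} [IsIntegral U] [Subsingleton U] (f : X ⟶ U) :
    UniversallyOpen f := inferInstance

/-- Over a field, the pairs over two sets are dense in the pairs over their closures. -/
theorem mem_closure_pairs {X Y U : Scheme.{u}} [IsIntegral U] [Subsingleton U] (f : X ⟶ U) (g : Y ⟶ U)
    (A : Set X) (B : Set Y) (p : ↑(pullback f g)) (h₁ : pullback.fst f g p ∈ closure A)
    (h₂ : pullback.snd f g p ∈ closure B) :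
    p ∈ closure {q : ↑(pullback f g) | pullback.fst f g q ∈ A ∧ pullback.snd f g q ∈ B} := by
  rw [mem_closure_iff]
  intro W hW hpW
  let I := Scheme.IdealSheafData.vanishingIdeal (⟨closure B, isClosed_closure⟩ : Closeds Y)
  have hr : Set.range ⇑I.subschemeι = closure B := by
    rw [Scheme.IdealSheafData.range_subschemeι, Scheme.IdealSheafData.coe_support_vanishingIdeal]
    rfl
  let M : pullback f (I.subschemeι ≫ g) ⟶ pullback f g :=
    pullback.map f (I.subschemeι ≫ g) f g (𝟙 X) I.subschemeι (𝟙 U) (by simp) (by simp)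
  have hM1 : M ≫ pullback.fst f g = pullback.fst f (I.subschemeι ≫ g) := by simp [M]
  have hM2 : M ≫ pullback.snd f g = pullback.snd f (I.subschemeι ≫ g) ≫ I.subschemeι := by simp [M]
  obtain ⟨y, hy⟩ : pullback.snd f g p ∈ Set.range ⇑I.subschemeι := hr ▸ h₂
  obtain ⟨p', hp'⟩ : p ∈ Set.range ⇑M := by
    rw [Scheme.Pullback.range_map]
    exact ⟨⟨_, rfl⟩, ⟨y, hy⟩⟩
  have hopen : IsOpenMap ⇑(pullback.fst f (I.subschemeι ≫ g)) :=
    haveI := universallyOpen_of_subsingleton (I.subschemeι ≫ g)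
    Scheme.Hom.isOpenMap _
  have h₁' : pullback.fst f (I.subschemeι ≫ g) p' ∈ closure A := by
    rw [← hM1, Scheme.Hom.comp_apply, hp']
    exact h₁
  obtain ⟨_, ⟨q, hqW, rfl⟩, hqA⟩ := mem_closure_iff.mp h₁' (pullback.fst f (I.subschemeι ≫ g) '' (⇑M ⁻¹' W))
    (hopen _ (hW.preimage (Scheme.Hom.continuous M))) ⟨p', (show M p' ∈ W from hp' ▸ hpW), rfl⟩
  let q₀ := M q
  have hq₀1 : pullback.fst f g q₀ ∈ A := by
    show pullback.fst f g (M q) ∈ A
    rw [← Scheme.Hom.comp_apply, hM1]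
    exact hqA
  have hq₀2 : pullback.snd f g q₀ ∈ closure B := by
    show pullback.snd f g (M q) ∈ closure B
    rw [← Scheme.Hom.comp_apply, hM2, Scheme.Hom.comp_apply, ← hr]
    exact ⟨_, rfl⟩
  let ξ := X.fromSpecResidueField (pullback.fst f g q₀)
  let L : pullback (ξ ≫ f) g ⟶ pullback f g :=
    pullback.map (ξ ≫ f) g f g ξ (𝟙 Y) (𝟙 U) (by simp) (by simp)
  have hL2 : L ≫ pullback.snd f g = pullback.snd (ξ ≫ f) g := by simp [L]
  obtain ⟨q₁, hq₁⟩ : q₀ ∈ Set.range ⇑L := by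
    rw [Scheme.Pullback.range_map]
    refine ⟨?_, ⟨_, rfl⟩⟩
    rw [Scheme.range_fromSpecResidueField]
    rfl
  have hopen2 : IsOpenMap ⇑(pullback.snd (ξ ≫ f) g) :=
    haveI := universallyOpen_of_subsingleton (ξ ≫ f)
    Scheme.Hom.isOpenMap _
  have h₂' : pullback.snd (ξ ≫ f) g q₁ ∈ closure B := by
    rw [← hL2, Scheme.Hom.comp_apply, hq₁]
    exact hq₀2
  obtain ⟨_, ⟨r, hrW, rfl⟩, hrB⟩ := mem_closure_iff.mp h₂' (pullback.snd (ξ ≫ f) g '' (⇑L ⁻¹' W))
    (hopen2 _ (hW.preimage (Scheme.Hom.continuous L))) ⟨q₁, (show L q₁ ∈ W from hq₁.symm ▸ hqW), rfl⟩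
  refine ⟨L r, hrW, ?_, ?_⟩
  · have h1 : L ≫ pullback.fst f g = pullback.fst (ξ ≫ f) g ≫ ξ := by simp [L]
    rw [← Scheme.Hom.comp_apply, h1, Scheme.Hom.comp_apply, Scheme.fromSpecResidueField_apply]
    exact hq₀1
  · rw [← Scheme.Hom.comp_apply, hL2]
    exact hrB

/-- A map sends pairs over closures into a closure when it sends pairs over the sets into the set. -/
theorem map_mem_closure_of_pairs {X Y Z U : Scheme.{u}} [IsIntegral U] [Subsingleton U] (f : X ⟶ U) (g : Y ⟶ U)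
    (φ : pullback f g ⟶ Z) (A : Set X) (B : Set Y) (C : Set Z)
    (hABC : ∀ q : ↑(pullback f g), pullback.fst f g q ∈ A → pullback.snd f g q ∈ B → φ q ∈ C)
    (p : ↑(pullback f g)) (h₁ : pullback.fst f g p ∈ closure A)
    (h₂ : pullback.snd f g p ∈ closure B) : φ p ∈ closure C :=
  map_mem_closure (Scheme.Hom.continuous φ) (mem_closure_pairs f g A B p h₁ h₂) fun q hq => hABC q hq.1 hq.2

/-- Two points of a field-valued pair with lifts along `a` and `b` have a common field of lifts. -/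
theorem exists_field_lift₂ {X₁ X₂ X Y P : Scheme.{u}} (a : X₁ ⟶ X) (b : X₂ ⟶ Y) (π₁ : P ⟶ X) (π₂ : P ⟶ Y)
    (q : P) (h₁ : π₁ q ∈ Set.range ⇑a) (h₂ : π₂ q ∈ Set.range ⇑b) :
    ∃ (L : Type u) (_ : Field L) (ξ : Spec (CommRingCat.of L) ⟶ P) (x₁ : Spec (CommRingCat.of L) ⟶ X₁)
      (x₂ : Spec (CommRingCat.of L) ⟶ X₂), x₁ ≫ a = ξ ≫ π₁ ∧ x₂ ≫ b = ξ ≫ π₂ ∧
        ξ (IsLocalRing.closedPoint L) = q := by
  let ξ₀ := P.fromSpecResidueField q
  have hξ : ∀ z, ξ₀ z = q := fun z => Scheme.fromSpecResidueField_apply _ _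
  obtain ⟨L₁, _, g₁, y₁, e₁⟩ := GrpdLib.exists_field_lift a (P.residueField q) (ξ₀ ≫ π₁) (by
    show π₁ (ξ₀ _) ∈ _
    convert h₁
    exact hξ _)
  obtain ⟨L, _, g₂, x₂, e₂⟩ := GrpdLib.exists_field_lift b L₁ (g₁ ≫ ξ₀ ≫ π₂) (by
    show π₂ (ξ₀ _) ∈ _
    convert h₂
    exact hξ _)
  exact ⟨L, inferInstance, g₂ ≫ g₁ ≫ ξ₀, g₂ ≫ y₁, x₂, by simp [e₁], by simp [e₂], by
    rw [Scheme.Hom.comp_apply, Scheme.Hom.comp_apply]
    exact hξ _⟩

theorem c_mem_closure {S : Scheme.{u}} {G₁ G₂ : GroupoidScheme S} (a : GroupoidScheme.Hom G₁ G₂) [IsIso a.fU]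
    (k : Type u) [Field k] (eU : G₂.U ≅ Spec (CommRingCat.of k)) (p : ↑(pullback G₂.s G₂.t))
    (h₁ : pullback.fst G₂.s G₂.t p ∈ closure (Set.range ⇑a.fR))
    (h₂ : pullback.snd G₂.s G₂.t p ∈ closure (Set.range ⇑a.fR)) :
    G₂.c p ∈ closure (Set.range ⇑a.fR) := by
  have : Nonempty G₂.U := ⟨eU.inv (IsLocalRing.closedPoint k)⟩
  have : IsIntegral G₂.U := isIntegral_of_isOpenImmersion eU.hom
  have : Subsingleton G₂.U := eU.hom.homeomorph.subsingleton
  refine map_mem_closure_of_pairs G₂.s G₂.t G₂.c _ _ _ (fun q hq₁ hq₂ => ?_) p h₁ h₂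
  obtain ⟨L, _, ξ, x₁, x₂, e₁, e₂, eξ⟩ :=
    exists_field_lift₂ a.fR a.fR (pullback.fst G₂.s G₂.t) (pullback.snd G₂.s G₂.t) q hq₁ hq₂
  have hst : x₁ ≫ G₁.s = x₂ ≫ G₁.t := by
    rw [← cancel_mono a.fU, Category.assoc, Category.assoc, ← a.comm_s, ← a.comm_t, reassoc_of% e₁,
      reassoc_of% e₂, pullback.condition]
  refine ⟨(pullback.lift x₁ x₂ hst ≫ G₁.c) (IsLocalRing.closedPoint L), ?_⟩
  have e : (pullback.lift x₁ x₂ hst ≫ G₁.c) ≫ a.fR = ξ ≫ G₂.c := by
    rw [a.comm_c]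
    congr 1
    apply pullback.hom_ext <;> simp [e₁, e₂]
  rw [← Scheme.Hom.comp_apply, e, Scheme.Hom.comp_apply, eξ]

theorem pr02_mem_closure {S : Scheme.{u}} (G : GroupoidScheme S) (k : Type u) [Field k]
    (eU : G.U ≅ Spec (CommRingCat.of k))
    (pr02 : pullback (pullback.snd G.pU G.pU) (pullback.fst G.pU G.pU) ⟶ pullback G.pU G.pU)
    (h0 : pr02 ≫ pullback.fst G.pU G.pU =
      pullback.fst (pullback.snd G.pU G.pU) (pullback.fst G.pU G.pU) ≫ pullback.fst G.pU G.pU)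
    (h1 : pr02 ≫ pullback.snd G.pU G.pU =
      pullback.snd (pullback.snd G.pU G.pU) (pullback.fst G.pU G.pU) ≫ pullback.snd G.pU G.pU)
    (p : ↑(pullback (pullback.snd G.pU G.pU) (pullback.fst G.pU G.pU)))
    (h₁ : pullback.fst (pullback.snd G.pU G.pU) (pullback.fst G.pU G.pU) p ∈ closure (Set.range ⇑G.j))
    (h₂ : pullback.snd (pullback.snd G.pU G.pU) (pullback.fst G.pU G.pU) p ∈ closure (Set.range ⇑G.j)) :
    pr02 p ∈ closure (Set.range ⇑G.j) := by
  have : Nonempty G.U := ⟨eU.inv (IsLocalRing.closedPoint k)⟩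
  have : IsIntegral G.U := isIntegral_of_isOpenImmersion eU.hom
  have : Subsingleton G.U := eU.hom.homeomorph.subsingleton
  refine map_mem_closure_of_pairs (pullback.snd G.pU G.pU) (pullback.fst G.pU G.pU) pr02 _ _ _
    (fun q hq₁ hq₂ => ?_) p h₁ h₂
  obtain ⟨L, _, ξ, x₁, x₂, e₁, e₂, eξ⟩ := exists_field_lift₂ G.j G.j
    (pullback.fst (pullback.snd G.pU G.pU) (pullback.fst G.pU G.pU))
    (pullback.snd (pullback.snd G.pU G.pU) (pullback.fst G.pU G.pU)) q hq₁ hq₂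
  have hst : x₁ ≫ G.s = x₂ ≫ G.t := by
    rw [← GrpdLib.j_snd, ← GrpdLib.j_fst, reassoc_of% e₁, reassoc_of% e₂, pullback.condition]
  refine ⟨(pullback.lift x₁ x₂ hst ≫ G.c) (IsLocalRing.closedPoint L), ?_⟩
  have e : (pullback.lift x₁ x₂ hst ≫ G.c) ≫ G.j = ξ ≫ pr02 := by
    apply pullback.hom_ext
    · rw [Category.assoc, GrpdLib.j_fst, G.comp_t, Category.assoc, h0, ← reassoc_of% e₁, GrpdLib.j_fst]
    · rw [Category.assoc, GrpdLib.j_snd, G.comp_s, Category.assoc, h1, ← reassoc_of% e₂, GrpdLib.j_snd]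
  rw [← Scheme.Hom.comp_apply, e, Scheme.Hom.comp_apply, eξ]

end Groth.Agent.GrpdField29
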