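import Groth.Agent.GrpdField29.EquiDim
import Groth.Agent.GrpdField29.AlgUnits

/-! The dimension of a groupoid over a field is that of its stabilizer. -/

set_option autoImplicit false
set_option backward.isDefEq.respectTransparency false
set_option backward.isDefEq.respectTransparency.types false

universe u

open CategoryTheory CategoryTheory.Limits AlgebraicGeometry Grpd
open Groth.Agent.FibDim

namespace Groth.Agent.GrpdField29

theorem tdeg_specMap_algebraic {k L : Type u} [Field k] [Field L] [Algebra k L] [Algebra.IsAlgebraic k L]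
    (pt : Spec (CommRingCat.of L)) :
    VarDim.tdeg (Spec.map (CommRingCat.ofHom (algebraMap k L))) pt = 0 := by
  let X := Spec (CommRingCat.of L)
  let ev : L →+* X.residueField pt :=
    ((Scheme.ΓSpecIso (CommRingCat.of L)).inv ≫ X.presheaf.germ ⊤ pt trivial ≫ X.residue pt).hom
  letI : Algebra k (X.residueField pt) := (VarDim.resHom (Spec.map (CommRingCat.ofHom (algebraMap k L))) pt).toAlgebra
  have hcomm : ∀ c : k, ev (algebraMap k L c) = algebraMap k (X.residueField pt) c := by
    intro c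
    show X.residue pt (X.presheaf.germ ⊤ pt trivial ((Scheme.ΓSpecIso (CommRingCat.of L)).inv _)) =
      X.residue pt (X.presheaf.germ ⊤ pt trivial _)
    congr 2
    exact congr($(Scheme.ΓSpecIso_inv_naturality (CommRingCat.ofHom (algebraMap k L))) c)
  let ev' : L →ₐ[k] X.residueField pt := { ev with commutes' := hcomm }
  have hsurj : Function.Surjective ev' := by
    intro z
    obtain ⟨z, rfl⟩ := (Scheme.Spec.residueFieldIso (CommRingCat.of L) pt).commRingCatIsoToRingEquiv.symm.surjective z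
    obtain ⟨a, ha⟩ : ∃ a : L, algebraMap L pt.asIdeal.ResidueField a = z := by
      haveI : pt.asIdeal.IsMaximal := by
        rw [Subsingleton.elim pt ⟨⊥, Ideal.isPrime_bot⟩]
        exact Ideal.bot_isMaximal
      obtain ⟨a, rfl⟩ := Ideal.algebraMap_residueField_surjective pt.asIdeal z
      exact ⟨a, rfl⟩
    refine ⟨a, ?_⟩
    rw [← ha]
    exact (congr($(Scheme.Spec.algebraMap_residueFieldIso_inv (CommRingCat.of L) pt) a)).symm
  haveI : Algebra.IsIntegral k (X.residueField pt) := Algebra.IsIntegral.of_surjective ev' hsurj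
  haveI : Algebra.IsAlgebraic k (X.residueField pt) := Algebra.IsIntegral.isAlgebraic
  exact trdeg_eq_zero

theorem rdeg_specMap_algebraic {k L : Type u} [Field k] [Field L] [Algebra k L] [Algebra.IsAlgebraic k L]
    (pt : Spec (CommRingCat.of L)) :
    VarDim.rdeg (Spec.map (CommRingCat.ofHom (algebraMap k L))) pt = 0 := by
  rw [← VarDim.tdeg_eq_rdeg]
  exact tdeg_specMap_algebraic pt

variable {S : Scheme.{u}} (G : GroupoidScheme S) (k : Type u) [Field k]

set_option synthInstance.maxHeartbeats 200000 in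
theorem rdeg_fst_j_eq_zero (eU : G.U ≅ Spec (CommRingCat.of k)) [LocallyOfFiniteType G.t] (η : G.R) :
    VarDim.rdeg (pullback.fst G.pU G.pU) (G.j η) = 0 := by
  obtain ⟨W, hW, hηW, -⟩ := exists_isAffineOpen_mem_and_subset (show η ∈ (⊤ : G.R.Opens) from trivial)
  obtain ⟨q, hq⟩ : η ∈ Set.range hW.fromSpec := by rw [hW.range_fromSpec]; exact hηW
  let B := Γ(G.R, W)
  obtain ⟨τ, hτ⟩ := Spec.map_surjective (hW.fromSpec ≫ G.t ≫ eU.hom)
  obtain ⟨σ, hσ⟩ := Spec.map_surjective (hW.fromSpec ≫ G.s ≫ eU.hom)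
  letI : Algebra k B := τ.hom.toAlgebra
  have hBft : LocallyOfFiniteType (Spec.map (CommRingCat.ofHom (algebraMap k B))) := by
    show LocallyOfFiniteType (Spec.map τ)
    rw [hτ]; infer_instance
  haveI : Algebra.FiniteType k B := (HasRingHomProperty.Spec_iff (P := @LocallyOfFiniteType)).mp hBft
  let C := B ⧸ q.asIdeal
  haveI : Algebra.FiniteType k C :=
    Algebra.FiniteType.of_surjective (Ideal.Quotient.mkₐ k q.asIdeal) Ideal.Quotient.mk_surjective
  let L := FractionRing C
  let Ka := algebraicClosure k L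
  let φ : CommRingCat.of B ⟶ CommRingCat.of L :=
    CommRingCat.ofHom ((algebraMap C L).comp (Ideal.Quotient.mk q.asIdeal))
  have hmem : ∀ a : k, φ.hom (σ.hom a) ∈ Ka := by
    intro a
    exact mem_algebraicClosure_iff.mpr
      ((isAlgebraic_fieldHom (k := k) (B := C) ((Ideal.Quotient.mk q.asIdeal).comp σ.hom) a).algHom
        (IsScalarTower.toAlgHom k C L))
  let σ' : k →+* Ka := (φ.hom.comp σ.hom).codRestrict Ka hmem
  let ι : CommRingCat.of Ka ⟶ CommRingCat.of L := CommRingCat.ofHom Ka.val.toRingHom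
  let a₀ : Spec (CommRingCat.of Ka) ⟶ G.U := Spec.map (CommRingCat.ofHom (algebraMap k Ka)) ≫ eU.inv
  let b₀ : Spec (CommRingCat.of Ka) ⟶ G.U := Spec.map (CommRingCat.ofHom σ') ≫ eU.inv
  let ξ : Spec (CommRingCat.of L) ⟶ G.R := Spec.map φ ≫ hW.fromSpec
  have ht : Spec.map ι ≫ a₀ = ξ ≫ G.t := by
    rw [← cancel_mono eU.hom]
    simp only [a₀, ξ, Category.assoc, eU.inv_hom_id, Category.comp_id]
    rw [← hτ, ← Spec.map_comp, ← Spec.map_comp]
    congr 1
  have hs : Spec.map ι ≫ b₀ = ξ ≫ G.s := by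
    rw [← cancel_mono eU.hom]
    simp only [b₀, ξ, Category.assoc, eU.inv_hom_id, Category.comp_id]
    rw [← hσ, ← Spec.map_comp, ← Spec.map_comp]
    congr 1
  haveI : Flat (Spec.map ι) := by
    rw [HasRingHomProperty.Spec_iff (P := @Flat)]
    show ι.hom.Flat
    letI := ι.hom.toAlgebra
    haveI : Module.Free Ka L := Module.Free.of_divisionRing Ka L
    exact RingHom.flat_algebraMap_iff.mpr (Module.Flat.of_free (R := Ka) (M := L))
  haveI : Surjective (Spec.map ι) := ⟨fun x => ⟨⟨⊥, Ideal.isPrime_bot⟩, Subsingleton.elim _ _⟩⟩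
  haveI := Flat.epi_of_flat_of_surjective (Spec.map ι)
  have hcond : a₀ ≫ G.pU = b₀ ≫ G.pU := by
    rw [← cancel_epi (Spec.map ι), reassoc_of% ht, reassoc_of% hs, G.t_over, G.s_over]
  let χ := pullback.lift a₀ b₀ hcond
  have hχ : Spec.map ι ≫ χ = ξ ≫ G.j := by
    apply pullback.hom_ext
    · rw [Category.assoc (Spec.map ι), pullback.lift_fst, ht, Category.assoc ξ G.j, GrpdLib.j_fst]
    · rw [Category.assoc (Spec.map ι), pullback.lift_snd, hs, Category.assoc ξ G.j, GrpdLib.j_snd]
  let pt : Spec (CommRingCat.of L) := (⟨⊥, Ideal.isPrime_bot⟩ : PrimeSpectrum L)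
  have hpt : χ (Spec.map ι pt) = G.j η := by
    rw [← Scheme.Hom.comp_apply, hχ, Scheme.Hom.comp_apply, Scheme.Hom.comp_apply]
    congr 1
    rw [← hq]
    congr 1
    refine PrimeSpectrum.ext ?_
    show (⊥ : Ideal L).comap φ.hom = q.asIdeal
    rw [← RingHom.ker_eq_comap_bot]
    show RingHom.ker ((algebraMap C L).comp (Ideal.Quotient.mk q.asIdeal)) = q.asIdeal
    rw [RingHom.ker_comp_of_injective _ (IsFractionRing.injective C L), Ideal.mk_ker]
  have h0 : VarDim.rdeg (χ ≫ pullback.fst G.pU G.pU) (Spec.map ι pt) = 0 := by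
    rw [VarDim.rdeg_congr (pullback.lift_fst _ _ _), VarDim.rdeg_comp, VarDim.rdeg_preimmersion, zero_add]
    exact rdeg_specMap_algebraic _
  rw [VarDim.rdeg_comp, hpt] at h0
  exact (add_eq_zero.mp h0).1

theorem dim_eq_dim_stabilizer (eU : G.U ≅ Spec (CommRingCat.of k)) [LocallyOfFiniteType G.s]
    [LocallyOfFiniteType G.t] : topologicalKrullDim G.R = topologicalKrullDim G.stabilizer := by
  have : Subsingleton G.U := eU.hom.homeomorph.subsingleton
  haveI : IsImmersion (G.diag ≫ pullback.fst G.pU G.pU) := by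
    rw [GrpdLib.diag_fst]; infer_instance
  haveI : IsImmersion G.diag := IsImmersion.of_comp G.diag (pullback.fst G.pU G.pU)
  haveI : IsImmersion (GrpdLib.stabι G) := MorphismProperty.pullback_fst _ _ inferInstance
  haveI : LocallyOfFiniteType G.stabilizerToU := by
    rw [← GrpdLib.stabι_t]; infer_instance
  haveI : LocallyOfFiniteType (G.j ≫ pullback.fst G.pU G.pU) := by
    rw [GrpdLib.j_fst]; infer_instance
  haveI : LocallyOfFiniteType G.j := locallyOfFiniteType_of_comp G.j (pullback.fst G.pU G.pU)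
  refine le_antisymm ?_ ?_
  · rw [topologicalKrullDim_eq_iSup_rd G.t, topologicalKrullDim_eq_iSup_rd G.stabilizerToU]
    refine iSup_le fun η => ?_
    have hrd : rd G.t η = rd G.j η := by
      have h1 := FibDim.rd_eq_rdeg G.t η
      have h2 := FibDim.rd_eq_rdeg G.j η
      rw [← VarDim.rdeg_congr (GrpdLib.j_fst G) η, VarDim.rdeg_comp, rdeg_fst_j_eq_zero G k eU η, zero_add,
        ← h2] at h1
      exact_mod_cast h1
    let α : pullback G.stabilizerToU G.t ⟶ pullback G.s G.t :=
      pullback.lift (pullback.fst G.stabilizerToU G.t ≫ GrpdLib.stabι G) (pullback.snd G.stabilizerToU G.t)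
        (by rw [Category.assoc, GrpdLib.stabι_s, pullback.condition])
    have hsq := GrpdLib.isPullback_stab_t G α (pullback.lift_fst _ _ _) (pullback.lift_snd _ _ _)
    obtain ⟨z, -, -, hz⟩ := exists_rd_baseChange_eq hsq η η rfl
    refine le_iSup_of_le (pullback.fst G.stabilizerToU G.t z) ?_
    have h3 := rd_baseChange_le (IsPullback.of_hasPullback G.stabilizerToU G.t) z
    rw [hz] at h3
    rw [hrd]
    exact_mod_cast h3
  · rw [topologicalKrullDim_eq_iSup_rd G.t, topologicalKrullDim_eq_iSup_rd G.stabilizerToU]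
    refine iSup_le fun g => le_iSup_of_le (GrpdLib.stabι G g) ?_
    have h1 := FibDim.rd_eq_rdeg G.stabilizerToU g
    rw [← VarDim.rdeg_congr (GrpdLib.stabι_t G) g, VarDim.rdeg_comp, VarDim.rdeg_preimmersion (GrpdLib.stabι G), add_zero,
      ← FibDim.rd_eq_rdeg G.t] at h1
    rw [Nat.cast_inj.mp h1]

end Groth.Agent.GrpdField29
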