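import Groth.Agent.GrpdField29.Closure
import Groth.Agent.FibDim.BaseField
import Groth.Agent.FibDim.Basic
import Groth.Agent.VarDim.Local

/-! Groupoids over a field are equidimensional. -/

set_option backward.isDefEq.respectTransparency false
set_option backward.isDefEq.respectTransparency.types false

universe u

open CategoryTheory CategoryTheory.Limits AlgebraicGeometry Grpd TopologicalSpace
open Groth.Agent.FibDim

namespace Groth.Agent.GrpdField29

variable {S : Scheme.{u}} (G : GroupoidScheme S)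

theorem rd_eq_of_subsingleton {X Y : Scheme.{u}} (f g : X ⟶ Y) [LocallyOfFiniteType f] [LocallyOfFiniteType g]
    [Subsingleton Y] (x : X) : rd f x = rd g x := by
  have h1 := FibDim.topologicalKrullDim_closure f x
  rw [FibDim.topologicalKrullDim_closure g x] at h1
  exact_mod_cast h1.symm

/-- The degrees over the two factors add up at a maximal point of a fibre product over a point. -/
theorem rd_pullback_max {A B P Y : Scheme.{u}} {f : A ⟶ Y} {g : B ⟶ Y} {p : P ⟶ A} {q : P ⟶ B}
    (h : IsPullback p q f g) [LocallyOfFiniteType f] [LocallyOfFiniteType g] (w : P)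
    (hw : ∀ z, z ⤳ w → z = w) : rd (p ≫ f) w = rd f (p w) + rd g (q w) := by
  haveI : LocallyOfFiniteType p := MorphismProperty.of_isPullback (P := @LocallyOfFiniteType) h.flip inferInstance
  rw [rd_comp, rd_baseChange_eq_of_minimal h.flip w fun v hv _ _ => hw v hv]

theorem max_map {X Y : Scheme.{u}} (f : X ⟶ Y) [Flat f] {w : X} (hw : ∀ z, z ⤳ w → z = w) :
    ∀ z, z ⤳ f w → z = f w := by
  intro z hz
  obtain ⟨v, hv, rfl⟩ := Flat.generalizingMap f hz
  rw [hw v hv]

variable (k : Type u) [Field k]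

theorem exists_dim [LocallyOfFiniteType G.s] [LocallyOfFiniteType G.t] (eU : G.U ≅ Spec (CommRingCat.of k)) :
    ∃ d : ℕ, ∀ η : G.R, (∀ z, z ⤳ η → z = η) → rd G.s η = d := by
  have : Nonempty G.U := ⟨eU.inv (IsLocalRing.closedPoint k)⟩
  have : IsIntegral G.U := isIntegral_of_isOpenImmersion eU.hom
  have : Subsingleton G.U := eU.hom.homeomorph.subsingleton
  have : Flat G.s := inferInstance
  have : Flat G.t := inferInstance
  haveI : LocallyOfFiniteType G.c :=
    MorphismProperty.of_isPullback (P := @LocallyOfFiniteType) (GrpdLib.isPullback_fst_c G) inferInstance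
  haveI : Flat G.c := MorphismProperty.of_isPullback (P := @Flat) (GrpdLib.isPullback_fst_c G) inferInstance
  have key : ∀ w : ↑(pullback G.s G.t), (∀ z, z ⤳ w → z = w) →
      rd G.s (pullback.snd G.s G.t w) = rd G.s (G.c w) := by
    intro w hw
    have h1 := rd_pullback_max (IsPullback.of_hasPullback G.s G.t) w hw
    have h2 := rd_pullback_max (GrpdLib.isPullback_fst_c G) w hw
    have h3 := rd_pullback_max (GrpdLib.isPullback_snd_c G) w hw
    rw [rd_eq_of_subsingleton (pullback.fst G.s G.t ≫ G.t) (pullback.fst G.s G.t ≫ G.s) w] at h2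
    rw [rd_eq_of_subsingleton (pullback.snd G.s G.t ≫ G.s) (pullback.fst G.s G.t ≫ G.s) w] at h3
    rw [rd_eq_of_subsingleton G.t G.s] at h1
    simp only [rd_eq_of_subsingleton G.t G.s] at h2
    omega
  obtain ⟨η₀, -, hη₀⟩ := exists_maximal_generization (G.e (eU.inv (IsLocalRing.closedPoint k)))
  refine ⟨rd G.s η₀, fun η hη => ?_⟩
  obtain ⟨v, hv1, hv2⟩ := Scheme.exists_preimage_of_isPullback (GrpdLib.isPullback_snd_c G) η η₀ (Subsingleton.elim _ _)
  obtain ⟨w, hwv, hw⟩ := exists_maximal_generization v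
  have := key w hw
  have e1 : pullback.snd G.s G.t w = η := hη _ (hv1 ▸ hwv.map (Scheme.Hom.continuous _))
  have e2 : G.c w = η₀ := hη₀ _ (hv2 ▸ hwv.map (Scheme.Hom.continuous _))
  rwa [e1, e2] at this

variable [LocallyOfFiniteType G.s] [LocallyOfFiniteType G.t]

theorem dim_eq (eU : G.U ≅ Spec (CommRingCat.of k)) {d : ℕ}
    (hd : ∀ η : G.R, (∀ z, z ⤳ η → z = η) → rd G.s η = d) :
    topologicalKrullDim ↥G.R = ((d : ℕ∞) : WithBot ℕ∞) := by
  have : Subsingleton G.U := eU.hom.homeomorph.subsingleton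
  rw [topologicalKrullDim_eq_iSup_rd G.s]
  refine le_antisymm (iSup_le fun x => ?_) ?_
  · obtain ⟨η, hηx, hη⟩ := exists_maximal_generization x
    have := rd_le_of_specializes G.s hηx (Subsingleton.elim _ _)
    rw [hd η hη] at this
    exact_mod_cast this
  · obtain ⟨η, -, hη⟩ := exists_maximal_generization (G.e (eU.inv (IsLocalRing.closedPoint k)))
    exact le_iSup_of_le η (by rw [hd η hη])

theorem component_dim (eU : G.U ≅ Spec (CommRingCat.of k)) :
    ∀ Z ∈ irreducibleComponents ↥G.R, topologicalKrullDim ↥Z = topologicalKrullDim ↥G.R := by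
  intro Z hZ
  have : Subsingleton G.U := eU.hom.homeomorph.subsingleton
  obtain ⟨d, hd⟩ := exists_dim G k eU
  obtain ⟨w, rfl, hw⟩ := FDescent.exists_maximal_of_mem_irreducibleComponents hZ
  rw [FibDim.topologicalKrullDim_closure G.s, hd w hw, dim_eq G k eU hd]

theorem localDim_eq (eU : G.U ≅ Spec (CommRingCat.of k)) (r : G.R) :
    FlatMor.localDim ↥G.R r = topologicalKrullDim ↥G.R := by
  have : Subsingleton G.U := eU.hom.homeomorph.subsingleton
  obtain ⟨d, hd⟩ := exists_dim G k eU
  refine le_antisymm (iInf_le_of_le ⟨⊤, trivial⟩ (topologicalKrullDim_subspace_le _ _)) (le_iInf ?_)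
  rintro ⟨U, hU⟩
  obtain ⟨η, hηr, hη⟩ := exists_maximal_generization r
  let U' : G.R.Opens := U
  rw [dim_eq G k eU hd]
  refine le_of_le_of_eq ?_ (topologicalKrullDim_eq_iSup_rd (U'.ι ≫ G.s)).symm
  exact le_iSup_of_le (⟨η, hηr.mem_open U.isOpen hU⟩ : (U' : Scheme.{u}))
    (by rw [rd_opens G.s U']; exact le_of_eq (by rw [← hd η hη]; rfl))

theorem ringKrullDim_closed (eU : G.U ≅ Spec (CommRingCat.of k)) (r : G.R) (hr : IsClosed ({r} : Set G.R)) :
    ringKrullDim (G.R.presheaf.stalk r) = topologicalKrullDim G.R := by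
  have : Subsingleton G.U := eU.hom.homeomorph.subsingleton
  obtain ⟨d, hd⟩ := exists_dim G k eU
  let f := G.s ≫ eU.hom
  have : Subsingleton ↥(Spec (CommRingCat.of k)) := FibDim.subsingleton_spec_field k
  have hdeg : ∀ x, VarDim.deg f x = rd G.s x := by
    intro x
    have h1 := FibDim.rd_eq_rdeg f x
    rw [← VarDim.tdeg_eq_rdeg] at h1
    have h2 : rd f x = rd G.s x := by
      have a := FibDim.topologicalKrullDim_closure f x
      rw [FibDim.topologicalKrullDim_closure G.s x] at a
      exact_mod_cast a.symm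
    rw [VarDim.deg, ← h1, h2, Cardinal.toNat_natCast]
  have h0 : VarDim.deg f r = 0 := (VarDim.closedPoint_iff_deg_eq_zero f r).1 hr
  obtain ⟨b, hb, ⟨η₁, hη₁r, hη₁⟩, hmax⟩ := VarDim.exists_deg_add_stalk f r
  obtain ⟨η, hη', hη⟩ := exists_maximal_generization η₁
  have h3 : rd G.s η₁ ≤ d := (rd_le_of_specializes G.s hη' (Subsingleton.elim _ _)).trans_eq (hd η hη)
  have h4 := hmax η (hη'.trans hη₁r)
  rw [hdeg, hd η hη, h0] at h4
  rw [hdeg, h0] at hη₁
  rw [hb, dim_eq G k eU hd, show b = d by omega]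
  rfl

end Groth.Agent.GrpdField29
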