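import Groth.Agent.GrpdField29.EtaleCore

/-! Invariants of a finite étale algebra with separated geometric points are finite étale. -/

set_option autoImplicit false
set_option backward.isDefEq.respectTransparency false
set_option backward.isDefEq.respectTransparency.types false

universe u

open scoped TensorProduct
open Polynomial Matrix

namespace Groth.Agent.GrpdLib

/-- Over a separably closed field, a separating ring of elements spans a split étale algebra. -/
theorem span_eq_top_of_separates {L E : Type u} [Field L] [CommRing E] {d : ℕ} (f : E →+* (Fin d → L))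
    (h : ∀ p q, p ≠ q → ∃ x, f x p ≠ f x q) : Submodule.span L (Set.range f) = ⊤ := by
  classical
  let S : Submonoid (Fin d → L) := (⊤ : Submonoid E).map (f : E →* (Fin d → L))
  have hS : Submodule.span L (S : Set (Fin d → L)) = (Algebra.adjoin L (Set.range f)).toSubmodule := by
    rw [Algebra.adjoin_eq_span]
    have e : Submonoid.closure (Set.range f) = S := by
      refine le_antisymm (Submonoid.closure_le.2 ?_) ?_
      · rintro _ ⟨x, rfl⟩
        exact ⟨x, trivial, rfl⟩
      · rintro _ ⟨x, -, rfl⟩
        exact Submonoid.subset_closure ⟨x, rfl⟩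
    rw [e]
  have hr : (S : Set (Fin d → L)) = Set.range f := by
    ext y
    simp [S]
  rw [← hr, hS, eq_top_iff]
  intro z _
  rw [Subalgebra.mem_toSubmodule]
  set T := Algebra.adjoin L (Set.range f)
  have hδ : ∀ p, (Pi.single p (1 : L) : Fin d → L) ∈ T := fun p => by
    have hp : ∀ q ∈ Finset.univ.erase p, ∃ w ∈ T, w p = 1 ∧ w q = 0 := fun q hq => by
      obtain ⟨x, hx⟩ := h p q (Finset.ne_of_mem_erase hq).symm
      refine ⟨(f x p - f x q)⁻¹ • (f x - algebraMap L _ (f x q)), T.smul_mem (sub_mem
        (Algebra.subset_adjoin ⟨x, rfl⟩) (T.algebraMap_mem _)) _, ?_, by simp⟩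
      simp [sub_ne_zero.2 hx]
    choose! w hwT hwp hwq using hp
    have e : (∏ q ∈ Finset.univ.erase p, w q) = Pi.single p (1 : L) := by
      funext r
      rw [Finset.prod_apply]
      rcases eq_or_ne r p with rfl | hr
      · rw [Pi.single_eq_same, Finset.prod_eq_one hwp]
      · rw [Pi.single_eq_of_ne hr]
        exact Finset.prod_eq_zero (Finset.mem_erase.2 ⟨hr, Finset.mem_univ _⟩) (hwq r (by simp [hr]))
    rw [← e]
    exact prod_mem hwT
  rw [pi_eq_sum_univ' z]
  exact sum_mem fun p _ => T.smul_mem (hδ p) _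

variable {N A E W : Type u} [CommRing N] [CommRing A] [CommRing E] [CommRing W] [Algebra N A] [Algebra N E]
  [Algebra N W] [Algebra A W] [Algebra E W] [IsScalarTower N A W] [IsScalarTower N E W]
  [Algebra.Etale A W] [Module.Finite A W] [Algebra.IsIntegral N A] [FaithfulSMul N A]
  {n : ℕ} (F : Frame (algebraMap A W) n)
  (hgeom : ∀ (L : Type u) [Field L] [IsAlgClosed L] (x y : W →+* L),
    x.comp (algebraMap A W) = y.comp (algebraMap A W) → x.comp (algebraMap E W) = y.comp (algebraMap E W) → x = y)
  (hTr : ∀ x : E, F.tr (algebraMap E W x) ∈ Set.range (algebraMap N A))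
  (hrk : ∀ k, F.rankPoly.coeff k ∈ Set.range (algebraMap N A))

include hgeom in
/-- Near each prime, invariant elements have nondegenerate trace pairing and full rank. -/
theorem exists_good (m : Ideal N) [m.IsPrime] : ∃ (d : ℕ) (θ : Fin d → E) (p : Ideal A), p.IsPrime ∧
    p.comap (algebraMap N A) = m ∧
      (Matrix.of fun i j => F.tr (algebraMap E W (θ i) * algebraMap E W (θ j))).det * F.rankPoly.coeff d ∉ p := by
  obtain ⟨⟨p, hp⟩, hpm⟩ := Algebra.IsIntegral.comap_surjective (R := N) (S := A)
    ⟨m, ‹_›⟩
  let L := AlgebraicClosure p.ResidueField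
  let e₀ := Algebra.FormallyEtale.equivPiOfIsSepClosed L (L ⊗[A] W)
  have : Finite (PrimeSpectrum (L ⊗[A] W)) :=
    have : IsArtinianRing (L ⊗[A] W) := isArtinian_of_tower L inferInstance
    inferInstance
  let := Fintype.ofFinite (PrimeSpectrum (L ⊗[A] W))
  let d := Fintype.card (PrimeSpectrum (L ⊗[A] W))
  let e : L ⊗[A] W ≃ₐ[L] (Fin d → L) := e₀.trans (AlgEquiv.piCongrLeft L (fun _ : Fin d => L) (Fintype.equivFin _))
  let g : W →+* L ⊗[A] W := (Algebra.TensorProduct.includeRight : W →ₐ[A] L ⊗[A] W).toRingHom
  let x : Fin d → (W →+* L) := fun i => (Pi.evalRingHom (fun _ => L) i).comp (e.toAlgHom.toRingHom.comp g)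
  have hxA : ∀ i a, x i (algebraMap A W a) = algebraMap A L a := fun i a => by
    show e (g (algebraMap A W a)) i = _
    have : g (algebraMap A W a) = algebraMap L (L ⊗[A] W) (algebraMap A L a) := by
      show (Algebra.TensorProduct.includeRight : W →ₐ[A] L ⊗[A] W) (algebraMap A W a) = _
      rw [AlgHom.commutes, ← IsScalarTower.algebraMap_apply]
    rw [this, AlgEquiv.commutes]
    rfl
  have hx : ∀ i j, x i = x j → i = j := fun i j h => by
    by_contra hne
    have hlin : ∀ z, e z i = e z j := fun z => by
      refine z.induction_on (by simp) (fun l w => ?_) (fun z w hz hw => by simp [hz, hw])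
      rw [show l ⊗ₜ[A] w = l • g w by simp [g, TensorProduct.smul_tmul'], map_smul, Pi.smul_apply, Pi.smul_apply]
      exact congrArg (fun r => l • r) (RingHom.congr_fun h w)
    have := hlin (e.symm (Pi.single i 1))
    simp [hne] at this
  let f : E →+* (Fin d → L) := Pi.ringHom fun i => (x i).comp (algebraMap E W)
  have hf : Submodule.span L (Set.range f) = ⊤ := span_eq_top_of_separates f fun i j hij => by
    by_contra h
    push Not at h
    exact hij (hx i j (hgeom L _ _ (RingHom.ext fun a => (hxA i a).trans (hxA j a).symm)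
      (RingHom.ext fun z => h z)))
  obtain ⟨b, hb, -, hind⟩ := Submodule.exists_fun_fin_finrank_span_eq L (Set.range f)
  have hdim : Module.finrank L (Submodule.span L (Set.range f)) = d := by
    rw [hf, finrank_top, Module.finrank_fin_fun]
  let b' : Fin d → (Fin d → L) := fun k => b (Fin.cast hdim.symm k)
  have hb' : ∀ k, ∃ θ, f θ = b' k := fun k => hb _
  choose θ hθ using hb'
  refine ⟨d, θ, p, hp, congrArg PrimeSpectrum.asIdeal hpm, ?_⟩
  obtain ⟨F₁, H⟩ : ∃ F₁ : Frame (algebraMap L (L ⊗[A] W)) n, Frame.IsMap F F₁ (algebraMap A L) g :=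
    F.exists_isMap _ _ (CommRingCat.isPushout_tensorProduct A L W)
  have htr : ∀ y, algebraMap A L (F.tr y) = ∑ i, x i y := fun y => by
    rw [← H.tr, F₁.tr_eq (Frame.ofEquiv e), Frame.tr_ofEquiv]
    rfl
  have hε : algebraMap A L (F.rankPoly.coeff d) = 1 := by
    rw [← coeff_map, ← H.rankPoly, F₁.rankPoly_eq (Frame.ofEquiv e), Frame.rankPoly_ofEquiv, coeff_X_pow_self]
  have hδ : algebraMap A L (Matrix.of fun i j => F.tr (algebraMap E W (θ i) * algebraMap E W (θ j))).det ≠ 0 := by
    let M : Matrix (Fin d) (Fin d) L := Matrix.of b'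
    have e1 : (algebraMap A L).mapMatrix (Matrix.of fun i j => F.tr (algebraMap E W (θ i) * algebraMap E W (θ j))) =
        M * Mᵀ := by
      ext i j
      simp only [RingHom.mapMatrix_apply, Matrix.map_apply, Matrix.of_apply, Matrix.mul_apply, Matrix.transpose_apply,
        htr, map_mul, M, ← hθ]
      rfl
    rw [RingHom.map_det, e1, det_mul, det_transpose]
    have hM : IsUnit M := Matrix.linearIndependent_rows_iff_isUnit.1
      (hind.comp _ (Fin.cast_injective _))
    exact mul_ne_zero ((Matrix.isUnit_iff_isUnit_det M).1 hM).ne_zero ((Matrix.isUnit_iff_isUnit_det M).1 hM).ne_zero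
  intro hmem
  have h0 : algebraMap A L ((Matrix.of fun i j => F.tr (algebraMap E W (θ i) * algebraMap E W (θ j))).det *
      F.rankPoly.coeff d) = 0 := by
    rw [IsScalarTower.algebraMap_apply A p.ResidueField L, Ideal.algebraMap_residueField_eq_zero.2 hmem, map_zero]
  rw [map_mul, hε, mul_one] at h0
  exact hδ h0

include hgeom hTr hrk in
/-- The invariants are finite étale and generate. -/
theorem etale_invariants (hE : Function.Injective (algebraMap E W)) :
    Algebra.Etale N E ∧ Module.Finite N E ∧
      Function.Bijective (Algebra.TensorProduct.lift (IsScalarTower.toAlgHom N A W)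
        (IsScalarTower.toAlgHom N E W) fun _ _ => Commute.all _ _) := by
  classical
  let Good : Set N := {c | ∃ (d : ℕ) (θ u : Fin d → E), ∀ y : W,
    algebraMap N W c * y = ∑ k, algebraMap A W (F.tr (y * algebraMap E W (u k))) * algebraMap E W (θ k)}
  have hspan : Ideal.span Good = ⊤ := by
    by_contra hne
    obtain ⟨m, hm, hle⟩ := Ideal.exists_le_maximal _ hne
    obtain ⟨d, θ, p, hp, hpm, hnp⟩ := exists_good F hgeom m
    obtain ⟨M, hM⟩ := F.exists_pow_mul_eq_sum fun i => algebraMap E W (θ i)
    set G : Matrix (Fin d) (Fin d) A := Matrix.of fun i j => F.tr (algebraMap E W (θ i) * algebraMap E W (θ j))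
    let G₀ : Matrix (Fin d) (Fin d) N := Matrix.of fun i j => (hTr (θ i * θ j)).choose
    have hG : (algebraMap N A).mapMatrix G₀ = G := by
      ext i j
      simp only [RingHom.mapMatrix_apply, Matrix.map_apply, G₀, Matrix.of_apply, G]
      rw [← map_mul (algebraMap E W)]
      exact (hTr (θ i * θ j)).choose_spec
    obtain ⟨ε₀, hε₀⟩ := hrk d
    have hdet : algebraMap N A G₀.det = G.det := by rw [RingHom.map_det, hG]
    have hadj : ∀ k l, algebraMap N A (G₀.adjugate k l) = G.adjugate k l := fun k l => by
      rw [← hG, ← RingHom.map_adjugate]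
      rfl
    have hc₀ : G₀.det * ε₀ ∉ m := fun h => hnp (by
      have h' : algebraMap N A (G₀.det * ε₀) ∈ p := Ideal.mem_comap.1 (hpm.symm ▸ h)
      rwa [map_mul, hdet, hε₀] at h')
    have hmem : (G₀.det * ε₀) ^ M * G₀.det ∈ Good := by
      refine ⟨d, θ, fun k => ∑ l, ((G₀.det * ε₀) ^ M * G₀.adjugate k l) • θ l, fun y => ?_⟩
      rw [IsScalarTower.algebraMap_apply N A W, map_mul (algebraMap N A), map_pow (algebraMap N A),
        map_mul (algebraMap N A), hdet, hε₀, hM y]
      refine Finset.sum_congr rfl fun k _ => ?_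
      rw [map_sum, Finset.mul_sum, map_sum, map_sum, Finset.sum_mul]
      refine Finset.sum_congr rfl fun l _ => ?_
      congr 2
      have e : algebraMap E W (((G₀.det * ε₀) ^ M * G₀.adjugate k l) • θ l) =
          algebraMap A W ((G.det * F.rankPoly.coeff d) ^ M * G.adjugate k l) * algebraMap E W (θ l) := by
        rw [Algebra.smul_def, map_mul (algebraMap E W), ← IsScalarTower.algebraMap_apply,
          IsScalarTower.algebraMap_apply N A W]
        simp only [map_mul, map_pow]
        erw [hdet, hε₀, hadj]
      rw [e, mul_left_comm, F.tr_smul]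
    refine hc₀ (hm.isPrime.mem_of_pow_mem (M + 1) ?_)
    have := Ideal.mul_mem_right ε₀ m (hle (Ideal.subset_span hmem))
    rwa [mul_assoc, ← pow_succ] at this
  obtain ⟨t, ht, hts⟩ := (Ideal.span Good).eq_top_iff_one.1 hspan |> Submodule.mem_span_finite_of_mem_span
  obtain ⟨a, ha⟩ := Submodule.mem_span_finset.1 hts
  have hg : ∀ c : t, ∃ (d : ℕ) (θ u : Fin d → E), ∀ y : W,
      algebraMap N W c.1 * y = ∑ k, algebraMap A W (F.tr (y * algebraMap E W (u k))) * algebraMap E W (θ k) :=
    fun c => ht c.2
  choose d θ u hu using hg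
  let I := Σ c : t, Fin (d c)
  let eI : Fin (Fintype.card I) ≃ I := (Fintype.equivFin I).symm
  let θ' : Fin (Fintype.card I) → E := fun k => θ (eI k).1 (eI k).2
  let u' : Fin (Fintype.card I) → E := fun k => a (eI k).1.1 • u (eI k).1 (eI k).2
  -- the global dual family
  have hfull : ∀ y : W, ∑ k, algebraMap A W (F.tr (y * algebraMap E W (u' k))) * algebraMap E W (θ' k) = y :=
    fun y => by
    rw [eI.sum_comp (fun i : I => algebraMap A W (F.tr (y * algebraMap E W (a i.1.1 • u i.1 i.2))) *
      algebraMap E W (θ i.1 i.2)), Fintype.sum_sigma]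
    calc _ = ∑ c : t, algebraMap N W (a c.1) * (algebraMap N W c.1 * y) := by
          refine Finset.sum_congr rfl fun c _ => ?_
          rw [hu c y, Finset.mul_sum]
          refine Finset.sum_congr rfl fun k _ => ?_
          rw [← mul_assoc, IsScalarTower.algebraMap_apply N A W, ← map_mul (algebraMap A W), ← F.tr_smul,
            Algebra.smul_def, map_mul (algebraMap E W),
            ← IsScalarTower.algebraMap_apply N E W, ← IsScalarTower.algebraMap_apply N A W, mul_left_comm y]
      _ = algebraMap N W (∑ c ∈ t, a c • c) * y := by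
          simp only [map_sum, Finset.sum_mul, smul_eq_mul, map_mul, mul_assoc]
          exact Finset.sum_coe_sort t fun c => algebraMap N W (a c) * (algebraMap N W c * y)
      _ = y := by rw [ha.2, map_one, one_mul]
  let τ₀ : E → N := fun x => (hTr x).choose
  have hτ : ∀ x, algebraMap N A (τ₀ x) = F.tr (algebraMap E W x) := fun x => (hTr x).choose_spec
  let τ : E →ₗ[N] N :=
    { toFun := τ₀
      map_add' := fun x y => FaithfulSMul.algebraMap_injective N A (by simp [hτ])
      map_smul' := fun c x => FaithfulSMul.algebraMap_injective N A (by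
        rw [RingHom.id_apply, smul_eq_mul, map_mul, hτ, hτ, Algebra.smul_def, map_mul,
          ← IsScalarTower.algebraMap_apply, IsScalarTower.algebraMap_apply N A W, F.tr_smul]) }
  have hτW : ∀ x, algebraMap N W (τ x) = algebraMap A W (F.tr (algebraMap E W x)) := fun x => by
    rw [← hτ, ← IsScalarTower.algebraMap_apply]
    rfl
  have h1 : ∀ x, ∑ k, τ (x * u' k) • θ' k = x := fun x => hE (by
    rw [map_sum]
    refine Eq.trans (Finset.sum_congr rfl fun k _ => ?_) (hfull (algebraMap E W x))
    rw [Algebra.smul_def, map_mul, ← IsScalarTower.algebraMap_apply, hτW, map_mul])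
  have h2 : ∀ x, ∑ k, τ (x * (θ' k * u' k)) = τ x := fun x => FaithfulSMul.algebraMap_injective N A (by
    let F' : Frame (algebraMap A W) (Fintype.card I) :=
      { u := fun k => algebraMap E W (θ' k)
        v := fun k => (F.tr.comp (AddMonoidHom.mulRight (algebraMap E W (u' k))))
        v_smul := fun k b y => by simp [mul_assoc, F.tr_smul]
        sum_v := fun y => hfull y }
    rw [map_sum, show algebraMap N A (τ x) = F.tr (algebraMap E W x) from hτ x, F.tr_eq F', Frame.tr_apply]
    refine Finset.sum_congr rfl fun k _ => ?_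
    show algebraMap N A (τ₀ _) = _
    rw [hτ, map_mul (algebraMap E W), map_mul (algebraMap E W), ← mul_assoc (algebraMap E W x)]
    rfl)
  obtain ⟨het, hfin, -⟩ := etale_of_dual τ θ' u' h1 h2
  refine ⟨het, hfin, Function.bijective_iff_has_inverse.2 ⟨fun y =>
    ∑ k, F.tr (y * algebraMap E W (u' k)) ⊗ₜ[N] θ' k, fun z => ?_, fun y => ?_⟩⟩
  · dsimp only
    refine z.induction_on (by simp) (fun b x => ?_) (fun z z' hz hz' => ?_)
    · conv_rhs => rw [← h1 x, TensorProduct.tmul_sum]
      refine Finset.sum_congr rfl fun k _ => ?_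
      rw [TensorProduct.tmul_smul, TensorProduct.smul_tmul', Algebra.TensorProduct.lift_tmul]
      congr 1
      rw [IsScalarTower.coe_toAlgHom', IsScalarTower.coe_toAlgHom', mul_assoc, F.tr_smul, ← map_mul, ← hτ,
        Algebra.smul_def, mul_comm]
      rfl
    · simp only [map_add, add_mul, TensorProduct.add_tmul, Finset.sum_add_distrib, hz, hz']
  · simpa using hfull y

end Groth.Agent.GrpdLib
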