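import Mathlib.RingTheory.Etale.QuasiFinite
import Mathlib.RingTheory.Unramified.LocalStructure
import Mathlib.RingTheory.ZariskisMainTheorem

/-! Splitting off the finite part of an étale algebra over an integral algebra. -/

set_option autoImplicit false

universe u

open scoped Classical
open scoped TensorProduct

namespace Groth.Agent.GrpdField29

variable {C A A' : Type u} [CommRing C] [CommRing A] [CommRing A'] [Algebra C A] [Algebra A A']
  [Algebra C A'] [IsScalarTower C A A']

/-- Zariski's main theorem: finitely many integral elements cover an étale algebra. -/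
theorem exists_cover [Algebra.Etale A A'] : ∃ S : Finset (integralClosure A A'),
    Ideal.span ((S.image fun g : integralClosure A A' => (g : A')) : Set A') = ⊤ ∧
      ∀ g ∈ S, ∀ x : A', ∃ k : ℕ, (g : A') ^ k * x ∈ integralClosure A A' := by
  classical
  let G : Set (integralClosure A A') := {g | ∀ x : A', ∃ k : ℕ, (g : A') ^ k * x ∈ integralClosure A A'}
  have h : Ideal.span ((fun g : integralClosure A A' => (g : A')) '' G) = ⊤ := by
    by_contra hne
    obtain ⟨q, hq, hle⟩ := Ideal.exists_le_maximal _ hne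
    have := hq.isPrime
    obtain ⟨r, hr, hri, h⟩ :=
      Algebra.zariskisMainProperty_iff.1 (Algebra.ZariskisMainProperty.of_finiteType (R := A) q)
    exact hr (hle (Ideal.subset_span ⟨⟨r, hri⟩, h, rfl⟩))
  obtain ⟨T, hT, h1⟩ := Submodule.mem_span_finite_of_mem_span ((Ideal.eq_top_iff_one _).1 h)
  obtain ⟨S, hSG, rfl⟩ := Finset.subset_set_image_iff.1 hT
  exact ⟨S, (Ideal.eq_top_iff_one _).2 h1, fun g hg => hSG hg⟩

/-- Around a point of the base, an étale algebra over an integral algebra has a finite clopen part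
containing the whole fibre. -/
theorem exists_idempotent_nbhd [Algebra.Etale A A'] [Algebra.IsIntegral C A] (m : Ideal C) [m.IsPrime] :
    ∃ (N : Type u) (_ : CommRing N) (_ : Algebra C N) (_ : Algebra.Etale C N) (P : Ideal N) (_ : P.IsPrime)
      (_ : P.LiesOver m) (e : N ⊗[C] A'), IsIdempotentElem e ∧
      (∀ Q : Ideal (N ⊗[C] A'), Q.IsPrime → Q.LiesOver P → e ∉ Q) ∧
      ∀ x : N ⊗[C] A', IsIntegral N (e * x) := by
  classical
  obtain ⟨S, hS, hSk⟩ := exists_cover (A := A) (A' := A')
  let B₀ : Subalgebra C A' := (integralClosure A A').restrictScalars C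
  let sv : (integralClosure A A') → A' := Subtype.val
  let B₁ : Subalgebra C A' := Algebra.adjoin C (S.image sv : Set A')
  have hint : ∀ b ∈ B₀, IsIntegral C b := fun b hb => isIntegral_trans (R := C) (A := A) b hb
  have hfin : Module.Finite C B₁ := Module.Finite.iff_fg.2 (fg_adjoin_of_finite (Finset.finite_toSet _) fun b hb => by
    obtain ⟨g, -, rfl⟩ := Finset.mem_image.1 hb
    exact hint _ g.2)
  obtain ⟨N, _, _, _, P, _, hPm, r, e, he, P', hP', hP'over, -, heP, hcases⟩ :=
    Algebra.exists_etale_completeOrthogonalIdempotents_forall_liesOver_eq (R := C) (S := B₁) m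
  have hgmem : ∀ g ∈ S, (g : A') ∈ B₁ := fun g hg => Algebra.subset_adjoin (Finset.mem_image.2 ⟨g, hg, rfl⟩)
  let gg : S → N ⊗[C] B₁ := fun g => (1 : N) ⊗ₜ ⟨_, hgmem g.1 g.2⟩
  let I : Finset (Fin r) := Finset.univ.filter fun i => ∃ g, gg g ∉ P' i
  let e₁ : N ⊗[C] B₁ := ∑ i ∈ I, e i.castSucc
  have he₁ : IsIdempotentElem e₁ :=
    (he.toOrthogonalIdempotents.embedding ⟨Fin.castSucc, Fin.castSucc_injective r⟩).isIdempotentElem_sum
  -- e₁ is invertible exactly where one of the generators is, over P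
  have hiff : ∀ Q : Ideal (N ⊗[C] B₁), Q.IsPrime → Q.LiesOver P → (e₁ ∈ Q ↔ ∀ g, gg g ∈ Q) := fun Q hQ hQP => by
    obtain ⟨hlast, huniq⟩ := hcases Q hQ hQP
    obtain ⟨i, hi⟩ : ∃ i, e i ∉ Q := by
      by_contra h
      push Not at h
      exact hQ.one_notMem (he.complete ▸ Q.sum_mem fun i _ => h i)
    obtain ⟨i, rfl⟩ : ∃ j : Fin r, j.castSucc = i := Fin.exists_castSucc_eq.2 (fun h => hi (h ▸ hlast))
    have hQi := huniq i hi
    have ho : ∀ j ∈ I, j ≠ i → e j.castSucc ∈ Q := fun j _ hj => by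
      refine (hQ.mem_or_mem (show e j.castSucc * e i.castSucc ∈ Q from ?_)).resolve_right hi
      rw [he.ortho fun h => hj (Fin.castSucc_injective _ h)]
      exact Q.zero_mem
    by_cases hiI : i ∈ I
    · refine iff_of_false (fun h => hi ?_) (fun h => ?_)
      · rwa [show e₁ = e i.castSucc + ∑ j ∈ I.erase i, e j.castSucc from (Finset.add_sum_erase _ _ hiI).symm,
          Ideal.add_mem_iff_left] at h
        exact Q.sum_mem fun j hj => ho j (Finset.mem_of_mem_erase hj) (Finset.ne_of_mem_erase hj)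
      · obtain ⟨g, hg⟩ := (Finset.mem_filter.1 hiI).2
        exact hg (hQi ▸ h g)
    · refine iff_of_true (Q.sum_mem fun j hj => ho j hj (fun h => hiI (h ▸ hj))) fun g => ?_
      by_contra hg
      exact hiI (Finset.mem_filter.2 ⟨Finset.mem_univ _, g, hQi ▸ hg⟩)
  -- shrink the base
  let J : Ideal (N ⊗[C] B₁) := Ideal.span (Set.range gg ∪ {1 - e₁})
  have : Algebra.IsIntegral N (N ⊗[C] B₁) := inferInstance
  have hJ : ¬ J.comap (algebraMap N (N ⊗[C] B₁)) ≤ P := fun h => by
    obtain ⟨Q, hJQ, hQ, hQP⟩ := Ideal.exists_ideal_over_prime_of_isIntegral P J h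
    have hQ' : Q.LiesOver P := ⟨hQP.symm⟩
    have h1 : e₁ ∈ Q := (hiff Q hQ hQ').2 fun g => hJQ (Ideal.subset_span (.inl ⟨g, rfl⟩))
    have h2 := Q.add_mem h1 (hJQ (Ideal.subset_span (.inr rfl)))
    rw [add_sub_cancel] at h2
    exact hQ.one_notMem h2
  obtain ⟨c, hcJ, hcP⟩ := SetLike.not_le_iff_exists.1 hJ
  let N' := Localization.Away c
  have : Algebra.Etale N N' := Algebra.Etale.of_isLocalizationAway c
  have : Algebra.Etale C N' := Algebra.Etale.comp C N N'
  let P₁ : Ideal N' := P.map (algebraMap N N')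
  have hdis : Disjoint (Submonoid.powers c : Set N) P :=
    (Ideal.disjoint_powers_iff_notMem_of_isPrime c).2 hcP
  have hP₁ : P₁.IsPrime := IsLocalization.isPrime_of_isPrime_disjoint (.powers c) _ _ ‹_› hdis
  have hP₁c : P₁.comap (algebraMap N N') = P := IsLocalization.under_map_of_isPrime_disjoint (.powers c) _ ‹_› hdis
  have : P₁.LiesOver m := ⟨by
    rw [Ideal.under, IsScalarTower.algebraMap_eq C N N', ← Ideal.comap_comap, hP₁c]
    exact hPm.over⟩
  let ι : N ⊗[C] B₁ →ₐ[C] N' ⊗[C] A' := Algebra.TensorProduct.map (IsScalarTower.toAlgHom C N N') B₁.val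
  refine ⟨N', inferInstance, inferInstance, ‹_›, P₁, hP₁, inferInstance, ι e₁, he₁.map ι, fun Q hQ hQP h => ?_,
    fun x => ?_⟩
  · have : (Q.comap ι).LiesOver P := ⟨by
      rw [← hP₁c, hQP.over, Ideal.under, Ideal.under, Ideal.comap_comap,
        ← Ideal.comap_coe ι, Ideal.comap_comap]
      congr 1⟩
    have hall := (hiff _ (hQ.comap ι) this).1 h
    refine hQ.one_notMem ?_
    have hle : Ideal.span ((S.image fun g : integralClosure A A' => (g : A')) : Set A') ≤
        Q.comap (Algebra.TensorProduct.includeRight : A' →ₐ[C] N' ⊗[C] A') := Ideal.span_le.2 fun b hb => by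
      obtain ⟨g, hg, rfl⟩ := Finset.mem_image.1 hb
      have := hall ⟨g, hg⟩
      rw [Ideal.mem_comap] at this
      show (Algebra.TensorProduct.includeRight : A' →ₐ[C] N' ⊗[C] A') (g : A') ∈ Q
      simpa [ι, gg] using this
    rw [hS] at hle
    simpa [← Algebra.TensorProduct.one_def] using hle (Submodule.mem_top (x := (1 : A')))
  · let R : Subalgebra N' (N' ⊗[C] A') := integralClosure N' (N' ⊗[C] A')
    have hmemR : ∀ b ∈ B₀, ∀ n : N', n ⊗ₜ[C] b ∈ R := fun b hb n => by
      have := (hint b hb).map (Algebra.TensorProduct.includeRight : A' →ₐ[C] N' ⊗[C] A')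
      have h := Subalgebra.smul_mem R (this.tower_top (A := N') : (1 : N') ⊗ₜ[C] b ∈ R) n
      simpa [TensorProduct.smul_tmul'] using h
    have hB₁ : B₁ ≤ B₀ := Algebra.adjoin_le fun b hb => by
      obtain ⟨g, -, rfl⟩ := Finset.mem_image.1 hb
      exact g.2
    have hιR : ∀ z, ι z ∈ R := fun z => by
      refine z.induction_on (by simp) (fun n b => ?_) (fun a b ha hb => by rw [map_add]; exact add_mem ha hb)
      simpa [ι] using hmemR b.1 (hB₁ b.2) _
    let T : Ideal R :=
      { carrier := {b | (b : N' ⊗[C] A') * (ι e₁ * x) ∈ R}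
        zero_mem' := by simp
        add_mem' := fun {a b} ha hb => by
          simp only [Set.mem_setOf_eq, AddMemClass.coe_add, add_mul] at ha hb ⊢
          exact add_mem ha hb
        smul_mem' := fun a b hb => by
          simp only [Set.mem_setOf_eq, smul_eq_mul, MulMemClass.coe_mul, mul_assoc] at hb ⊢
          exact mul_mem a.2 hb }
    let ιR : N ⊗[C] B₁ →+* R := ι.toRingHom.codRestrict R hιR
    have hJT : J ≤ T.radical.comap ιR := Ideal.span_le.2 fun z hz => by
      rcases hz with ⟨g, rfl⟩ | rfl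
      · have key : ∀ y : N' ⊗[C] A', ∃ k : ℕ, (ι (gg g)) ^ k * y ∈ R := fun y => by
          refine y.induction_on ⟨0, by simp⟩ (fun n a => ?_) (fun a b ⟨i, hi⟩ ⟨j, hj⟩ => ⟨i + j, ?_⟩)
          · obtain ⟨k, hk⟩ := hSk g.1 g.2 a
            refine ⟨k, ?_⟩
            simpa [ι, gg] using hmemR _ hk n
          · rw [mul_add, show ι (gg g) ^ (i + j) * a = ι (gg g) ^ j * (ι (gg g) ^ i * a) by ring,
              show ι (gg g) ^ (i + j) * b = ι (gg g) ^ i * (ι (gg g) ^ j * b) by ring]
            exact add_mem (mul_mem (pow_mem (hιR _) _) hi) (mul_mem (pow_mem (hιR _) _) hj)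
        obtain ⟨k, hk⟩ := key (ι e₁ * x)
        exact ⟨k, by simpa [T, ιR] using hk⟩
      · refine Ideal.le_radical ?_
        show ι (1 - e₁) * (ι e₁ * x) ∈ R
        rw [← mul_assoc, ← map_mul, he₁.one_sub_mul_self, map_zero, zero_mul]
        exact R.zero_mem
    have hu : IsUnit (ιR (algebraMap N (N ⊗[C] B₁) c)) := by
      have h := (IsLocalization.Away.algebraMap_isUnit (S := N') c).map (algebraMap N' R)
      convert h using 1
      apply Subtype.ext
      simp [ιR, ι]
    have h1 : T.radical = ⊤ := Ideal.eq_top_of_isUnit_mem _ (hJT hcJ) hu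
    have h2 := (Ideal.eq_top_iff_one _).1 (Ideal.radical_eq_top.1 h1)
    have h3 : ((1 : R) : N' ⊗[C] A') * (ι e₁ * x) ∈ R := h2
    rwa [OneMemClass.coe_one, one_mul] at h3

end Groth.Agent.GrpdField29
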