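import Groth.Agent.GrpdField29.TensorTools
import Groth.Agent.GrpdField29.EtaleInv
import Groth.Agent.GrpdField29.EtaleNbhd

/-! Invariants of a stabilizer preserving étale cartesian map of affine groupoids, locally. -/

set_option autoImplicit false
set_option backward.isDefEq.respectTransparency false
set_option backward.isDefEq.respectTransparency.types false
set_option maxHeartbeats 1600000

universe u

open CategoryTheory CategoryTheory.Limits
open scoped TensorProduct

namespace Groth.Agent.GrpdLib.AffData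

theorem exists_isPushout_away {R S : Type u} [CommRing R] [CommRing S] (f : R →+* S) (r : R) (r' : S) (h : f r = r') :
    ∃ g : Localization.Away r →+* Localization.Away r',
      IsPushout (CommRingCat.ofHom f) (CommRingCat.ofHom (algebraMap R (Localization.Away r)))
        (CommRingCat.ofHom (algebraMap S (Localization.Away r'))) (CommRingCat.ofHom g) ∧
      ∀ x, g (algebraMap R _ x) = algebraMap S _ (f x) := by
  subst h
  exact ⟨_, isPushout_away f r, fun x => IsLocalization.map_eq _ x⟩

theorem isIdempotentElem_norm {A B : Type u} [CommRing A] [CommRing B] {α : A →+* B} {n : ℕ} (F : Frame α n)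
    {b : B} (hb : IsIdempotentElem b) : IsIdempotentElem (F.norm b) := by
  rw [IsIdempotentElem, ← F.norm_mul, hb]

variable {D D' : AffData.{u}} {C : Type u} [CommRing C] [Algebra C D.A] [Algebra C D'.A]
  (φ : D.A →ₐ[C] D'.A) (ψ : D.B →+* D'.B)
  (sqs : IsPushout (CommRingCat.ofHom D.s) (CommRingCat.ofHom φ.toRingHom) (CommRingCat.ofHom ψ)
    (CommRingCat.ofHom D'.s))
  (sqt : IsPushout (CommRingCat.ofHom D.t) (CommRingCat.ofHom φ.toRingHom) (CommRingCat.ofHom ψ)
    (CommRingCat.ofHom D'.t))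
  (hc : ∀ c, D.t (algebraMap C D.A c) = D.s (algebraMap C D.A c))
  (hc' : ∀ c, D'.t (algebraMap C D'.A c) = D'.s (algebraMap C D'.A c))

attribute [local instance] algB' algC'

/-- The invariants of the second groupoid, over the scalars. -/
abbrev invAlg : Subalgebra C D'.A := AlgHom.equalizer (sAlg D') (tAlg D' hc')

include sqs sqt hc in
/-- The local structure of the map on invariants. -/
theorem exists_etale_cartesian_nbhd (hφ : φ.toRingHom.Etale) [Algebra.IsIntegral C D.A]
    (hinj : Function.Injective (algebraMap C D.A))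
    (hC : ∀ a, D.s a = D.t a → a ∈ Set.range (algebraMap C D.A))
    (hsurj : Function.Surjective (PrimeSpectrum.comap (invAlg hc').val.toRingHom))
    (hpts : ∀ (L : Type u) [Field L] [IsAlgClosed L] (x y : D'.A →+* L),
      x.comp φ.toRingHom = y.comp φ.toRingHom →
        x.comp (invAlg hc').val.toRingHom = y.comp (invAlg hc').val.toRingHom → x = y)
    {n' : ℕ} (F' : Frame D'.s n') (hfin : D'.s.Finite) (q : Ideal (invAlg hc')) [q.IsPrime] :
    ∃ (E W : CommRingCat.{u}) (f : CommRingCat.of C ⟶ E) (g : CommRingCat.of (invAlg hc') ⟶ E)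
      (a : CommRingCat.of D.A ⟶ W) (a' : CommRingCat.of D'.A ⟶ W) (h : E ⟶ W),
      CommRingCat.ofHom (algebraMap C (invAlg hc')) ≫ g = f ∧
      CommRingCat.ofHom φ.toRingHom ≫ a' = a ∧
      f.hom.Etale ∧ g.hom.Etale ∧
      IsPushout (CommRingCat.ofHom (algebraMap C D.A)) f a h ∧
      IsPushout (CommRingCat.ofHom (invAlg hc').val.toRingHom) g a' h ∧
      ∃ Q : Ideal E, Q.IsPrime ∧ Q.comap g.hom = q := by
  classical
  let K' := invAlg hc'
  letI : Algebra D.A D'.A := φ.toRingHom.toAlgebra
  have : IsScalarTower C D.A D'.A := IsScalarTower.of_algebraMap_eq' φ.comp_algebraMap.symm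
  have : Algebra.Etale D.A D'.A := hφ
  let m : Ideal C := q.comap (algebraMap C K')
  obtain ⟨N, _, _, _, P, hP, hPm, e, he, heP, heint⟩ :=
    Groth.Agent.GrpdField29.exists_idempotent_nbhd (A := D.A) (A' := D'.A) m
  let DN := D'.tensorLeft hc' N
  let sN : N ⊗[C] D'.A →ₐ[N] N ⊗[C] D'.B := lmap N (sAlg D')
  let tN : N ⊗[C] D'.A →ₐ[N] N ⊗[C] D'.B := lmap N (tAlg D' hc')
  obtain ⟨F'N, -⟩ : ∃ F : Frame sN.toRingHom n', Frame.IsMap F' F
      (Algebra.TensorProduct.includeRight : D'.A →ₐ[C] N ⊗[C] D'.A).toRingHom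
      (Algebra.TensorProduct.includeRight : D'.B →ₐ[C] N ⊗[C] D'.B).toRingHom :=
    F'.exists_isMap _ _ (isPushout_lmap N (sAlg D')).flip
  let ε : N ⊗[C] D'.A := F'N.norm (tN e)
  have hεs : sN ε = tN ε := (AffData.t_norm_eq (D := DN) F'N e).symm
  obtain ⟨ε₀, hε₀⟩ := exists_eq_map_val_of_eq N (sAlg D') (tAlg D' hc') ε hεs
  have hεi : IsIdempotentElem ε := isIdempotentElem_norm F'N (he.map tN)
  have hιinj : Function.Injective (lmap N K'.val) := injective_lmap N K'.val Subtype.val_injective
  have hε₀i : IsIdempotentElem ε₀ := hιinj (by rw [map_mul, hε₀]; exact hεi)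
  have hεe : ε * e = ε := by
    have h0 : IsNilpotent (ε * (1 - e)) := by
      rw [nilpotent_iff_mem_prime]
      intro Q hQ
      rcases hQ.mem_or_mem (show e * (1 - e) ∈ Q by rw [he.mul_one_sub_self]; exact Q.zero_mem) with h | h
      · refine Q.mul_mem_right _ ?_
        have := hQ
        have hr : (Q.comap DN.e).IsPrime := Ideal.IsPrime.comap _
        have hm := AffData.norm_mem (D := DN) F'N (Q.comap DN.e) e (by
          rw [Ideal.mem_comap]
          exact (DN.e_t_apply e).symm ▸ h)
        have e1 : (Q.comap DN.e).comap DN.s = Q := by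
          rw [Ideal.comap_comap, DN.e_s, Ideal.comap_id]
        exact e1 ▸ hm
      · exact Q.mul_mem_left _ h
    have := (hεi.mul he.one_sub).eq_zero_of_isNilpotent h0
    rwa [mul_sub, mul_one, sub_eq_zero, eq_comm] at this
  have hint : ∀ x, IsIntegral N (ε * x) := fun x => by
    have h := heint (ε * x)
    rwa [← mul_assoc, mul_comm e, hεe] at h
  let E := Localization.Away ε₀
  let W := Localization.Away (lmap N K'.val ε₀)
  let aW : N ⊗[C] D'.A →+* W := algebraMap _ _
  let φN : N ⊗[C] D.A →ₐ[N] N ⊗[C] D'.A := lmap N φ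
  let hEW : E →+* W := Localization.awayMap (lmap N K'.val).toRingHom ε₀
  letI : Algebra (N ⊗[C] D.A) W := (aW.comp φN.toRingHom).toAlgebra
  letI : Algebra E W := hEW.toAlgebra
  have : IsScalarTower N (N ⊗[C] D.A) W := IsScalarTower.of_algebraMap_eq fun x => by
    rw [IsScalarTower.algebraMap_apply N (N ⊗[C] D'.A) W]
    show aW _ = aW (φN (algebraMap N (N ⊗[C] D.A) x))
    rw [AlgHom.commutes]
  have hhE : ∀ z, hEW (algebraMap (N ⊗[C] K') E z) = aW (lmap N K'.val z) := fun z =>
    IsLocalization.map_eq _ z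
  have : IsScalarTower N E W := IsScalarTower.of_algebraMap_eq fun x => by
    rw [IsScalarTower.algebraMap_apply N (N ⊗[C] D'.A) W, IsScalarTower.algebraMap_apply N (N ⊗[C] K') E]
    exact ((hhE _).trans (by rw [AlgHom.commutes])).symm
  have hWsurj : Function.Surjective aW := surjective_algebraMap_away (hε₀i.map (lmap N K'.val))
  have hEsurj : Function.Surjective (algebraMap (N ⊗[C] K') E) := surjective_algebraMap_away hε₀i
  have hE : Function.Injective (algebraMap E W) := (injective_iff_map_eq_zero _).2 fun z hz => by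
    obtain ⟨z, rfl⟩ := hEsurj z
    obtain ⟨⟨_, k, rfl⟩, hk⟩ := (IsLocalization.map_eq_zero_iff (Submonoid.powers (lmap N K'.val ε₀)) W _).1
      ((hhE z).symm.trans hz)
    refine (IsLocalization.map_eq_zero_iff (Submonoid.powers ε₀) E z).2 ⟨⟨_, k, rfl⟩, hιinj ?_⟩
    rw [map_mul, map_pow, map_zero]
    exact hk
  have hetN : φN.toRingHom.Etale := etale_of_isPushout _ _ _ _ (isPushout_lmap N φ) hφ
  have : Algebra.Etale (N ⊗[C] D.A) W := by
    have h := RingHom.Etale.stableUnderComposition _ _ hetN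
      (RingHom.etale_algebraMap.2 (Algebra.Etale.of_isLocalizationAway (A := W) (lmap N K'.val ε₀)))
    exact RingHom.etale_algebraMap.1 h
  have : Algebra.IsIntegral (N ⊗[C] D.A) W := ⟨fun w => by
    obtain ⟨x, rfl⟩ := hWsurj w
    have h1 : aW x = aW (lmap N K'.val ε₀ * x) := by
      have hu : aW (lmap N K'.val ε₀) = 1 :=
        (IsIdempotentElem.iff_eq_one_of_isUnit (IsLocalization.Away.algebraMap_isUnit _)).1
          ((hε₀i.map (lmap N K'.val)).map aW)
      rw [map_mul, hu, one_mul]
    have h2 : IsIntegral N (aW (lmap N K'.val ε₀ * x)) :=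
      (hε₀ ▸ hint x).map (IsScalarTower.toAlgHom N (N ⊗[C] D'.A) W)
    exact h1 ▸ h2.tower_top⟩
  have : Module.Finite (N ⊗[C] D.A) W := Algebra.IsIntegral.finite
  have : Algebra.IsIntegral N (N ⊗[C] D.A) := inferInstance
  have : FaithfulSMul N (N ⊗[C] D.A) := (faithfulSMul_iff_algebraMap_injective _ _).2 (by
    have h1 := Module.Flat.lTensor_preserves_injective_linearMap (M := N) (Algebra.linearMap C D.A) hinj
    intro x y hxy
    have hx : ∀ z : N, (Algebra.linearMap C D.A).lTensor N (z ⊗ₜ[C] (1 : C)) = algebraMap N (N ⊗[C] D.A) z :=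
      fun z => by simp
    have := h1 (((hx x).trans hxy).trans (hx y).symm)
    simpa using congrArg (TensorProduct.rid C N) this)
  have : Module.FinitePresentation (N ⊗[C] D.A) W :=
    Module.FinitePresentation.of_finite_of_finitePresentation _ _
  have : Module.Projective (N ⊗[C] D.A) W := Module.Flat.projective_of_finitePresentation
  obtain ⟨nW, ⟨F⟩⟩ := exists_frame (A := N ⊗[C] D.A) (B := W)
  -- the two squares over the arrows
  have hψc : ∀ c, ψ (algebraMap C D.B c) = algebraMap C D'.B c := fun c => by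
    have h := congrArg (fun r => r.hom (algebraMap C D.A c)) sqs.w
    exact h.trans (congrArg D'.s (φ.commutes c))
  let ψA : D.B →ₐ[C] D'.B := { ψ with commutes' := hψc }
  let sD : N ⊗[C] D.A →ₐ[N] N ⊗[C] D.B := lmap N (sAlg D)
  let tD : N ⊗[C] D.A →ₐ[N] N ⊗[C] D.B := lmap N (tAlg D hc)
  let ψN : N ⊗[C] D.B →ₐ[N] N ⊗[C] D'.B := lmap N ψA
  have sq1 : IsPushout (CommRingCat.ofHom φN.toRingHom) (CommRingCat.ofHom sD.toRingHom)
      (CommRingCat.ofHom sN.toRingHom) (CommRingCat.ofHom ψN.toRingHom) :=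
    isPushout_lmap_sq N φ (sAlg D) (sAlg D') ψA sqs.flip
  have sq2 : IsPushout (CommRingCat.ofHom φN.toRingHom) (CommRingCat.ofHom tD.toRingHom)
      (CommRingCat.ofHom tN.toRingHom) (CommRingCat.ofHom ψN.toRingHom) :=
    isPushout_lmap_sq N φ (tAlg D hc) (tAlg D' hc') ψA sqt.flip
  let εB : N ⊗[C] D'.B := sN (lmap N K'.val ε₀)
  let WB := Localization.Away εB
  let gs : W →+* WB := Localization.awayMap sN.toRingHom (lmap N K'.val ε₀)
  have htεB : tN (lmap N K'.val ε₀) = εB := by
    show tN _ = sN _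
    rw [hε₀]
    exact hεs.symm
  obtain ⟨gt, sqW2, hgt⟩ := exists_isPushout_away tN.toRingHom (lmap N K'.val ε₀) εB htεB
  have sqs' : IsPushout (CommRingCat.ofHom (algebraMap (N ⊗[C] D.A) W)) (CommRingCat.ofHom sD.toRingHom)
      (CommRingCat.ofHom gs) (CommRingCat.ofHom ((algebraMap _ WB).comp ψN.toRingHom)) :=
    sq1.paste_horiz (isPushout_away sN.toRingHom (lmap N K'.val ε₀)).flip
  have sqt' : IsPushout (CommRingCat.ofHom (algebraMap (N ⊗[C] D.A) W)) (CommRingCat.ofHom tD.toRingHom)
      (CommRingCat.ofHom gt) (CommRingCat.ofHom ((algebraMap _ WB).comp ψN.toRingHom)) :=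
    sq2.paste_horiz sqW2.flip
  obtain ⟨Fs, Hs⟩ := F.exists_isMap sD.toRingHom gs sqs'.flip
  obtain ⟨Ft, Ht⟩ := F.exists_isMap tD.toRingHom gt sqt'.flip
  have hgE : ∀ x : E, gs (algebraMap E W x) = gt (algebraMap E W x) := fun x => by
    obtain ⟨z, rfl⟩ := hEsurj x
    show gs (hEW _) = gt (hEW _)
    rw [hhE]
    have e1 : gs (aW (lmap N K'.val z)) = algebraMap _ WB (sN (lmap N K'.val z)) := IsLocalization.map_eq _ _
    rw [e1, hgt]
    congr 1
    refine z.induction_on (by simp) (fun r k => ?_) (fun a b ha hb => by simp only [map_add, ha, hb])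
    simp only [sN, tN, Algebra.TensorProduct.map_tmul, AlgHom.id_apply]
    exact congrArg (fun b => r ⊗ₜ[C] b) k.2
  have hTr : ∀ x : E, F.tr (algebraMap E W x) ∈ Set.range (algebraMap N (N ⊗[C] D.A)) := fun x =>
    exists_eq_algebraMap_of_eq N (sAlg D) (tAlg D hc) hC _ (by
      refine (Hs.tr _).symm.trans ((Fs.tr_eq Ft _).trans ?_)
      rw [hgE x]
      exact Ht.tr _)
  have hrk : ∀ k, F.rankPoly.coeff k ∈ Set.range (algebraMap N (N ⊗[C] D.A)) := fun k =>
    exists_eq_algebraMap_of_eq N (sAlg D) (tAlg D hc) hC _ (by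
      have h := congrArg (fun p => Polynomial.coeff p k) (Hs.rankPoly.symm.trans ((Fs.rankPoly_eq Ft).trans Ht.rankPoly))
      simp only [Polynomial.coeff_map] at h
      exact h)
  have hgeom : ∀ (L : Type u) [Field L] [IsAlgClosed L] (x y : W →+* L),
      x.comp (algebraMap (N ⊗[C] D.A) W) = y.comp (algebraMap (N ⊗[C] D.A) W) →
        x.comp (algebraMap E W) = y.comp (algebraMap E W) → x = y := by
    intro L _ _ x y h1 h2
    have hR : (x.comp aW).comp (Algebra.TensorProduct.includeRight : D'.A →ₐ[C] N ⊗[C] D'.A).toRingHom =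
        (y.comp aW).comp (Algebra.TensorProduct.includeRight : D'.A →ₐ[C] N ⊗[C] D'.A).toRingHom := by
      refine hpts L _ _ (RingHom.ext fun b => ?_) (RingHom.ext fun k => ?_)
      · have := RingHom.congr_fun h1 ((1 : N) ⊗ₜ[C] b)
        simpa [RingHom.algebraMap_toAlgebra, φN] using this
      · have := RingHom.congr_fun h2 (algebraMap _ E ((1 : N) ⊗ₜ[C] k))
        simp only [RingHom.comp_apply, RingHom.algebraMap_toAlgebra] at this
        exact (congrArg x (hhE _)).symm.trans (this.trans (congrArg y (hhE _)))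
    refine RingHom.ext fun w => ?_
    obtain ⟨z, rfl⟩ := hWsurj w
    refine z.induction_on (by simp) (fun r b => ?_) (fun a b ha hb => by simp only [map_add, ha, hb])
    rw [show r ⊗ₜ[C] b = algebraMap N (N ⊗[C] D'.A) r * ((1 : N) ⊗ₜ[C] b) by simp, map_mul, map_mul, map_mul]
    congr 1
    · have := RingHom.congr_fun h1 (algebraMap N (N ⊗[C] D.A) r)
      simp only [RingHom.comp_apply, RingHom.algebraMap_toAlgebra] at this
      rwa [show φN.toRingHom (algebraMap N (N ⊗[C] D.A) r) = algebraMap N (N ⊗[C] D'.A) r from φN.commutes r] at this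
    · exact RingHom.congr_fun hR b
  obtain ⟨hetE, -, hbij⟩ := etale_invariants F hgeom hTr hrk hE
  -- assemble
  have hNE : Algebra.Etale C E := Algebra.Etale.comp C N E
  refine ⟨CommRingCat.of E, CommRingCat.of W, CommRingCat.ofHom (algebraMap C E),
    CommRingCat.ofHom ((algebraMap (N ⊗[C] K') E).comp (Algebra.TensorProduct.includeRight : K' →ₐ[C] N ⊗[C] K').toRingHom),
    CommRingCat.ofHom ((aW.comp φN.toRingHom).comp
      (Algebra.TensorProduct.includeRight : D.A →ₐ[C] N ⊗[C] D.A).toRingHom),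
    CommRingCat.ofHom (aW.comp (Algebra.TensorProduct.includeRight : D'.A →ₐ[C] N ⊗[C] D'.A).toRingHom),
    CommRingCat.ofHom hEW, ?_, ?_, RingHom.etale_algebraMap.2 hNE, ?_, ?_, ?_, ?_⟩
  · refine CommRingCat.hom_ext (RingHom.ext fun c => ?_)
    show algebraMap (N ⊗[C] K') E ((Algebra.TensorProduct.includeRight : K' →ₐ[C] N ⊗[C] K') (algebraMap C K' c)) = _
    rw [AlgHom.commutes]
    exact (IsScalarTower.algebraMap_apply C (N ⊗[C] K') E c).symm
  · refine CommRingCat.hom_ext (RingHom.ext fun b => ?_)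
    show aW ((1 : N) ⊗ₜ[C] φ b) = aW (φN ((1 : N) ⊗ₜ[C] b))
    simp [φN]
  · refine RingHom.Etale.stableUnderComposition _ _ ?_
      (RingHom.etale_algebraMap.2 (Algebra.Etale.of_isLocalizationAway (A := E) ε₀))
    exact etale_of_isPushout _ _ _ _ (CommRingCat.isPushout_tensorProduct C N K')
      (RingHom.etale_algebraMap.2 ‹Algebra.Etale C N›)
  · let Φ := (AlgEquiv.ofBijective _ hbij).toRingEquiv.toCommRingCatIso
    have hP := ((CommRingCat.isPushout_tensorProduct C N D.A).flip.paste_vert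
      (CommRingCat.isPushout_tensorProduct N (N ⊗[C] D.A) E)).of_iso (Iso.refl _) (Iso.refl _) (Iso.refl _) Φ
      (f' := CommRingCat.ofHom (algebraMap C D.A))
      (g' := CommRingCat.ofHom (algebraMap C N) ≫ CommRingCat.ofHom (algebraMap N E))
      (by simp) (by simp)
      (inl' := (CommRingCat.ofHom ((aW.comp φN.toRingHom).comp
        (Algebra.TensorProduct.includeRight : D.A →ₐ[C] N ⊗[C] D.A).toRingHom))) (inr' := CommRingCat.ofHom hEW)
      (by
        refine CommRingCat.hom_ext (RingHom.ext fun b => ?_)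
        simp [Φ, RingHom.algebraMap_toAlgebra]
        try rfl)
      (by
        refine CommRingCat.hom_ext (RingHom.ext fun b => ?_)
        simp [Φ, RingHom.algebraMap_toAlgebra]
        try rfl)
    have e : CommRingCat.ofHom (algebraMap C N) ≫ CommRingCat.ofHom (algebraMap N E) = CommRingCat.ofHom (algebraMap C E) :=
      CommRingCat.hom_ext (IsScalarTower.algebraMap_eq C N E).symm
    rwa [e] at hP
  · exact (isPushout_lmap N K'.val).paste_vert (isPushout_away (lmap N K'.val).toRingHom ε₀)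
  · obtain ⟨Q₁, hQ₁, hQ₁P, hQ₁q⟩ := exists_prime_tensor N P q (hPm.over.symm)
    have hε₀Q : ε₀ ∉ Q₁ := fun hmem => by
      obtain ⟨⟨Q', hQ'⟩, hQ'e⟩ := surjective_comap_lmap N K'.val hsurj ⟨Q₁, hQ₁⟩
      have hQ'1 : Q'.comap (lmap N K'.val).toRingHom = Q₁ := congrArg PrimeSpectrum.asIdeal hQ'e
      have hQ'P : Q'.comap (algebraMap N (N ⊗[C] D'.A)) = P := by
        rw [← hQ₁P, ← hQ'1, Ideal.comap_comap]
        congr 1
      have hF : DN.s.Finite := by
        have h1 : (lmap N (sAlg (C := C) D')).toRingHom.Finite := by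
          have sq := isPushout_lmap N (sAlg (C := C) D')
          algebraize [(sAlg (C := C) D').toRingHom,
            (Algebra.TensorProduct.includeRight : D'.A →ₐ[C] N ⊗[C] D'.A).toRingHom,
            (Algebra.TensorProduct.includeRight : D'.B →ₐ[C] N ⊗[C] D'.B).toRingHom, (lmap N (sAlg (C := C) D')).toRingHom,
            ((Algebra.TensorProduct.includeRight : D'.B →ₐ[C] N ⊗[C] D'.B).toRingHom.comp (sAlg (C := C) D').toRingHom)]
          have : IsScalarTower D'.A (N ⊗[C] D'.A) (N ⊗[C] D'.B) :=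
            IsScalarTower.of_algebraMap_eq' (congrArg CommRingCat.Hom.hom sq.w)
          have : Algebra.IsPushout D'.A D'.B (N ⊗[C] D'.A) (N ⊗[C] D'.B) := CommRingCat.isPushout_iff_isPushout.1 sq
          have : Algebra.IsPushout D'.A (N ⊗[C] D'.A) D'.B (N ⊗[C] D'.B) := Algebra.IsPushout.symm inferInstance
          have : Module.Finite D'.A D'.B := hfin
          exact RingHom.finite_algebraMap.2
            (Module.Finite.equiv (Algebra.IsPushout.equiv D'.A (N ⊗[C] D'.A) D'.B (N ⊗[C] D'.B)).toLinearEquiv)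
        exact h1
      refine AffData.norm_notMem (D := DN) F'N Q' e (fun r hr hrQ => ?_) ?_
      · have : (r.comap DN.t).IsPrime := Ideal.IsPrime.comap _
        refine fun h => heP (r.comap DN.t) this ⟨?_⟩ h
        rw [← hQ'P, ← hrQ, Ideal.under, Ideal.comap_comap, Ideal.comap_comap]
        congr 1
        exact (sN.comp_algebraMap).trans tN.comp_algebraMap.symm
      · have h1 : lmap N K'.val ε₀ ∈ Q' := Ideal.mem_comap.1 (hQ'1.symm ▸ hmem)
        rwa [hε₀] at h1
    refine ⟨Q₁.map (algebraMap _ E), IsLocalization.isPrime_of_isPrime_disjoint (.powers ε₀) _ _ hQ₁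
      ((Ideal.disjoint_powers_iff_notMem_of_isPrime ε₀).2 hε₀Q), ?_⟩
    rw [CommRingCat.hom_ofHom, ← Ideal.comap_comap]
    exact (congrArg (Ideal.comap (Algebra.TensorProduct.includeRight : K' →ₐ[C] N ⊗[C] K').toRingHom)
      (IsLocalization.under_map_of_isPrime_disjoint (.powers ε₀) E hQ₁
        ((Ideal.disjoint_powers_iff_notMem_of_isPrime ε₀).2 hε₀Q))).trans hQ₁q

end Groth.Agent.GrpdLib.AffData
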