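import Groth.Agent.GrpdField29.EtaleCartesian
import Groth.Agent.GrpdLib.Quot
import Groth.Agent.GrpdLib.StabTorsor
import Groth.Agent.SrcDescent.Scheme
import Mathlib.AlgebraicGeometry.Morphisms.FlatDescent

/-! Quotient maps of stabilizer preserving étale cartesian maps of affine groupoids. -/

set_option autoImplicit false
set_option backward.isDefEq.respectTransparency false
set_option backward.isDefEq.respectTransparency.types false
set_option maxHeartbeats 800000

universe u

open CategoryTheory CategoryTheory.Limits AlgebraicGeometry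

namespace Groth.Agent.GrpdLib

/-- A square is cartesian with étale bottom if it becomes so along enough étale maps. -/
theorem etale_and_isPullback_of_local {U U' M M' : Scheme.{u}} (φ : U' ⟶ U) (p' : U' ⟶ M') (p : U ⟶ M)
    (γ : M' ⟶ M) [M'.IsSeparated] (hw : φ ≫ p = p' ≫ γ)
    (H : ∀ m : M', ∃ (E W : Scheme.{u}) (_ : IsAffine E) (g : E ⟶ M') (a' : W ⟶ U') (h : W ⟶ E),
      Etale g ∧ Etale (g ≫ γ) ∧ m ∈ Set.range ⇑g ∧ IsPullback (a' ≫ φ) h p (g ≫ γ) ∧ IsPullback a' h p' g) :
    Etale γ ∧ IsPullback φ p' p γ := by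
  choose E W hE g a' h hg hgγ hm hsq hsq' using H
  let O : M' → M'.Opens := fun m => ⟨Set.range ⇑(g m), (hg m |> fun _ => (g m).isOpenMap).isOpen_range⟩
  have hO : ⨆ m, O m = ⊤ := eq_top_iff.2 fun m _ => TopologicalSpace.Opens.mem_iSup.2 ⟨m, hm m⟩
  let gh : ∀ m, E m ⟶ (O m).toScheme := fun m => IsOpenImmersion.lift (O m).ι (g m) (by
    rw [Scheme.Opens.range_ι]; rfl)
  have hgh : ∀ m, gh m ≫ (O m).ι = g m := fun m => IsOpenImmersion.lift_fac _ _ _
  have hghE : ∀ m, Etale (gh m) := fun m => by
    have := hgh m ▸ hg m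
    exact MorphismProperty.of_postcomp (W := @Etale) (W' := @IsOpenImmersion) _ (O m).ι inferInstance this
  have hghS : ∀ m, Surjective (gh m) := fun m => ⟨fun y => by
    obtain ⟨x, hx⟩ : (O m).ι y ∈ Set.range ⇑(g m) := y.2
    exact ⟨x, (O m).ι.isOpenEmbedding.injective (by rw [← Scheme.Hom.comp_apply, hgh, hx])⟩⟩
  refine ⟨?_, ?_⟩
  · refine IsZariskiLocalAtSource.of_iSup_eq_top (P := @Etale) O hO fun m => ?_
    have := hghS m
    have := hghE m
    refine Groth.Agent.SrcDescent.etale_of_etale_comp (gh m) _ ?_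
    rw [← Category.assoc, hgh]
    exact hgγ m
  · let μ := pullback.lift φ p' hw
    suffices IsIso μ by
      exact IsPullback.of_iso_pullback ⟨hw⟩ (asIso μ) (pullback.lift_fst _ _ _) (pullback.lift_snd _ _ _)
    refine IsZariskiLocalAtTarget.of_iSup_eq_top (P := MorphismProperty.isomorphisms Scheme.{u})
      (fun m => pullback.snd p γ ⁻¹ᵁ O m) ?_ fun m => ?_
    · rw [eq_top_iff]
      intro x _
      exact TopologicalSpace.Opens.mem_iSup.2 ⟨_, hm (pullback.snd p γ x)⟩
    let P := pullback p γ
    let V : P.Opens := pullback.snd p γ ⁻¹ᵁ O m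
    let ω : W m ⟶ P := pullback.lift (a' m ≫ φ) (h m ≫ g m) (by simp [(hsq m).w])
    have hω : IsPullback ω (h m) (pullback.snd p γ) (g m) := by
      refine IsPullback.of_right ?_ (pullback.lift_snd _ _ _) (IsPullback.of_hasPullback p γ)
      simpa [ω] using hsq m
    have hμ : IsPullback (a' m) (𝟙 (W m)) μ ω := by
      refine IsPullback.of_bot ?_ ?_ hω
      · simpa [μ] using hsq' m
      · apply pullback.hom_ext
        · simp [μ, ω]
        · simp [μ, ω, (hsq' m).w]
    let ωh : W m ⟶ V.toScheme := IsOpenImmersion.lift V.ι ω (by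
      rw [Scheme.Opens.range_ι]
      rintro _ ⟨x, rfl⟩
      exact ⟨h m x, by rw [← Scheme.Hom.comp_apply, ← Scheme.Hom.comp_apply, ← hω.w]⟩)
    have hωh : ωh ≫ V.ι = ω := IsOpenImmersion.lift_fac _ _ _
    have hωh' : IsPullback ωh (h m) (pullback.snd p γ ∣_ O m) (gh m) := by
      refine IsPullback.of_right ?_ ?_ (isPullback_morphismRestrict (pullback.snd p γ) (O m)).flip
      · rw [hωh, hgh]; exact hω
      · rw [← cancel_mono (O m).ι, Category.assoc, Category.assoc, morphismRestrict_ι, hgh, ← hω.w, ← hωh,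
          Category.assoc]
    have : QuasiCompact (gh m) := by
      have : CompactSpace (E m) := inferInstance
      have : (O m).toScheme.IsSeparated := ⟨by
        rw [← terminal.comp_from (O m).ι]
        infer_instance⟩
      have : QuasiSeparatedSpace ↥(O m).toScheme := quasiSeparatedSpace_of_quasiSeparated (terminal.from _)
      exact quasiCompact_of_compactSpace _
    have hQ : (@Surjective ⊓ @Flat ⊓ @QuasiCompact : MorphismProperty Scheme.{u}) ωh := by
      refine ⟨⟨?_, ?_⟩, ?_⟩
      · exact MorphismProperty.of_isPullback (P := @Surjective) hωh'.flip (hghS m)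
      · have := hghE m
        exact MorphismProperty.of_isPullback (P := @Flat) hωh'.flip (inferInstance : Flat (gh m))
      · exact MorphismProperty.of_isPullback (P := @QuasiCompact) hωh'.flip ‹_›
    have hah : Set.range ⇑(a' m) ⊆ Set.range ⇑(μ ⁻¹ᵁ V).ι := by
      rw [Scheme.Opens.range_ι]
      rintro _ ⟨x, rfl⟩
      show μ (a' m x) ∈ V
      rw [← Scheme.Hom.comp_apply, hμ.w, Category.id_comp, ← hωh, Scheme.Hom.comp_apply]
      exact (ωh x).2
    let ah : W m ⟶ (μ ⁻¹ᵁ V).toScheme := IsOpenImmersion.lift (μ ⁻¹ᵁ V).ι (a' m) hah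
    have hah' : ah ≫ (μ ⁻¹ᵁ V).ι = a' m := IsOpenImmersion.lift_fac _ _ _
    have hb : IsPullback ah (𝟙 (W m)) (μ ∣_ V) ωh := by
      refine IsPullback.of_right ?_ ?_ (isPullback_morphismRestrict μ V).flip
      · rw [hah', hωh]; exact hμ
      · rw [← cancel_mono V.ι, Category.assoc, morphismRestrict_ι, reassoc_of% hah', hμ.w, Category.id_comp,
          Category.id_comp, hωh]
    exact MorphismProperty.of_isPullback_of_descendsAlong hb.flip hQ
      ((MorphismProperty.isomorphisms.iff (𝟙 (W m))).2 inferInstance)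

open Grpd
open scoped TensorProduct

attribute [local instance] AffData.algB' AffData.algC'

section

variable {S : Scheme.{u}} {G' G : GroupoidScheme S} (f : GroupoidScheme.Hom G' G)
  [IsAffine G.U] [IsAffine G.R] [IsAffine G'.U] [IsAffine G'.R]

/-- The map on global functions of the objects sends invariants to invariants. -/
theorem appTop_mem_invariants (c : G.invariants) : f.fU.appTop.hom c.1 ∈ G'.invariants := by
  show G'.s.appTop.hom _ = G'.t.appTop.hom _
  have hs := congrArg (fun r => r.hom c.1) ((congrArg Scheme.Hom.appTop f.comm_s.symm))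
  have ht := congrArg (fun r => r.hom c.1) ((congrArg Scheme.Hom.appTop f.comm_t.symm))
  simp only [Scheme.Hom.comp_appTop, CommRingCat.hom_comp, RingHom.comp_apply] at hs ht
  rw [hs, ht]
  exact congrArg _ c.2

/-- The map on invariant rings. -/
noncomputable def invMap : G.invariants →+* G'.invariants :=
  (f.fU.appTop.hom.comp G.invariants.subtype).codRestrict _ fun c => appTop_mem_invariants f c

theorem toQuot_specMap_invMap : G'.toQuot ≫ Spec.map (CommRingCat.ofHom (invMap f)) = f.fU ≫ G.toQuot := by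
  rw [isoSpec_hom_toQuot, isoSpec_hom_toQuot, Category.assoc, ← Spec.map_comp, Scheme.isoSpec_hom, Scheme.isoSpec_hom,
    ← Category.assoc f.fU, Scheme.toSpecΓ_naturality, Category.assoc, ← Spec.map_comp]
  rfl

theorem eq_specMap_invMap (g : Spec (CommRingCat.of G'.invariants) ⟶ Spec (CommRingCat.of G.invariants))
    (hg : G'.toQuot ≫ g = f.fU ≫ G.toQuot) : g = Spec.map (CommRingCat.ofHom (invMap f)) := by
  rw [← toQuot_specMap_invMap f, isoSpec_hom_toQuot, Category.assoc, Category.assoc, cancel_epi,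
    ← Spec.map_preimage g, ← Spec.map_comp, ← Spec.map_comp] at hg
  have h := Spec.map_injective hg
  rw [← Spec.map_preimage g]
  refine congrArg Spec.map (CommRingCat.hom_ext (RingHom.ext fun c => Subtype.ext ?_))
  exact congrArg (fun r => r.hom c) h

variable [IsFinite G.s] [Flat G.s] [LocallyOfFinitePresentation G.s]
  [IsFinite G'.s] [Flat G'.s] [LocallyOfFinitePresentation G'.s]
  (hs : IsPullback f.fR G'.s G.s f.fU) (ht : IsPullback f.fR G'.t G.t f.fU)
  (hstab : ∃ g : G'.stabilizer ⟶ G.stabilizer, g ≫ pullback.fst G.j G.diag = pullback.fst G'.j G'.diag ≫ f.fR ∧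
    IsPullback g G'.stabilizerToU G.stabilizerToU f.fU)

include ht hstab in
/-- Geometric points are separated by the base and the invariants. -/
theorem point_ext (L : Type u) [Field L] [IsAlgClosed L] (x y : Spec (CommRingCat.of L) ⟶ G'.U)
    (h₁ : x ≫ f.fU = y ≫ f.fU) (h₂ : x ≫ G'.toQuot = y ≫ G'.toQuot) : x = y := by
  obtain ⟨g, hg₁, hg₂⟩ := hstab
  obtain ⟨r', hrt, hrs⟩ := (point_eq_iff G' L x y).1 h₂
  have h : (r' ≫ f.fR) ≫ G.t = (r' ≫ f.fR) ≫ G.s := by
    rw [Category.assoc, Category.assoc, f.comm_t, f.comm_s, reassoc_of% hrt, reassoc_of% hrs, h₁]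
  obtain ⟨z, hz₁, hz₂⟩ := exists_stab_lift G (r' ≫ f.fR) h
  have hc : z ≫ G.stabilizerToU = x ≫ f.fU := by
    rw [hz₂, Category.assoc, f.comm_t, reassoc_of% hrt]
  let z' := hg₂.lift z x hc
  have e : z' ≫ stabι G' = r' := by
    refine ht.hom_ext ?_ ?_
    · rw [Category.assoc, show stabι G' ≫ f.fR = g ≫ stabι G from hg₁.symm, hg₂.lift_fst_assoc, hz₁]
    · rw [Category.assoc, stabι_t, hg₂.lift_snd, hrt]
  rw [← hrs, ← e, Category.assoc, stabι_s, hg₂.lift_snd]

include hs ht hstab in
/-- The map on quotients is étale and the square is cartesian. -/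
theorem etale_and_isPullback_quotient [Etale f.fU] :
    Etale (Spec.map (CommRingCat.ofHom (invMap f))) ∧
      IsPullback f.fU G'.toQuot G.toQuot (Spec.map (CommRingCat.ofHom (invMap f))) := by
  let D := affData G
  let D' := affData G'
  letI : Algebra G.invariants D'.A := (f.fU.appTop.hom.comp G.invariants.subtype).toAlgebra
  letI : Algebra G.invariants D.A := G.invariants.subtype.toAlgebra
  let φ : D.A →ₐ[G.invariants] D'.A := { f.fU.appTop.hom with commutes' := fun _ => rfl }
  have hc : ∀ c, D.t (algebraMap G.invariants D.A c) = D.s (algebraMap G.invariants D.A c) := fun c => c.2.symm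
  have hc' : ∀ c, D'.t (algebraMap G.invariants D'.A c) = D'.s (algebraMap G.invariants D'.A c) := fun c =>
    (appTop_mem_invariants f c).symm
  obtain ⟨n', ⟨F'⟩⟩ := exists_frame_affData G'
  let K' := AffData.invAlg (D' := D') (C := G.invariants) hc'
  have : Algebra.IsIntegral G.invariants D.A := isIntegral_invariants G
  have hsurj : Function.Surjective (PrimeSpectrum.comap K'.val.toRingHom) :=
    surjective_comap_invariants (G := G')
  have hpts : ∀ (L : Type u) [Field L] [IsAlgClosed L] (x y : D'.A →+* L),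
      x.comp φ.toRingHom = y.comp φ.toRingHom → x.comp K'.val.toRingHom = y.comp K'.val.toRingHom → x = y := by
    intro L _ _ x y h₁ h₂
    have e := point_ext f ht hstab L (ofPointHom (X := G'.U) (K := CommRingCat.of L) x) (ofPointHom (X := G'.U) (K := CommRingCat.of L) y) ?_ ?_
    · simpa [pointHom_ofPointHom] using congrArg pointHom e
    · apply pointHom_injective
      rw [pointHom_comp, pointHom_comp, pointHom_ofPointHom, pointHom_ofPointHom]
      exact h₁
    · simp only [ofPointHom, isoSpec_hom_toQuot, Category.assoc, Iso.inv_hom_id_assoc, ← Spec.map_comp]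
      exact congrArg Spec.map (CommRingCat.hom_ext h₂)
  have hφ : φ.toRingHom.Etale := (HasRingHomProperty.iff_of_isAffine (P := @Etale)).1 ‹_›
  let φS : Spec (CommRingCat.of D'.A) ⟶ Spec (CommRingCat.of D.A) := Spec.map (CommRingCat.ofHom φ.toRingHom)
  let p' : Spec (CommRingCat.of D'.A) ⟶ Spec (CommRingCat.of K') := Spec.map (CommRingCat.ofHom K'.val.toRingHom)
  let p : Spec (CommRingCat.of D.A) ⟶ Spec (CommRingCat.of G.invariants) :=
    Spec.map (CommRingCat.ofHom (algebraMap G.invariants D.A))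
  let γ : Spec (CommRingCat.of K') ⟶ Spec (CommRingCat.of G.invariants) :=
    Spec.map (CommRingCat.ofHom (algebraMap G.invariants K'))
  have hw : φS ≫ p = p' ≫ γ := by
    simp only [φS, p, p', γ, ← Spec.map_comp]
    rfl
  obtain ⟨het, hpb⟩ := etale_and_isPullback_of_local φS p' p γ hw (fun m => by
    obtain ⟨E, W, fE, gE, a, a', h, e₁, e₂, hfE, hgE, sq, sq', Q, hQ, hQm⟩ :=
      AffData.exists_etale_cartesian_nbhd φ f.fR.appTop.hom (isPushout_appTop_of_isPullback hs)
        (isPushout_appTop_of_isPullback ht) hc hc' hφ Subtype.val_injective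
        (fun a ha => ⟨⟨a, ha⟩, rfl⟩) hsurj hpts F' G'.s.finite_appTop m.asIdeal
    refine ⟨Spec E, Spec W, inferInstance, Spec.map gE, Spec.map a', Spec.map h, ?_, ?_, ⟨⟨Q, hQ⟩, PrimeSpectrum.ext hQm⟩,
      ?_, isPullback_SpecMap_of_isPushout _ _ _ _ sq'⟩
    · exact HasRingHomProperty.Spec_iff.2 hgE
    · rw [← Spec.map_comp, e₁]; exact HasRingHomProperty.Spec_iff.2 hfE
    · rw [← Spec.map_comp, ← Spec.map_comp, e₂, e₁]
      exact isPullback_SpecMap_of_isPushout _ _ _ _ sq)
  let ι : CommRingCat.of G'.invariants ≅ CommRingCat.of K' := Iso.refl _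
  have e : Spec.map (CommRingCat.ofHom (invMap f)) = γ := rfl
  refine ⟨e ▸ het, ?_⟩
  refine hpb.of_iso G'.U.isoSpec.symm G.U.isoSpec.symm (Iso.refl _) (Iso.refl _) ?_ ?_ ?_ ?_
  · simp only [φS, Iso.symm_hom]
    exact Scheme.isoSpec_inv_naturality f.fU
  · rw [Iso.refl_hom, Category.comp_id, isoSpec_hom_toQuot]
    exact (G'.U.isoSpec.inv_hom_id_assoc _).symm
  · rw [Iso.refl_hom, Category.comp_id, isoSpec_hom_toQuot]
    exact (G.U.isoSpec.inv_hom_id_assoc _).symm
  · rw [Iso.refl_hom, Iso.refl_hom, Category.comp_id, Category.id_comp]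
    exact e.symm

end

end Groth.Agent.GrpdLib
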