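import Groth.Agent.GrpdField29.TraceFrame

/-! Descent of finite étale algebras along invariants: the algebraic core. -/

set_option autoImplicit false
set_option backward.isDefEq.respectTransparency false
set_option backward.isDefEq.respectTransparency.types false

universe u

open scoped TensorProduct
open Polynomial Matrix

namespace Groth.Agent.GrpdLib

namespace Frame

variable {A B : Type u} [CommRing A] [CommRing B] {α : A →+* B} {n d : ℕ}

/-- The rank polynomial of an idempotent containing a nondegenerate block of size `d`. -/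
theorem eq_of_isUnit_coeff {R : Type u} [CommRing R] (E : Matrix (Fin n) (Fin n) R) (hE : E * E = E)
    (U : Matrix (Fin n) (Fin d) R) (V : Matrix (Fin d) (Fin n) R) (hEU : E * U = U) (hVE : V * E = V)
    (hVU : V * U = 1) (h : IsUnit ((1 + ((X : R[X]) - 1) • E.map C).det.coeff d)) : E = U * V := by
  set Q := U * V with hQ
  have hQQ : Q * Q = Q := by rw [hQ, Matrix.mul_assoc, ← Matrix.mul_assoc V, hVU, Matrix.one_mul]
  have hQE : Q * E = Q := by rw [hQ, Matrix.mul_assoc, hVE]
  have hEQ : E * Q = Q := by rw [hQ, ← Matrix.mul_assoc, hEU]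
  have hPP : (E - Q) * (E - Q) = E - Q := by
    rw [Matrix.sub_mul, Matrix.mul_sub, Matrix.mul_sub, hE, hEQ, hQE, hQQ, sub_self, sub_zero]
  have hQP : Q * (E - Q) = 0 := by rw [Matrix.mul_sub, hQE, hQQ, sub_self]
  have hprod : (1 + ((X : R[X]) - 1) • Q.map C) * (1 + ((X : R[X]) - 1) • (E - Q).map C) =
      1 + ((X : R[X]) - 1) • E.map C := by
    rw [Matrix.add_mul, Matrix.one_mul, Matrix.mul_add, Matrix.mul_one, Matrix.smul_mul, Matrix.mul_smul,
      ← Matrix.map_mul, hQP, Matrix.map_zero _ (map_zero C), smul_zero, smul_zero, add_zero,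
      Matrix.map_sub _ (map_sub C), smul_sub]
    abel
  have hdQ : (1 + ((X : R[X]) - 1) • Q.map C).det = X ^ d := by
    rw [hQ, Matrix.map_mul, ← Matrix.smul_mul, det_one_add_mul_comm, Matrix.mul_smul, ← Matrix.map_mul, hVU,
      Matrix.map_one _ (map_zero C) (map_one C), smul_one_eq_diagonal, ← diagonal_one, diagonal_add,
      det_diagonal]
    simp
  have h0 : IsUnit (1 - (E - Q)).det := by
    have e : (1 + ((X : R[X]) - 1) • E.map C).det.coeff d = (1 - (E - Q)).det := by
      rw [← hprod, det_mul, hdQ, coeff_X_pow_mul', if_pos le_rfl, Nat.sub_self,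
        coeff_zero_eq_eval_zero, ← coe_evalRingHom, RingHom.map_det]
      congr 1
      ext i j
      simp [Matrix.one_apply, apply_ite (Polynomial.eval (0 : R)), sub_eq_add_neg]
    rwa [← e]
  have hu : IsUnit (1 - (E - Q)) := (Matrix.isUnit_iff_isUnit_det _).2 h0
  have : (1 - (E - Q)) * (E - Q) = 0 := by rw [Matrix.sub_mul, Matrix.one_mul, hPP, sub_self]
  exact sub_eq_zero.1 (hu.mul_right_eq_zero.1 this)

/-- Elements with nondegenerate trace pairing and full rank generate locally. -/
theorem exists_pow_mul_eq_sum (F : Frame α n) (θ : Fin d → B) :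
    ∃ N : ℕ, ∀ y : B,
      α (((Matrix.of fun i j => F.tr (θ i * θ j)).det * F.rankPoly.coeff d) ^ N *
        (Matrix.of fun i j => F.tr (θ i * θ j)).det) * y =
      ∑ k, ∑ l, α (((Matrix.of fun i j => F.tr (θ i * θ j)).det * F.rankPoly.coeff d) ^ N *
        (Matrix.of fun i j => F.tr (θ i * θ j)).adjugate k l * F.tr (y * θ l)) * θ k := by
  set G : Matrix (Fin d) (Fin d) A := Matrix.of fun i j => F.tr (θ i * θ j) with hG
  set c := G.det * F.rankPoly.coeff d with hc
  let U : Matrix (Fin n) (Fin d) A := Matrix.of fun i k => F.v i (θ k)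
  let V : Matrix (Fin d) (Fin n) A := Matrix.of fun k j => F.tr (θ k * F.u j)
  have hVv : ∀ k y, ∑ j, V k j * F.v j y = F.tr (θ k * y) := fun k y => by
    conv_rhs => rw [← F.sum_v y, Finset.mul_sum, map_sum]
    refine Finset.sum_congr rfl fun j _ => ?_
    rw [mul_left_comm, F.tr_smul, mul_comm]
    rfl
  have hVU : V * U = G := by
    ext k l
    rw [Matrix.mul_apply]
    exact hVv k (θ l)
  have hEU : F.mat 1 * U = U := by
    ext i k
    simpa only [Matrix.mul_apply, mat_apply, U, Matrix.of_apply, one_mul] using F.v_mul i 1 (θ k)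
  have hVE : V * F.mat 1 = V := by
    ext k j
    simp only [Matrix.mul_apply, mat_apply, hVv, one_mul]
    rfl
  let L := Localization.Away c
  let φ : A →+* L := algebraMap A L
  have hcu : IsUnit (φ c) := IsLocalization.Away.algebraMap_isUnit c
  have hcu' : IsUnit (φ G.det * φ (F.rankPoly.coeff d)) := map_mul φ G.det (F.rankPoly.coeff d) ▸ hcu
  obtain ⟨hδ, hε⟩ := IsUnit.mul_iff.1 hcu'
  obtain ⟨δi, hδi⟩ := isUnit_iff_exists_inv'.1 hδ
  have key : (F.mat 1).map φ = U.map φ * (δi • (G.adjugate * V).map φ) := by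
    refine eq_of_isUnit_coeff _ (by rw [← Matrix.map_mul, ← F.mat_mul, one_mul]) _ _
      (by rw [← Matrix.map_mul, hEU]) ?_ ?_ ?_
    · rw [Matrix.smul_mul, ← Matrix.map_mul, Matrix.mul_assoc, hVE]
    · rw [Matrix.smul_mul, ← Matrix.map_mul, Matrix.mul_assoc, hVU, adjugate_mul]
      ext i j
      simp only [Matrix.smul_apply, Matrix.map_apply, smul_eq_mul, map_mul, Matrix.one_apply]
      split_ifs <;> simp [hδi]
    · have e : (1 + ((X : L[X]) - 1) • ((F.mat 1).map φ).map C).det = F.rankPoly.map φ := by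
        unfold Frame.rankPoly
        rw [← coe_mapRingHom, RingHom.map_det]
        congr 1
        ext i j
        simp [Matrix.one_apply, apply_ite (Polynomial.map φ)]
      rw [e, coeff_map]
      exact hε
  have hz : ∀ i j, φ (G.det * F.mat 1 i j - (U * (G.adjugate * V)) i j) = 0 := fun i j => by
    have h1 := congrFun (congrFun key i) j
    rw [Matrix.mul_smul, ← Matrix.map_mul, Matrix.smul_apply] at h1
    simp only [Matrix.map_apply, smul_eq_mul] at h1
    rw [map_sub, map_mul, h1, ← mul_assoc, mul_comm (φ G.det), hδi, one_mul, sub_self]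
  have hN : ∀ p : Fin n × Fin n, ∃ N : ℕ, c ^ N * (G.det * F.mat 1 p.1 p.2 - (U * (G.adjugate * V)) p.1 p.2) = 0 :=
    fun p => by
      obtain ⟨⟨_, N, rfl⟩, hm⟩ := (IsLocalization.map_eq_zero_iff (Submonoid.powers c) L _).1 (hz p.1 p.2)
      exact ⟨N, hm⟩
  choose Ns hNs using hN
  refine ⟨Finset.univ.sup Ns, fun y => ?_⟩
  have hi : ∀ i, c ^ (Finset.univ.sup Ns) * (G.det * F.v i y) =
      c ^ (Finset.univ.sup Ns) * ∑ k, ∑ l, F.v i (θ k) * (G.adjugate k l * F.tr (y * θ l)) := fun i => by
    have h1 : F.v i y = ∑ j, F.mat 1 i j * F.v j y := by simpa only [mat_apply, one_mul] using (F.v_mul i 1 y).symm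
    have h2 : ∑ k, ∑ l, F.v i (θ k) * (G.adjugate k l * F.tr (y * θ l)) =
        ∑ j, (U * (G.adjugate * V)) i j * F.v j y := by
      simp only [mul_comm y, ← hVv, Matrix.mul_apply, Finset.mul_sum, Finset.sum_mul]
      rw [Finset.sum_comm (γ := Fin n)]
      refine Finset.sum_congr rfl fun k _ => ?_
      rw [Finset.sum_comm]
      exact Finset.sum_congr rfl fun j _ => Finset.sum_congr rfl fun l _ => by simp [U, mul_assoc]
    rw [h2, h1, Finset.mul_sum, Finset.mul_sum, Finset.mul_sum]
    refine Finset.sum_congr rfl fun j _ => ?_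
    rw [← sub_eq_zero, ← mul_assoc G.det, ← mul_sub, ← sub_mul,
      ← Nat.sub_add_cancel (Finset.le_sup (f := Ns) (Finset.mem_univ (i, j))), pow_add, mul_assoc,
      ← mul_assoc (c ^ Ns (i, j)), hNs, zero_mul, mul_zero]
  calc _ = ∑ i, α (c ^ (Finset.univ.sup Ns) * (G.det * F.v i y)) * F.u i := by
        conv_lhs => rw [← F.sum_v y, Finset.mul_sum]
        simp only [map_mul, mul_assoc]
    _ = ∑ i, ∑ k, ∑ l, α (c ^ (Finset.univ.sup Ns) * G.adjugate k l * F.tr (y * θ l)) * (α (F.v i (θ k)) * F.u i) := by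
        refine Finset.sum_congr rfl fun i _ => ?_
        rw [hi]
        simp only [map_mul, map_sum, Finset.mul_sum, Finset.sum_mul]
        exact Finset.sum_congr rfl fun k _ => Finset.sum_congr rfl fun l _ => by ring
    _ = _ := by
        rw [Finset.sum_comm]
        refine Finset.sum_congr rfl fun k _ => ?_
        rw [Finset.sum_comm]
        simp only [← Finset.mul_sum, F.sum_v]

/-- The standard frame of an algebra isomorphic to a product. -/
noncomputable def ofEquiv {L W : Type u} [CommRing L] [CommRing W] [Algebra L W] (e : W ≃ₐ[L] (Fin d → L)) :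
    Frame (algebraMap L W) d where
  u p := e.symm (Pi.single p 1)
  v p := ((Pi.evalAddMonoidHom (fun _ => L) p).comp e.toAlgHom.toRingHom.toAddMonoidHom)
  v_smul p a x := by simp
  sum_v x := by
    refine e.injective (funext fun q => ?_)
    simp [map_sum, Pi.single_apply]

theorem tr_ofEquiv {L W : Type u} [CommRing L] [CommRing W] [Algebra L W] (e : W ≃ₐ[L] (Fin d → L)) (b : W) :
    (ofEquiv e).tr b = ∑ p, e b p := by
  simp [tr_apply, ofEquiv]

theorem rankPoly_ofEquiv {L W : Type u} [CommRing L] [CommRing W] [Algebra L W] (e : W ≃ₐ[L] (Fin d → L)) :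
    (ofEquiv e).rankPoly = X ^ d := by
  have : (ofEquiv e).mat 1 = 1 := by
    ext i j
    simp [mat_apply, ofEquiv, Pi.single_apply, Matrix.one_apply]
  rw [rankPoly, this, Matrix.map_one _ (map_zero C) (map_one C), smul_one_eq_diagonal, ← diagonal_one,
    diagonal_add, det_diagonal]
  simp

end Frame
end Groth.Agent.GrpdLib
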