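import Groth.Agent.FittX.Free
import Groth.Agent.RingPO.Props2
import Groth.Agent.ModPairLib.Basic
import Groth.Agent.GrpdLib.AffLocQuot
import Mathlib.AlgebraicGeometry.Morphisms.FlatRank
import Mathlib.RingTheory.LocalProperties.FinitePresentation
import Mathlib.RingTheory.Flat.Rank

/-! Fitting ideals of a finite morphism. -/

set_option autoImplicit false
set_option backward.isDefEq.respectTransparency false
set_option backward.isDefEq.respectTransparency.types false

universe u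

open CategoryTheory CategoryTheory.Limits AlgebraicGeometry TopologicalSpace

namespace Groth.Agent.GrpdField29

variable {X Y : Scheme.{u}} (f : X ⟶ Y) [IsFinite f]

/-- The Fitting ideal of the functions upstairs over an affine open. -/
noncomputable def fittVal (r : ℕ) (V : Y.affineOpens) : Ideal Γ(Y, V.1) :=
  letI := (f.app V.1).hom.toAlgebra
  Fitt.ideal Γ(Y, V.1) Γ(X, f ⁻¹ᵁ V.1) r

theorem finite_app (V : Y.affineOpens) : (f.app V.1).hom.Finite := IsFinite.finite_app f V.1 V.2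

/-- Fitting values commute with cartesian squares. -/
theorem fittVal_map {X' Y' : Scheme.{u}} {f' : X' ⟶ Y'} [IsFinite f'] {χ : X' ⟶ X} {φ : Y' ⟶ Y}
    (h : IsPullback f' χ φ f) (r : ℕ) (V : Y.affineOpens) (V' : Y'.affineOpens) (e : V'.1 ≤ φ ⁻¹ᵁ V.1) :
    fittVal f' r V' = (fittVal f r V).map (φ.appLE V.1 V'.1 e).hom := by
  have hW : IsAffineOpen (f ⁻¹ᵁ V.1) := V.2.preimage f
  have hW' : IsAffineOpen (f' ⁻¹ᵁ V'.1) := V'.2.preimage f'
  have ec : f' ⁻¹ᵁ V'.1 ≤ χ ⁻¹ᵁ (f ⁻¹ᵁ V.1) := by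
    rw [← Scheme.Hom.comp_preimage, ← h.w, Scheme.Hom.comp_preimage]
    exact f'.preimage_mono e
  have hpo := RingPO.isPushout_appLE_of_isPullback h V.2 V'.2 e hW rfl hW' rfl ec
  simp only [← Scheme.Hom.app_eq_appLE] at hpo
  algebraize [(f.app V.1).hom, (φ.appLE V.1 V'.1 e).hom, (f'.app V'.1).hom,
    (χ.appLE (f ⁻¹ᵁ V.1) (f' ⁻¹ᵁ V'.1) ec).hom, (f'.app V'.1).hom.comp (φ.appLE V.1 V'.1 e).hom]
  have : IsScalarTower Γ(Y, V.1) Γ(X, f ⁻¹ᵁ V.1) Γ(X', f' ⁻¹ᵁ V'.1) :=
    IsScalarTower.of_algebraMap_eq' (congrArg CommRingCat.Hom.hom hpo.w)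
  have hP : Algebra.IsPushout Γ(Y, V.1) Γ(Y', V'.1) Γ(X, f ⁻¹ᵁ V.1) Γ(X', f' ⁻¹ᵁ V'.1) :=
    CommRingCat.isPushout_iff_isPushout.1 hpo
  have : Module.Finite Γ(Y, V.1) Γ(X, f ⁻¹ᵁ V.1) := finite_app f V
  exact FittX.ideal_baseChange hP.out r

/-- The Fitting ideal sheaf of a finite morphism. -/
noncomputable def fitt (r : ℕ) : Y.IdealSheafData where
  ideal := fittVal f r
  map_ideal_basicOpen V g := by
    have hsq : IsPullback f (𝟙 X) (𝟙 Y) f := IsPullback.of_vert_isIso ⟨by simp⟩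
    have h := fittVal_map f hsq r V (Y.affineBasicOpen g) (Y.basicOpen_le g)
    rw [h]
    simp [Scheme.Hom.appLE, Scheme.Hom.id_app]

theorem fitt_mono : Monotone (fitt f) := fun r r' h V => by
  have : (f.app V.1).hom.Finite := finite_app f V
  algebraize [(f.app V.1).hom]
  exact FittX.ideal_mono (M := Γ(X, f ⁻¹ᵁ V.1)) h

theorem fitt_zero_eq_bot {e : Y ⟶ X} (he : e ≫ f = 𝟙 Y) : fitt f 0 = ⊥ := by
  refine le_bot_iff.1 fun V a ha => ?_
  have : (f.app V.1).hom.Finite := finite_app f V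
  algebraize [(f.app V.1).hom]
  have h := FittX.ideal_annihilator (R := Γ(Y, V.1)) (M := Γ(X, f ⁻¹ᵁ V.1)) ha
  rw [Module.mem_annihilator] at h
  have h1 : (f.app V.1).hom a = 0 := by
    have := h 1
    rwa [Algebra.smul_def, mul_one, RingHom.algebraMap_toAlgebra] at this
  have h2 := congrArg (e.app (f ⁻¹ᵁ V.1)).hom h1
  rw [map_zero, ← RingHom.comp_apply, ← CommRingCat.hom_comp, ← Scheme.Hom.comp_app, Scheme.Hom.congr_app he] at h2
  rw [Scheme.IdealSheafData.ideal_bot, Pi.bot_apply, Ideal.mem_bot]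
  exact (injective_iff_map_eq_zero _).1 (ConcreteCategory.bijective_of_isIso
    (Y.presheaf.map (eqToHom (congrArg (fun g : Y ⟶ Y => g ⁻¹ᵁ V.1) he)).op)).1 a (by simp [Scheme.Hom.id_app] at h2 ⊢; exact h2)

theorem exists_notMem_support (y : Y) : ∃ r, y ∉ (fitt f r).support := by
  obtain ⟨_, ⟨V, hV, rfl⟩, hy, -⟩ := Y.isBasis_affineOpens.exists_subset_of_mem_open (Set.mem_univ y) isOpen_univ
  have : (f.app V).hom.Finite := finite_app f ⟨V, hV⟩
  algebraize [(f.app V).hom]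
  obtain ⟨n, x, hx⟩ := FittX.exists_gen Γ(Y, V) Γ(X, f ⁻¹ᵁ V)
  refine ⟨n, fun h => ?_⟩
  have h' := (Scheme.IdealSheafData.mem_support_iff_of_mem (U := ⟨V, hV⟩) hy).1 h
  rw [show (fitt f n).ideal ⟨V, hV⟩ = ⊤ from FittX.ideal_eq_top_of_gen x hx le_rfl] at h'
  rw [Submodule.top_coe, Scheme.zeroLocus_univ] at h'
  exact h' hy

theorem fg_fitt [LocallyOfFinitePresentation f] (r : ℕ) (V : Y.affineOpens) : ((fitt f r).ideal V).FG := by
  have h1 : (f.app V.1).hom.Finite := finite_app f V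
  have h2 : (f.app V.1).hom.FinitePresentation := by
    rw [Scheme.Hom.app_eq_appLE]
    exact HasRingHomProperty.appLE @LocallyOfFinitePresentation f ‹_› V ⟨_, V.2.preimage f⟩ le_rfl
  algebraize [(f.app V.1).hom]
  have : Module.FinitePresentation Γ(Y, V.1) Γ(X, f ⁻¹ᵁ V.1) :=
    Module.FinitePresentation.of_finite_of_finitePresentation _ _
  exact FittX.ideal_fg r

theorem comap_fitt {X' Y' : Scheme.{u}} {f' : X' ⟶ Y'} [IsFinite f'] {χ : X' ⟶ X} {φ : Y' ⟶ Y}
    (h : IsPullback f' χ φ f) (r : ℕ) : (fitt f r).comap φ = fitt f' r := by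
  have hsel : ∀ y : Y', ∃ (V : Y.affineOpens) (V' : Y'.affineOpens), y ∈ V'.1 ∧ V'.1 ≤ φ ⁻¹ᵁ V.1 := fun y => by
    obtain ⟨V, hV, hy, -⟩ := exists_isAffineOpen_mem_and_subset (x := φ y) (U := (⊤ : Y.Opens)) (by simp)
    obtain ⟨V', hV', hy', hle⟩ := exists_isAffineOpen_mem_and_subset (x := y) (U := φ ⁻¹ᵁ V) hy
    exact ⟨⟨V, hV⟩, ⟨V', hV'⟩, hy', hle⟩
  choose V V' hy hle using hsel
  refine Scheme.IdealSheafData.ext_of_iSup_eq_top V' (eq_top_iff.2 fun y _ => Opens.mem_iSup.2 ⟨y, hy y⟩) fun y => ?_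
  rw [ModPairLib.ideal_comap _ φ (V y) (V' y) (hle y)]
  exact (fittVal_map f h r (V y) (V' y) (hle y)).symm

/-- A module with trivial Fitting ideals is locally free. -/
theorem flat_fp_rank {R M : Type u} [CommRing R] [AddCommGroup M] [Module R M] [Module.Finite R M] {d : ℕ}
    (h0 : ∀ k, k < d → Fitt.ideal R M k = ⊥) (h1 : ∀ k, d ≤ k → Fitt.ideal R M k = ⊤) :
    Module.Flat R M ∧ Module.FinitePresentation R M ∧ ∀ p, Module.rankAtStalk (R := R) M p = d := by
  have hfree := (FittX.locallyFree_iff d).2 ⟨h0, h1⟩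
  let s : Set R := {g | Module.Free (Localization.Away g) (LocalizedModule (Submonoid.powers g) M)}
  have hs : Ideal.span s = ⊤ := by
    by_contra hne
    obtain ⟨m, hm, hle⟩ := Ideal.exists_le_maximal _ hne
    obtain ⟨g, hg, hgf, -⟩ := hfree m
    exact hg (hle (Ideal.subset_span hgf))
  have hfin : ∀ g : R, Module.Finite (Localization.Away g) (LocalizedModule (Submonoid.powers g) M) :=
    fun g => Module.Finite.of_isLocalizedModule (Submonoid.powers g)
      (LocalizedModule.mkLinearMap (Submonoid.powers g) M)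
  have hflat : Module.Flat R M := Module.flat_of_localized_span R M s hs fun g => by
    have : Module.Free (Localization.Away g.1) (LocalizedModule (Submonoid.powers g.1) M) := g.2
    exact Module.Flat.trans R (Localization.Away g.1) _
  have hfp : Module.FinitePresentation R M := Module.FinitePresentation.of_localizationSpan s hs fun g => by
    have : Module.Free (Localization.Away g.1) (LocalizedModule (Submonoid.powers g.1) M) := g.2
    have := hfin g.1
    exact Module.finitePresentation_of_projective _ _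
  refine ⟨hflat, hfp, fun p => ?_⟩
  · have e : Module.rankAtStalk (R := R) M p =
        Module.finrank p.asIdeal.ResidueField (TensorProduct R p.asIdeal.ResidueField M) :=
      Module.rankAtStalk_eq p
    refine le_antisymm (e ▸ (FittX.not_le_iff_fiber M d p.asIdeal).1 (by rw [h1 d le_rfl, top_le_iff]; exact p.isPrime.ne_top)) ?_
    rcases d with _ | k
    · exact Nat.zero_le _
    · rw [e, Nat.succ_le_iff]
      by_contra h
      push Not at h
      exact (FittX.not_le_iff_fiber M k p.asIdeal).2 h (by rw [h0 k (Nat.lt_succ_self k)]; exact bot_le)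

/-- A finite morphism with trivial Fitting ideals is finite locally free. -/
theorem isFinLocFreeOfDeg_of_fitt {d : ℕ} (h0 : ∀ k, k < d → fitt f k = ⊥) (h1 : ∀ k, d ≤ k → fitt f k = ⊤) :
    (IsFinite f ∧ Flat f ∧ LocallyOfFinitePresentation f) ∧ ∀ y, f.finrank y = d := by
  have key : ∀ V : Y.affineOpens, (f.app V.1).hom.Flat ∧ (f.app V.1).hom.FinitePresentation ∧
      ∀ p, (f.app V.1).hom.finrank p = d := fun V => by
    have hf : (f.app V.1).hom.Finite := finite_app f V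
    have e0 : ∀ k, k < d → fittVal f k V = ⊥ := fun k hk => congrArg (fun I => Scheme.IdealSheafData.ideal I V) (h0 k hk)
    have e1 : ∀ k, d ≤ k → fittVal f k V = ⊤ := fun k hk => congrArg (fun I => Scheme.IdealSheafData.ideal I V) (h1 k hk)
    algebraize [(f.app V.1).hom]
    obtain ⟨hfl, hfp, hrk⟩ := flat_fp_rank (R := Γ(Y, V.1)) (M := Γ(X, f ⁻¹ᵁ V.1)) e0 e1
    exact ⟨hfl, Algebra.FinitePresentation.of_finitePresentation .., fun p => hrk p⟩
  have hV : ∀ y : Y, ∃ V : Y.Opens, IsAffineOpen V ∧ y ∈ V := fun y => by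
    obtain ⟨V, hV, hy, -⟩ := exists_isAffineOpen_mem_and_subset (x := y) (U := (⊤ : Y.Opens)) (by simp)
    exact ⟨V, hV, hy⟩
  choose V hVa hVy using hV
  have hVt : ⨆ y, V y = ⊤ := eq_top_iff.2 fun y _ => Opens.mem_iSup.2 ⟨y, hVy y⟩
  have loc : ∀ y, Flat (f ∣_ V y) ∧ LocallyOfFinitePresentation (f ∣_ V y) := fun y => by
    have : IsAffine (V y).toScheme := hVa y
    have : IsAffine (f ⁻¹ᵁ V y).toScheme := (hVa y).preimage f
    have hi : (f ∣_ V y).appTop = (V y).topIso.hom ≫ f.app (V y) ≫ (f ⁻¹ᵁ V y).topIso.inv :=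
      GrpdLib.morphismRestrict_appTop' f (V y)
    obtain ⟨k1, k2, -⟩ := key ⟨V y, hVa y⟩
    refine ⟨(HasRingHomProperty.iff_of_isAffine (P := @Flat)).2 ?_,
      (HasRingHomProperty.iff_of_isAffine (P := @LocallyOfFinitePresentation)).2 ?_⟩
    · rw [hi, CommRingCat.hom_comp, CommRingCat.hom_comp]
      exact (RingHom.RespectsIso.cancel_left_isIso RingHom.Flat.respectsIso (V y).topIso.hom (f.app (V y) ≫ (f ⁻¹ᵁ V y).topIso.inv)).2
        ((RingHom.RespectsIso.cancel_right_isIso RingHom.Flat.respectsIso (f.app (V y)) (f ⁻¹ᵁ V y).topIso.inv).2 k1)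
    · rw [hi, CommRingCat.hom_comp, CommRingCat.hom_comp]
      exact (RingHom.RespectsIso.cancel_left_isIso RingHom.finitePresentation_respectsIso (V y).topIso.hom (f.app (V y) ≫ (f ⁻¹ᵁ V y).topIso.inv)).2
        ((RingHom.RespectsIso.cancel_right_isIso RingHom.finitePresentation_respectsIso (f.app (V y)) (f ⁻¹ᵁ V y).topIso.inv).2 k2)
  have : Flat f := IsZariskiLocalAtTarget.of_iSup_eq_top V hVt fun y => (loc y).1
  refine ⟨⟨inferInstance, this, IsZariskiLocalAtTarget.of_iSup_eq_top V hVt fun y => (loc y).2⟩, fun y => ?_⟩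
  obtain ⟨z, hz⟩ : y ∈ Set.range ⇑(hVa y).fromSpec := by rw [(hVa y).range_fromSpec]; exact hVy y
  have hsq := RingPO.isPullback_fromSpec' f (hVa y) ((hVa y).preimage f) rfl
  rw [← hz, ← Scheme.Hom.finrank_of_isPullback _ _ _ _ hsq z, ← Scheme.Hom.app_eq_appLE,
    Scheme.Hom.finrank_SpecMap_eq_finrank (finite_app f ⟨V y, hVa y⟩) (key ⟨V y, hVa y⟩).1]
  exact (key ⟨V y, hVa y⟩).2.2 z

end Groth.Agent.GrpdField29
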