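import Groth.Agent.GrpdField29.FittHom
import Groth.Agent.GrpdLib.DegDecomp
import Groth.Agent.GrpdLib.InvOpen
import Groth.Prelude.Def_Mor2
import Mathlib.AlgebraicGeometry.IdealSheaf.Functorial

/-! The Fitting stratification of the objects of a finite groupoid. -/

set_option autoImplicit false
set_option backward.isDefEq.respectTransparency false
set_option backward.isDefEq.respectTransparency.types false

universe u

open CategoryTheory CategoryTheory.Limits AlgebraicGeometry TopologicalSpace Grpd

namespace Groth.Agent.GrpdField29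

variable {X Y : Scheme.{u}}

theorem comap_subschemeι (I : Y.IdealSheafData) : I.comap I.subschemeι = ⊥ := by
  have : IsIso (pullback.fst I.subschemeι I.subschemeι) := isIso_fst_of_mono _
  exact Scheme.Hom.ker_eq_bot_of_isIso _

/-- A morphism killing an ideal sheaf factors through the subscheme. -/
theorem exists_lift_of_comap_eq_bot (f : X ⟶ Y) {I : Y.IdealSheafData} (h : I.comap f = ⊥) :
    ∃ k : X ⟶ I.subscheme, k ≫ I.subschemeι = f := by
  have : IsIso (I.comap f).subschemeι := (Scheme.isIso_subschemeι_iff_eq_bot _).2 h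
  have : IsIso (pullback.fst f I.subschemeι) := by
    rw [← Scheme.IdealSheafData.comapIso_inv_subschemeι]
    infer_instance
  exact ⟨inv (pullback.fst f I.subschemeι) ≫ pullback.snd _ _, by
    rw [Category.assoc, ← pullback.condition, IsIso.inv_hom_id_assoc]⟩

/-- Being zero is local for ideal sheaves. -/
theorem eq_bot_of_comap (I : Y.IdealSheafData) {ι : Type u} (V : ι → Y.Opens) (hV : ⨆ i, V i = ⊤)
    (h : ∀ i, I.comap (V i).ι = ⊥) : I = ⊥ := by
  rw [← Scheme.isIso_subschemeι_iff_eq_bot]
  refine IsZariskiLocalAtTarget.of_iSup_eq_top (P := MorphismProperty.isomorphisms Scheme) V hV fun i => ?_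
  have : IsIso (I.comap (V i).ι).subschemeι := (Scheme.isIso_subschemeι_iff_eq_bot _).2 (h i)
  have : IsIso (pullback.fst (V i).ι I.subschemeι) := by
    rw [← Scheme.IdealSheafData.comapIso_inv_subschemeι]
    infer_instance
  have hsq := isPullback_morphismRestrict I.subschemeι (V i)
  show IsIso (I.subschemeι ∣_ V i)
  rw [← hsq.flip.flip.isoPullback_hom_fst]
  infer_instance

/-- Two subobjects of `R` cut out by a monomorphism agree if each factors through the other. -/
theorem exists_iso_of_lifts {R U : Scheme.{u}} (f g : R ⟶ U) (m : Y ⟶ U) [Mono m]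
    (h1 : ∃ k, k ≫ m = pullback.fst f m ≫ g) (h2 : ∃ k, k ≫ m = pullback.fst g m ≫ f) :
    ∃ φ : pullback f m ≅ pullback g m, φ.hom ≫ pullback.fst g m = pullback.fst f m := by
  obtain ⟨k1, hk1⟩ := h1
  obtain ⟨k2, hk2⟩ := h2
  exact ⟨{ hom := pullback.lift (pullback.fst f m) k1 hk1.symm
           inv := pullback.lift (pullback.fst g m) k2 hk2.symm
           hom_inv_id := by rw [← cancel_mono (pullback.fst f m)]; simp
           inv_hom_id := by rw [← cancel_mono (pullback.fst g m)]; simp }, pullback.lift_fst _ _ _⟩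

section

variable {R U : Scheme.{u}} (s : R ⟶ U) [IsFinite s]

/-- Over a subscheme killing `Z r` and avoiding `Z (r + 1)` the map is finite locally free of rank `r + 1`. -/
theorem finLocFreeOfDeg_of_strata (φ : Y ⟶ U) (r : ℕ) (h0 : (fitt s r).comap φ = ⊥)
    (h1 : ∀ y, φ y ∉ (fitt s (r + 1)).support) : Mor2.IsFinLocFreeOfDeg (r + 1) (pullback.snd s φ) := by
  have hsq : IsPullback (pullback.snd s φ) (pullback.fst s φ) φ s := (IsPullback.of_hasPullback s φ).flip
  refine isFinLocFreeOfDeg_of_fitt _ (fun k hk => ?_) fun k hk => ?_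
  · rw [← comap_fitt s hsq k, ← le_bot_iff, ← h0]
    exact Scheme.IdealSheafData.comap_mono φ (fitt_mono s (Nat.lt_succ_iff.1 hk))
  · rw [← comap_fitt s hsq k, ← Scheme.IdealSheafData.support_eq_bot_iff, Scheme.IdealSheafData.support_comap]
    refine eq_bot_iff.2 fun y hy => ?_
    exact (h1 y (Scheme.IdealSheafData.support_antitone (fitt_mono s hk) hy)).elim

end

variable {S : Scheme.{u}} (G : GroupoidScheme S) [IsFinite G.s]

/-- The Fitting ideals of the source are invariant. -/
theorem fitt_comap_eq (r : ℕ) : (fitt G.s r).comap G.t = (fitt G.s r).comap G.s :=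
  (comap_fitt G.s (IsPullback.of_hasPullback G.s G.t).flip r).trans
    (comap_fitt G.s (GrpdLib.isPullback_snd_c G) r).symm

theorem mem_fitt_support_iff (r : ℕ) (x : G.R) :
    G.s x ∈ (fitt G.s r).support ↔ G.t x ∈ (fitt G.s r).support := by
  have h := congrArg Scheme.IdealSheafData.support (fitt_comap_eq G r)
  rw [Scheme.IdealSheafData.support_comap, Scheme.IdealSheafData.support_comap] at h
  exact (SetLike.ext_iff.1 h x).symm

/-- Invariance of the Fitting subschemes. -/
theorem exists_iso_fitt (r : ℕ) :
    ∃ φ : pullback G.s (fitt G.s r).subschemeι ≅ pullback G.t (fitt G.s r).subschemeι,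
      φ.hom ≫ pullback.fst G.t (fitt G.s r).subschemeι = pullback.fst G.s (fitt G.s r).subschemeι := by
  refine exists_iso_of_lifts _ _ _ (exists_lift_of_comap_eq_bot _ ?_) (exists_lift_of_comap_eq_bot _ ?_)
  · rw [Scheme.IdealSheafData.comap_comp, fitt_comap_eq, ← Scheme.IdealSheafData.comap_comp, pullback.condition,
      Scheme.IdealSheafData.comap_comp, comap_subschemeι, Scheme.IdealSheafData.comap_bot]
  · rw [Scheme.IdealSheafData.comap_comp, ← fitt_comap_eq, ← Scheme.IdealSheafData.comap_comp, pullback.condition,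
      Scheme.IdealSheafData.comap_comp, comap_subschemeι, Scheme.IdealSheafData.comap_bot]

theorem fitt_s_zero : fitt G.s 0 = ⊥ := fitt_zero_eq_bot G.s G.e_s

end Groth.Agent.GrpdField29
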