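import Groth.Agent.GrpdField29.FittStrat
import Groth.Agent.GrpdLib.StabTorsor

/-! The open part of the Fitting stratification and its invariant thickening. -/

set_option autoImplicit false
set_option backward.isDefEq.respectTransparency false
set_option backward.isDefEq.respectTransparency.types false

universe u

open CategoryTheory CategoryTheory.Limits AlgebraicGeometry TopologicalSpace Grpd

namespace Groth.Agent.GrpdField29

variable {X Y : Scheme.{u}}

/-- Pulling back ideal sheaves along open immersions commutes with intersections. -/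
theorem comap_inf_openImm (j : X ⟶ Y) [IsOpenImmersion j] (I J : Y.IdealSheafData) :
    (I ⊓ J).comap j = I.comap j ⊓ J.comap j := by
  refine Scheme.IdealSheafData.ext_of_iSup_eq_top (fun V : X.affineOpens => V) (iSup_affineOpens_eq_top X) fun V => ?_
  let V' : Y.affineOpens := ⟨j ''ᵁ V.1, V.2.image_of_isOpenImmersion j⟩
  have e : V.1 ≤ j ⁻¹ᵁ V'.1 := (j.preimage_image_eq V.1).ge
  rw [Scheme.IdealSheafData.ideal_inf, Pi.inf_apply, ModPairLib.ideal_comap _ j V' V e,
    ModPairLib.ideal_comap _ j V' V e, ModPairLib.ideal_comap _ j V' V e, Scheme.IdealSheafData.ideal_inf, Pi.inf_apply]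
  have hiso : IsIso (j.appLE V'.1 V.1 e) := by
    rw [← Scheme.Hom.appIso_hom']
    infer_instance
  let g := (asIso (j.appLE V'.1 V.1 e)).commRingCatIsoToRingEquiv
  show Ideal.map (g : Γ(Y, V'.1) →+* Γ(X, V.1)) _ = Ideal.map (g : Γ(Y, V'.1) →+* Γ(X, V.1)) _ ⊓
    Ideal.map (g : Γ(Y, V'.1) →+* Γ(X, V.1)) _
  rw [Ideal.map_comap_of_equiv, Ideal.map_comap_of_equiv, Ideal.map_comap_of_equiv, Ideal.comap_inf]

theorem comap_map_mono (j : X ⟶ Y) [IsClosedImmersion j] (K : X.IdealSheafData) : (K.map j).comap j = K := by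
  show ((K.subschemeι ≫ j).ker).comap j = K
  rw [← Scheme.IdealSheafData.ker_fst_of_isClosedImmersion]
  have hsq : IsPullback K.subschemeι (𝟙 _) j (K.subschemeι ≫ j) := by
    refine IsPullback.of_isLimit (PullbackCone.IsLimit.mk (eq := (Category.id_comp _).symm)
      (fun c => c.snd) (fun c => ?_) (fun c => Category.comp_id _) fun c m _ hm => ?_)
    · rw [← cancel_mono j, Category.assoc, ← c.condition]
    · simpa using hm
  rw [← hsq.isoPullback_inv_fst, Scheme.Hom.ker_comp_of_isIso, Scheme.IdealSheafData.ker_subschemeι]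

/-- A property local on the target holds for a base change if it holds over the pieces of a cover. -/
theorem pullback_snd_of_cover {R U : Scheme.{u}} (P : MorphismProperty Scheme.{u}) [IsZariskiLocalAtTarget P]
    (s : R ⟶ U) (m : Y ⟶ U) {ι : Type u} (O : ι → Y.Opens) (hO : ⨆ i, O i = ⊤)
    (h : ∀ i, P (pullback.snd s ((O i).ι ≫ m))) : P (pullback.snd s m) := by
  refine IsZariskiLocalAtTarget.of_iSup_eq_top O hO fun i => ?_
  have hsq := (isPullback_morphismRestrict (pullback.snd s m) (O i)).flip.paste_horiz (IsPullback.of_hasPullback s m)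
  rw [← hsq.isoPullback_hom_snd, MorphismProperty.cancel_left_of_respectsIso P]
  exact h i

variable {S : Scheme.{u}} (G : GroupoidScheme S)

/-- The target over a subobject is finite locally free if the source is. -/
theorem isFinLocFree_snd_t (m : Y ⟶ G.U) (h : Mor2.IsFinLocFree (pullback.snd G.s m)) :
    Mor2.IsFinLocFree (pullback.snd G.t m) := by
  have : IsIso G.i := ⟨G.i, GrpdLib.i_i G, GrpdLib.i_i G⟩
  let M := pullback.map G.t m G.s m G.i (𝟙 _) (𝟙 _) (by rw [Category.comp_id, G.i_s]) (by simp)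
  have hM : IsIso M := inferInstance
  have e : M ≫ pullback.snd G.s m = pullback.snd G.t m := by simp [M]
  rw [← e]
  exact ⟨(MorphismProperty.cancel_left_of_respectsIso @IsFinite M _).2 h.1,
    (MorphismProperty.cancel_left_of_respectsIso @Flat M _).2 h.2.1,
    (MorphismProperty.cancel_left_of_respectsIso @LocallyOfFinitePresentation M _).2 h.2.2⟩

variable [IsFinite G.s]

/-- A stratum. -/
def stratum (r : ℕ) : Set G.U := ((fitt G.s r).support : Set G.U) \ (fitt G.s (r + 1)).support

/-- The largest invariant open inside a stratum. -/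
def openStratum (r : ℕ) : G.U.Opens := GrpdLib.invCore G ⟨interior (stratum G r), isOpen_interior⟩

theorem mem_stratum {r : ℕ} {x : G.U} (h : x ∈ openStratum G r) : x ∈ stratum G r :=
  interior_subset (GrpdLib.invCore_le _ h)

theorem stratum_eq {r k : ℕ} {x : G.U} (hr : x ∈ stratum G r) (hk : x ∈ stratum G k) : r = k := by
  have aux : ∀ {a b : ℕ}, x ∈ stratum G a → x ∈ stratum G b → ¬ a < b := fun {a b} ha hb hab =>
    ha.2 (Scheme.IdealSheafData.support_antitone (fitt_mono G.s hab) hb.1)
  have := aux hr hk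
  have := aux hk hr
  omega

/-- The union of the open strata. -/
def thickOpen : G.U.Opens := ⨆ r, openStratum G r

theorem mem_thickOpen {x : G.U} : x ∈ thickOpen G ↔ ∃ r, x ∈ openStratum G r := Opens.mem_iSup

theorem openStratum_le (r : ℕ) : openStratum G r ≤ thickOpen G := le_iSup _ r

theorem isInv_thickOpen : GrpdLib.IsInv G (thickOpen G) := GrpdLib.isInv_of_mem fun a ha => by
  obtain ⟨r, hr⟩ := (mem_thickOpen G).1 ha
  exact (mem_thickOpen G).2 ⟨r, ((GrpdLib.isInv_invCore _).mem_iff a).1 hr⟩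

theorem exists_arrow_closure [IsFinite G.t] (u : G.U) :
    ∃ r : G.R, G.t r = u ∧ G.s r ∈ closure (thickOpen G : Set G.U) := by
  classical
  let A : Set G.U := G.t '' (G.s ⁻¹' closure (thickOpen G : Set G.U))
  have hA : IsClosed A := G.t.isClosedMap _ (isClosed_closure.preimage G.s.continuous)
  have hAinv : ∀ x : G.R, G.s x ∈ A → G.t x ∈ A := by
    rintro x ⟨y, hy, e⟩
    obtain ⟨z, h1, h2⟩ := GrpdLib.exists_comp G x y e.symm
    exact ⟨z, by rw [Set.mem_preimage, h2]; exact hy, h1⟩
  let O : G.U.Opens := ⟨Aᶜ, hA.isOpen_compl⟩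
  have hOinv : ∀ x : G.R, G.s x ∈ O → G.t x ∈ O := fun x hx h => hx (by
    have := hAinv (G.i x) (by rw [← Scheme.Hom.comp_apply, G.i_s]; exact h)
    rwa [← Scheme.Hom.comp_apply, G.i_t] at this)
  have hOW : ∀ x : G.U, x ∈ thickOpen G → x ∉ O := fun x hx h => h ⟨G.e x, by
    rw [Set.mem_preimage, ← Scheme.Hom.comp_apply, G.e_s]
    exact subset_closure hx, by rw [← Scheme.Hom.comp_apply, G.e_t]; rfl⟩
  by_contra hne
  have hu : u ∈ O := by
    rintro ⟨r, hr, e⟩
    exact hne ⟨r, e, hr⟩
  obtain ⟨n, hn⟩ := exists_notMem_support G.s u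
  have hex : ∃ n, ∃ x ∈ O, x ∉ (fitt G.s n).support := ⟨n, u, hu, hn⟩
  obtain ⟨x, hxO, hx⟩ := Nat.find_spec hex
  obtain ⟨r, hr⟩ : ∃ r, Nat.find hex = r + 1 := by
    refine ⟨_, (Nat.succ_pred_eq_of_ne_zero fun h => ?_).symm⟩
    rw [h, fitt_s_zero, Scheme.IdealSheafData.support_bot] at hx
    exact hx trivial
  rw [hr] at hx
  have hmin : ∀ y ∈ O, y ∈ (fitt G.s r).support := fun y hy => by
    by_contra h
    have := Nat.find_min' hex ⟨y, hy, h⟩
    omega
  let O' : G.U.Opens := O ⊓ ⟨_, (fitt G.s (r + 1)).support.isClosed.isOpen_compl⟩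
  have hO' : (O' : Set G.U) ⊆ interior (stratum G r) :=
    interior_maximal (fun y hy => ⟨hmin y hy.1, hy.2⟩) O'.isOpen
  refine hOW x ((mem_thickOpen G).2 ⟨r, GrpdLib.mem_invCore.2 fun a ha => hO' ⟨hOinv a ?_, ?_⟩⟩) hxO
  · rw [ha]; exact hxO
  · exact fun h => hx (ha ▸ (mem_fitt_support_iff G (r + 1) a).2 h)

/-- The inclusion of an open stratum in their union. -/
noncomputable abbrev incl (r : ℕ) : (openStratum G r).toScheme ⟶ (thickOpen G).toScheme :=
  G.U.homOfLE (openStratum_le G r)

theorem mem_range_incl (r : ℕ) (x : thickOpen G) :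
    x ∈ Set.range (incl G r) ↔ x.1 ∈ openStratum G r := by
  constructor
  · rintro ⟨y, rfl⟩
    have : (thickOpen G).ι (incl G r y) = (openStratum G r).ι y := by
      rw [← Scheme.Hom.comp_apply, Scheme.homOfLE_ι]
    show (thickOpen G).ι (incl G r y) ∈ openStratum G r
    rw [this]
    exact y.2
  · refine fun h => ⟨⟨x.1, h⟩, Subtype.ext ?_⟩
    show (thickOpen G).ι (incl G r ⟨x.1, h⟩) = x.1
    rw [← Scheme.Hom.comp_apply, Scheme.homOfLE_ι]
    rfl

theorem isClosedImmersion_incl (r : ℕ) : IsClosedImmersion (incl G r) := by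
  refine IsClosedImmersion.of_isPreimmersion _ ?_
  rw [← isOpen_compl_iff]
  have : (Set.range (incl G r))ᶜ = ⋃ k : {k // k ≠ r}, Set.range (incl G k.1) := by
    ext x
    simp only [Set.mem_compl_iff, Set.mem_iUnion]
    constructor
    · intro h
      obtain ⟨k, hk⟩ := (mem_thickOpen G).1 x.2
      exact ⟨⟨k, fun e => h ((mem_range_incl G r x).2 (e ▸ hk))⟩, (mem_range_incl G k x).2 hk⟩
    · rintro ⟨k, hk⟩ h
      exact k.2 (stratum_eq G (mem_stratum G ((mem_range_incl G k.1 x).1 hk))
        (mem_stratum G ((mem_range_incl G r x).1 h)))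
  rw [this]
  exact isOpen_iUnion fun k => (incl G k.1).isOpenEmbedding.isOpen_range

theorem exists_thickening : ∃ W' : (thickOpen G).toScheme.IdealSheafData, W'.support = ⊤ ∧
    ∀ r, W'.comap (incl G r) = (fitt G.s r).comap (openStratum G r).ι := by
  let K := fun r => (fitt G.s r).comap (openStratum G r).ι
  let W' : (thickOpen G).toScheme.IdealSheafData := ⨅ r, (K r).map (incl G r)
  have key : ∀ r, W'.comap (incl G r) = K r := fun r => by
    have := isClosedImmersion_incl G r
    refine le_antisymm ((Scheme.IdealSheafData.comap_mono _ (iInf_le _ r)).trans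
      (Scheme.IdealSheafData.comap_map_le _ _)) ?_
    let O : (thickOpen G).toScheme.Opens :=
      ⟨(Set.range (incl G r))ᶜ, (incl G r).isClosedEmbedding.isClosed_range.isOpen_compl⟩
    have : IsClosedImmersion O.ι := by
      refine IsClosedImmersion.of_isPreimmersion _ ?_
      rw [Scheme.Opens.range_ι]
      exact (incl G r).isOpenEmbedding.isOpen_range.isClosed_compl
    have hJ : (K r).map (incl G r) ⊓ O.ι.ker ≤ W' := le_iInf fun k => by
      rcases eq_or_ne k r with rfl | hk
      · exact inf_le_left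
      · refine inf_le_right.trans (Scheme.IdealSheafData.le_map_iff_comap_le.2 ?_)
        have hrange : Set.range (incl G k) ⊆ Set.range O.ι := by
          rw [Scheme.Opens.range_ι]
          rintro x hx (hx' : x ∈ Set.range (incl G r))
          exact hk (stratum_eq G (mem_stratum G ((mem_range_incl G k x).1 hx))
            (mem_stratum G ((mem_range_incl G r x).1 hx')))
        rw [← IsOpenImmersion.lift_fac O.ι (incl G k) hrange, Scheme.IdealSheafData.comap_comp]
        have h0 : O.ι.ker.comap O.ι = ⊥ := le_bot_iff.1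
          (Scheme.IdealSheafData.le_map_iff_comap_le.1 (Scheme.IdealSheafData.map_bot O.ι).ge)
        rw [h0, Scheme.IdealSheafData.comap_bot]
        exact bot_le
    refine le_trans (le_of_eq ?_) (Scheme.IdealSheafData.comap_mono _ hJ)
    show K r = ((K r).map (incl G r) ⊓ O.ι.ker).comap (incl G r)
    have htop : O.ι.ker.comap (incl G r) = ⊤ := by
      rw [← Scheme.IdealSheafData.support_eq_bot_iff, Scheme.IdealSheafData.support_comap]
      refine eq_bot_iff.2 fun y hy => ?_
      have hy' : incl G r y ∈ closure (Set.range O.ι) := by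
        rw [← Scheme.Hom.support_ker]
        exact hy
      rw [O.ι.isClosedEmbedding.isClosed_range.closure_eq, Scheme.Opens.range_ι] at hy'
      exact (hy' ⟨y, rfl⟩).elim
    rw [comap_inf_openImm, comap_map_mono, htop, inf_top_eq]
  refine ⟨W', eq_top_iff.2 fun x _ => ?_, key⟩
  obtain ⟨r, hr⟩ := (mem_thickOpen G).1 x.2
  obtain ⟨y, rfl⟩ := (mem_range_incl G r x).2 hr
  have h := congrArg Scheme.IdealSheafData.support (key r)
  rw [Scheme.IdealSheafData.support_comap, Scheme.IdealSheafData.support_comap] at h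
  exact (SetLike.ext_iff.1 h y).2 (mem_stratum G y.2).1

variable {G} {W' : (thickOpen G).toScheme.IdealSheafData}
  (hW' : ∀ r, W'.comap (incl G r) = (fitt G.s r).comap (openStratum G r).ι)
include hW'

theorem comap_eq_bot_of_comap_eq {P : Scheme.{u}} (b f : P ⟶ (thickOpen G).toScheme)
    (hr : ∀ r (x : P), (b x).1 ∈ openStratum G r → (f x).1 ∈ openStratum G r)
    (hc : ∀ r, (fitt G.s r).comap (f ≫ (thickOpen G).ι) = (fitt G.s r).comap (b ≫ (thickOpen G).ι))
    (hb : W'.comap b = ⊥) : W'.comap f = ⊥ := by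
  let P' : ULift.{u} ℕ → P.Opens := fun r => b ⁻¹ᵁ (incl G r.down).opensRange
  refine eq_bot_of_comap _ P' (eq_top_iff.2 fun x _ => ?_) fun ⟨r⟩ => ?_
  · obtain ⟨r, hr'⟩ := (mem_thickOpen G).1 (b x).2
    exact Opens.mem_iSup.2 ⟨⟨r⟩, (mem_range_incl G r _).2 hr'⟩
  have hb1 : Set.range ((P' ⟨r⟩).ι ≫ b) ⊆ Set.range (incl G r) := by
    rintro _ ⟨x, rfl⟩
    exact x.2
  have hf1 : Set.range ((P' ⟨r⟩).ι ≫ f) ⊆ Set.range (incl G r) := by
    rintro _ ⟨x, rfl⟩
    exact (mem_range_incl G r _).2 (hr r _ ((mem_range_incl G r _).1 x.2))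
  have eb := IsOpenImmersion.lift_fac (incl G r) _ hb1
  have ef := IsOpenImmersion.lift_fac (incl G r) _ hf1
  rw [← Scheme.IdealSheafData.comap_comp, ← ef, Scheme.IdealSheafData.comap_comp, hW',
    ← Scheme.IdealSheafData.comap_comp, ← Scheme.homOfLE_ι _ (openStratum_le G r), ← Category.assoc, ef,
    Category.assoc, Scheme.IdealSheafData.comap_comp, hc, ← Scheme.IdealSheafData.comap_comp, ← Category.assoc,
    ← eb, Category.assoc, Scheme.homOfLE_ι, Scheme.IdealSheafData.comap_comp, ← hW',
    ← Scheme.IdealSheafData.comap_comp, eb, Scheme.IdealSheafData.comap_comp, hb, Scheme.IdealSheafData.comap_bot]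

theorem exists_lift_thick {P : Scheme.{u}} (g : P ⟶ G.U) (b : P ⟶ W'.subscheme)
    (hr : ∀ r (x : P), (W'.subschemeι (b x)).1 ∈ openStratum G r → g x ∈ openStratum G r)
    (hc : ∀ r, (fitt G.s r).comap g = (fitt G.s r).comap (b ≫ W'.subschemeι ≫ (thickOpen G).ι)) :
    ∃ k, k ≫ W'.subschemeι ≫ (thickOpen G).ι = g := by
  have hg : Set.range g ⊆ Set.range (thickOpen G).ι := by
    rintro _ ⟨x, rfl⟩
    rw [Scheme.Opens.range_ι]
    obtain ⟨r, h⟩ := (mem_thickOpen G).1 (W'.subschemeι (b x)).2
    exact openStratum_le G r (hr r x h)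
  have ef := IsOpenImmersion.lift_fac (thickOpen G).ι g hg
  have h0 : W'.comap (IsOpenImmersion.lift (thickOpen G).ι g hg) = ⊥ := by
    refine comap_eq_bot_of_comap_eq hW' (b ≫ W'.subschemeι) _ (fun r x h => ?_) (fun r => ?_) ?_
    · show (thickOpen G).ι (IsOpenImmersion.lift (thickOpen G).ι g hg x) ∈ _
      rw [← Scheme.Hom.comp_apply, ef]
      exact hr r x h
    · rw [ef, Category.assoc]
      exact hc r
    · rw [Scheme.IdealSheafData.comap_comp, comap_subschemeι, Scheme.IdealSheafData.comap_bot]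
  obtain ⟨k, hk⟩ := exists_lift_of_comap_eq_bot _ h0
  exact ⟨k, by rw [reassoc_of% hk, ef]⟩

theorem exists_iso_thick :
    ∃ φ : pullback G.s (W'.subschemeι ≫ (thickOpen G).ι) ≅ pullback G.t (W'.subschemeι ≫ (thickOpen G).ι),
      φ.hom ≫ pullback.fst G.t (W'.subschemeι ≫ (thickOpen G).ι) =
        pullback.fst G.s (W'.subschemeι ≫ (thickOpen G).ι) := by
  refine exists_iso_of_lifts _ _ _ ?_ ?_
  · refine exists_lift_thick hW' _ (pullback.snd G.s (W'.subschemeι ≫ (thickOpen G).ι)) (fun r x h => ?_) fun r => ?_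
    · rw [Scheme.Hom.comp_apply, openStratum, ← (GrpdLib.isInv_invCore _).mem_iff, ← openStratum, ← Scheme.Hom.comp_apply, pullback.condition]
      exact h
    · rw [← pullback.condition, Scheme.IdealSheafData.comap_comp, fitt_comap_eq,
        ← Scheme.IdealSheafData.comap_comp]
  · refine exists_lift_thick hW' _ (pullback.snd G.t (W'.subschemeι ≫ (thickOpen G).ι)) (fun r x h => ?_) fun r => ?_
    · rw [Scheme.Hom.comp_apply, openStratum, (GrpdLib.isInv_invCore _).mem_iff, ← openStratum, ← Scheme.Hom.comp_apply, pullback.condition]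
      exact h
    · rw [← pullback.condition, Scheme.IdealSheafData.comap_comp, ← fitt_comap_eq,
        ← Scheme.IdealSheafData.comap_comp]

theorem isFinLocFree_thick_s : Mor2.IsFinLocFree (pullback.snd G.s (W'.subschemeι ≫ (thickOpen G).ι)) := by
  let O : ULift.{u} ℕ → W'.subscheme.Opens := fun r => W'.subschemeι ⁻¹ᵁ (incl G r.down).opensRange
  have hO : ⨆ r, O r = ⊤ := eq_top_iff.2 fun x _ => by
    obtain ⟨r, hr⟩ := (mem_thickOpen G).1 (W'.subschemeι x).2
    exact Opens.mem_iSup.2 ⟨⟨r⟩, (mem_range_incl G r _).2 hr⟩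
  have hd : ∀ i, Mor2.IsFinLocFreeOfDeg (i.down + 1) (pullback.snd G.s ((O i).ι ≫ W'.subschemeι ≫ (thickOpen G).ι)) := by
    rintro ⟨r⟩
    have hb : Set.range ((O ⟨r⟩).ι ≫ W'.subschemeι) ⊆ Set.range (incl G r) := by
      rintro _ ⟨x, rfl⟩
      exact x.2
    have eb := IsOpenImmersion.lift_fac (incl G r) _ hb
    refine finLocFreeOfDeg_of_strata G.s _ r ?_ fun y => ?_
    · rw [← Category.assoc, ← eb, Category.assoc, Scheme.homOfLE_ι, Scheme.IdealSheafData.comap_comp, ← hW',
        ← Scheme.IdealSheafData.comap_comp, eb, Scheme.IdealSheafData.comap_comp, comap_subschemeι,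
        Scheme.IdealSheafData.comap_bot]
    · exact (mem_stratum G ((mem_range_incl G r _).1 y.2)).2
  exact ⟨pullback_snd_of_cover @IsFinite _ _ O hO fun i => (hd i).1.1,
    pullback_snd_of_cover @Flat _ _ O hO fun i => (hd i).1.2.1,
    pullback_snd_of_cover @LocallyOfFinitePresentation _ _ O hO fun i => (hd i).1.2.2⟩

end Groth.Agent.GrpdField29
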