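import Groth.Agent.GrpdField29.FittThick
import Groth.Agent.GrpdField29.MaxPoint
import Groth.Agent.MorLib.IdealFG2

/-! The thickening of a finitely presented finite groupoid. -/

set_option autoImplicit false
set_option backward.isDefEq.respectTransparency false
set_option backward.isDefEq.respectTransparency.types false

universe u

open CategoryTheory CategoryTheory.Limits AlgebraicGeometry TopologicalSpace Grpd

namespace Groth.Agent.GrpdField29

variable {S : Scheme.{u}} (G : GroupoidScheme S) [IsFinite G.s] [LocallyOfFinitePresentation G.s]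

/-- Maximal points of a stratum are interior. -/
theorem mem_interior_stratum {r : ℕ} {y : G.U} (hmax : ∀ x, x ⤳ y → x = y) (hy : y ∈ stratum G r) :
    y ∈ interior (stratum G r) := by
  classical
  obtain ⟨V, hV, hyV, -⟩ := exists_isAffineOpen_mem_and_subset (x := y) (U := (⊤ : G.U.Opens)) trivial
  obtain ⟨gens, hgens⟩ := fg_fitt G.s r ⟨V, hV⟩
  let W : G.U.Opens := ⨆ g : gens, G.U.basicOpen g.1
  have hW : IsCompact (W : Set G.U) := by
    rw [Opens.coe_iSup]
    exact isCompact_iUnion fun g => (hV.basicOpen g.1).isCompact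
  have hWV : W ≤ V := iSup_le fun g => G.U.basicOpen_le _
  have hiff : ∀ x ∈ V, x ∈ (fitt G.s r).support ↔ x ∉ W := fun x hx => by
    rw [Scheme.IdealSheafData.mem_support_iff_of_mem (U := ⟨V, hV⟩) hx, ← hgens, Scheme.zeroLocus_span,
      Scheme.mem_zeroLocus_iff, Opens.mem_iSup]
    simp
  have hyW : y ∉ closure (W : Set G.U) := notMem_closure_of_compact hmax hV hyV hW hWV ((hiff y hyV).1 hy.1)
  refine mem_interior.2 ⟨(V : Set G.U) ∩ (closure (W : Set G.U))ᶜ ∩ ((fitt G.s (r + 1)).support : Set G.U)ᶜ, ?_,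
    (V.isOpen.inter isClosed_closure.isOpen_compl).inter (fitt G.s (r + 1)).support.isClosed.isOpen_compl,
    ⟨hyV, hyW⟩, hy.2⟩
  rintro x ⟨⟨hxV, hxW⟩, hx1⟩
  exact ⟨(hiff x hxV).2 fun h => hxW (subset_closure h), hx1⟩

omit [LocallyOfFinitePresentation G.s] in
theorem exists_mem_stratum (x : G.U) : ∃ r, x ∈ stratum G r := by
  classical
  have hex := exists_notMem_support G.s x
  obtain ⟨r, hr⟩ : ∃ r, Nat.find hex = r + 1 := by
    refine ⟨_, (Nat.succ_pred_eq_of_ne_zero fun h => ?_).symm⟩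
    have hx := Nat.find_spec hex
    rw [h, fitt_s_zero, Scheme.IdealSheafData.support_bot] at hx
    exact hx trivial
  refine ⟨r, ?_, hr ▸ Nat.find_spec hex⟩
  by_contra h
  have := Nat.find_min' hex h
  omega

/-- Points with maximal orbit lie in the union of the open strata. -/
theorem mem_thickOpen_of_maximal (u : G.U) (hu : ∀ r : G.R, G.s r = u → ∀ x : G.U, x ⤳ G.t r → x = G.t r) :
    u ∈ thickOpen G := by
  obtain ⟨r, hr⟩ := exists_mem_stratum G u
  refine (mem_thickOpen G).2 ⟨r, GrpdLib.mem_invCore.2 fun a ha => mem_interior_stratum G (hu a ha) ⟨?_, fun h => ?_⟩⟩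
  · exact (mem_fitt_support_iff G r a).1 (ha.symm ▸ hr.1)
  · exact hr.2 (ha ▸ (mem_fitt_support_iff G (r + 1) a).2 h)

theorem lfp_thick {W' : (thickOpen G).toScheme.IdealSheafData}
    (hW' : ∀ r, W'.comap (incl G r) = (fitt G.s r).comap (openStratum G r).ι) :
    LocallyOfFinitePresentation W'.subschemeι := by
  refine MorLib.IdealFG.lfp_subschemeι fun V => MorLib.IdealFG.fg_of_cover _ V fun x hx => ?_
  obtain ⟨r, hr⟩ := (mem_thickOpen G).1 x.2
  obtain ⟨y, rfl⟩ := (mem_range_incl G r x).2 hr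
  obtain ⟨V₀, hV₀, hy, -⟩ := exists_isAffineOpen_mem_and_subset (x := y) (U := ⊤) trivial
  let j := incl G r
  let V' : (thickOpen G).toScheme.affineOpens := ⟨j ''ᵁ V₀, hV₀.image_of_isOpenImmersion j⟩
  refine ⟨V', ⟨y, hy, rfl⟩, ?_⟩
  have e : V₀ ≤ j ⁻¹ᵁ V'.1 := (j.preimage_image_eq V₀).ge
  have h := MorLib.IdealFG.isFG_comap (fg_fitt G.s r) (openStratum G r).ι ⟨V₀, hV₀⟩
  rw [← hW', ModPairLib.ideal_comap _ j V' ⟨V₀, hV₀⟩ e] at h
  have hiso : IsIso (j.appLE V'.1 V₀ e) := by
    rw [← Scheme.Hom.appIso_hom']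
    infer_instance
  let g := (asIso (j.appLE V'.1 V₀ e)).commRingCatIsoToRingEquiv
  have h' := h.map g.symm.toRingHom
  rwa [Ideal.map_map, show g.symm.toRingHom.comp (j.appLE V'.1 V₀ e).hom = RingHom.id _ from
    RingHom.ext fun a => g.symm_apply_apply a, Ideal.map_id] at h'

end Groth.Agent.GrpdField29
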