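import Groth.Agent.GrpdField29.RankPoly
import Groth.Agent.GrpdLib.Points

/-! Invariants of a base change of an affine finite locally free groupoid. -/

set_option autoImplicit false
set_option backward.isDefEq.respectTransparency false
set_option backward.isDefEq.respectTransparency.types false

universe u

open CategoryTheory CategoryTheory.Limits Polynomial
open scoped TensorProduct

noncomputable section

namespace Groth.Agent.GrpdLib.AffData

variable {D : AffData.{u}} {n : ℕ} (F : Frame D.s n)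

theorem rankPoly_coeff_inv (k : ℕ) : D.s (F.rankPoly.coeff k) = D.t (F.rankPoly.coeff k) := by
  obtain ⟨F₁, H₁⟩ := F.exists_isMap D.t D.p₁ D.sq₁
  obtain ⟨F₂, H₂⟩ := F.exists_isMap D.s D.m D.sq₂
  have h := congrArg (fun p => p.coeff k) (H₂.rankPoly.symm.trans ((F₂.rankPoly_eq F₁).trans H₁.rankPoly))
  simpa using h

theorem rankPoly_coeff_zero : F.rankPoly.coeff 0 = 0 := by
  rw [coeff_zero_eq_eval_zero, F.eval_rankPoly, map_zero]
  simpa using F.norm_eq_zero D.e (RingHom.id D.A) D.e_s (map_zero D.e)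

variable (K : Subring D.A) (hK : ∀ a, a ∈ K ↔ D.s a = D.t a)

attribute [local instance] algB algC

include F in
/-- An invariant element of a base change is a multiple root of a polynomial over the new base. -/
theorem exists_pow_sub (C' : Type u) [CommRing C'] [Algebra K C'] (f : D.A ⊗[K] C')
    (hf : (D.baseChange K hK C').s f = (D.baseChange K hK C').t f) :
    ∃ (M : ℕ) (P : C'[X]), 0 < M ∧
      P.map (Algebra.TensorProduct.includeRight : C' →ₐ[K] D.A ⊗[K] C').toRingHom = (X - Polynomial.C f) ^ M := by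
  classical
  obtain ⟨S, hS⟩ := TensorProduct.exists_finset (R := K) (M := D.A) (N := C') f
  let R₀ : Type u := MvPolynomial (Option S) K
  let φ : R₀ →ₐ[K] C'[X] := MvPolynomial.aeval fun o => o.elim X fun i => Polynomial.C i.1.2
  let w₀ : D.A ⊗[K] R₀ := (1 : D.A) ⊗ₜ[K] MvPolynomial.X none -
    ∑ i : S, i.1.1 ⊗ₜ[K] MvPolynomial.X (some i)
  let inA := (Algebra.TensorProduct.includeLeft : D.A →ₐ[K] D.A ⊗[K] R₀).toRingHom
  let inB := (Algebra.TensorProduct.includeLeft : D.B →ₐ[K] D.B ⊗[K] R₀).toRingHom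
  obtain ⟨F₀, H₀⟩ : ∃ F₀ : Frame (D.baseChange K hK R₀).s n, Frame.IsMap F F₀ inA inB :=
    F.exists_isMap _ _ (isPushout_tmap R₀ (sK D K)).flip
  obtain ⟨F', H'⟩ : ∃ F' : Frame (D.baseChange K hK C').s n, Frame.IsMap F F'
      (Algebra.TensorProduct.includeLeft : D.A →ₐ[K] D.A ⊗[K] C').toRingHom
      (Algebra.TensorProduct.includeLeft : D.B →ₐ[K] D.B ⊗[K] C').toRingHom :=
    F.exists_isMap _ _ (isPushout_tmap C' (sK D K)).flip
  obtain ⟨p₀, hp₀⟩ := mem_range_includeRight D K hK R₀ (F₀.norm ((D.baseChange K hK R₀).t w₀))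
    (AffData.t_norm_eq (D := D.baseChange K hK R₀) F₀ w₀).symm
  -- the specialisation to polynomials over the new base
  let H : D.A ⊗[K] R₀ →ₐ[K] (D.A ⊗[K] C')[X] := Algebra.TensorProduct.lift
    (Polynomial.CAlgHom.comp (Algebra.TensorProduct.includeLeft))
    ((mapAlgHom (Algebra.TensorProduct.includeRight : C' →ₐ[K] D.A ⊗[K] C')).comp φ) fun _ _ => Commute.all _ _
  let G : D.B ⊗[K] R₀ →ₐ[K] (D.B ⊗[K] C')[X] := Algebra.TensorProduct.lift
    (Polynomial.CAlgHom.comp (Algebra.TensorProduct.includeLeft))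
    ((mapAlgHom (Algebra.TensorProduct.includeRight : C' →ₐ[K] D.B ⊗[K] C')).comp φ) fun _ _ => Commute.all _ _
  have hGs : ∀ x, G ((D.baseChange K hK R₀).s x) = (H x).map (D.baseChange K hK C').s := fun x => by
    refine x.induction_on (by simp) (fun a r => ?_) (fun x y hx hy => ?_)
    · simp only [G, H, baseChange, tmap, AlgHom.toRingHom_eq_coe, RingHom.coe_coe, Algebra.TensorProduct.map_tmul,
        Algebra.TensorProduct.lift_tmul, AlgHom.id_apply, AlgHom.comp_apply, coe_mapAlgHom, map_mul,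
        Polynomial.map_mul, Polynomial.map_map, CAlgHom_apply, map_C]
      congr 2
      ext c
      simp [Algebra.TensorProduct.map_tmul]
    · simp only [map_add, hx, hy, Polynomial.map_add]
  have hGt : ∀ x, G ((D.baseChange K hK R₀).t x) = (H x).map (D.baseChange K hK C').t := fun x => by
    refine x.induction_on (by simp) (fun a r => ?_) (fun x y hx hy => ?_)
    · simp only [G, H, baseChange, tmap, AlgHom.toRingHom_eq_coe, RingHom.coe_coe, Algebra.TensorProduct.map_tmul,
        Algebra.TensorProduct.lift_tmul, AlgHom.id_apply, AlgHom.comp_apply, coe_mapAlgHom, map_mul,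
        Polynomial.map_mul, Polynomial.map_map, CAlgHom_apply, map_C]
      congr 2
      ext c
      simp [Algebra.TensorProduct.map_tmul]
    · simp only [map_add, hx, hy, Polynomial.map_add]
  have hw₀ : H w₀ = X - Polynomial.C f := by
    conv_rhs => rw [hS, ← Finset.sum_coe_sort S, map_sum]
    simp [H, φ, w₀]
    erw [MvPolynomial.aeval_X]
    congr 1
    · simp [← Algebra.TensorProduct.one_def]
    · refine Finset.sum_congr rfl fun i _ => ?_
      erw [MvPolynomial.aeval_X]
      simp [← C_mul]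
  have HG : Frame.IsMap F₀ F'.poly H.toRingHom G.toRingHom := by
    have hv : ∀ i b, F'.poly.v i (Polynomial.C (b ⊗ₜ[K] (1 : C'))) = Polynomial.C (F.v i b ⊗ₜ[K] (1 : C')) := fun i b => by
      ext k
      simp only [Frame.poly, Frame.coeff_polyMap, coeff_C]
      erw [coeff_C]
      split_ifs with hk
      · exact H'.v_eq i b
      · exact map_zero _
    refine ⟨fun i => ?_, fun i x => ?_⟩
    · rw [H₀.u_eq]
      simp only [Frame.poly, H'.u_eq]
      show _ = G (F.u i ⊗ₜ[K] (1 : R₀))
      simp [G, ← Algebra.TensorProduct.one_def]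
      rfl
    · refine x.induction_on (by simp) (fun b r => ?_) (fun x y hx hy => by simp only [map_add, hx, hy])
      have e : (b ⊗ₜ[K] r : D.B ⊗[K] R₀) = tmap R₀ (sK D K) ((1 : D.A) ⊗ₜ[K] r) * inB b := by
        simp [inB, sK]
      have e' : G (b ⊗ₜ[K] r) = mapRingHom (tmap C' (sK D K)) (H ((1 : D.A) ⊗ₜ[K] r)) *
          Polynomial.C ((b ⊗ₜ[K] (1 : C')) : D.B ⊗[K] C') := by
        rw [e, map_mul]
        congr 1
        · exact hGs _
        · simp [G, inB]
      show F'.poly.v i (G (b ⊗ₜ[K] r)) = H (F₀.v i (b ⊗ₜ[K] r))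
      rw [e']
      erw [F'.poly.v_smul, hv]
      rw [e]
      erw [F₀.v_smul, H₀.v_eq, map_mul]
      congr 1
      show _ = H ((F.v i b) ⊗ₜ[K] (1 : R₀))
      simp [H, ← Algebra.TensorProduct.one_def]
  let Q : C'[X] := φ p₀
  let ψ : D.A →+* (D.A ⊗[K] C')[X] :=
    Polynomial.C.comp (Algebra.TensorProduct.includeLeft : D.A →ₐ[K] D.A ⊗[K] C').toRingHom
  have hQ : Q.map (Algebra.TensorProduct.includeRight : C' →ₐ[K] D.A ⊗[K] C').toRingHom =
      F.rankPoly.eval₂ ψ (X - Polynomial.C f) := by
    have e1 : H ((1 : D.A) ⊗ₜ[K] p₀) = Q.map (Algebra.TensorProduct.includeRight : C' →ₐ[K] D.A ⊗[K] C').toRingHom := by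
      simp [H, Q, ← Algebra.TensorProduct.one_def]
    have e2 : G.toRingHom ((D.baseChange K hK R₀).t w₀) =
        mapRingHom (D.baseChange K hK C').s (X - Polynomial.C f : (D.A ⊗[K] C')[X]) := by
      show G _ = _
      erw [hGt, hw₀]
      simp only [coe_mapRingHom, Polynomial.map_sub, map_X]
      erw [map_C, map_C, hf]
    rw [← e1, hp₀]
    refine (HG.norm _).symm.trans ((congrArg F'.poly.norm e2).trans ?_)
    refine (F'.poly.eval_rankPoly _).symm.trans ?_
    have hR : Frame.IsMap F F'.poly ψ ((Polynomial.C).comp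
        (Algebra.TensorProduct.includeLeft : D.B →ₐ[K] D.B ⊗[K] C').toRingHom) := by
      refine ⟨fun i => ?_, fun i b => ?_⟩
      · simp [Frame.poly, H'.u_eq]
      · ext k
        simp only [Frame.poly, Frame.coeff_polyMap]
        erw [coeff_C, coeff_C]
        split_ifs with hk
        · exact H'.v_eq i b
        · exact map_zero _
    rw [hR.rankPoly]
    exact eval_map _ _
  let d := F.rankPoly.natDegree
  let e : ℕ → C' := fun k => algebraMap K C' ⟨F.rankPoly.coeff k, (hK _).2 (rankPoly_coeff_inv F k)⟩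
  refine ⟨d.factorial, ∑ k ∈ Finset.range (d + 1), Polynomial.C (e k) * Q ^ (d.factorial / k), d.factorial_pos, ?_⟩
  have he : ∀ k, Polynomial.C ((Algebra.TensorProduct.includeRight : C' →ₐ[K] D.A ⊗[K] C') (e k)) = ψ (F.rankPoly.coeff k) := fun k => by
    simp only [e, ψ, RingHom.comp_apply, AlgHom.toRingHom_eq_coe, RingHom.coe_coe,
      AlgHom.commutes, Algebra.TensorProduct.algebraMap_apply]
    rfl
  have hpow : ∀ k j, ψ (F.rankPoly.coeff k) * F.rankPoly.eval₂ ψ (X - Polynomial.C f) ^ j =
      ψ (F.rankPoly.coeff k) * (X - Polynomial.C f) ^ (k * j) := fun k j => by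
    induction j with
    | zero => simp
    | succ j ih =>
      rw [pow_succ, ← mul_assoc, ih, mul_assoc, mul_comm ((X - Polynomial.C f) ^ (k * j)), ← mul_assoc,
        Frame.coeff_rankPoly_mul_eval₂, mul_assoc, ← pow_add]
      ring_nf
  have hsum : ∑ k ∈ Finset.range (d + 1), ψ (F.rankPoly.coeff k) = 1 := by
    rw [← map_sum, F.sum_coeff_rankPoly, map_one]
  calc _ = ∑ k ∈ Finset.range (d + 1), ψ (F.rankPoly.coeff k) * (X - Polynomial.C f) ^ d.factorial := by
        rw [Polynomial.map_sum]
        refine Finset.sum_congr rfl fun k hk => ?_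
        rw [Polynomial.map_mul, map_C, Polynomial.map_pow, hQ]
        refine (congrArg (· * _) (he k)).trans ?_
        rw [hpow]
        rcases Nat.eq_zero_or_pos k with rfl | hk0
        · simp [rankPoly_coeff_zero F]
        · rw [Nat.mul_div_cancel' (Nat.dvd_factorial hk0 (Nat.lt_succ_iff.mp (Finset.mem_range.mp hk)))]
    _ = _ := by rw [← Finset.sum_mul, hsum, one_mul]

include F hK in
/-- The comparison with the invariants of a base change. -/
theorem invariants_baseChange (hsurj : Function.Surjective (PrimeSpectrum.comap K.subtype))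
    (C' : Type u) [CommRing C'] [Algebra K C'] (sT tT : D.A ⊗[K] C' →ₐ[K] D.B ⊗[K] C')
    (hs : ∀ a c, sT (a ⊗ₜ c) = D.s a ⊗ₜ c) (ht : ∀ a c, tT (a ⊗ₜ c) = D.t a ⊗ₜ c) :
    (∀ f, sT f = tT f → ∃ (M : ℕ) (P : C'[X]), 0 < M ∧
      P.map (Algebra.TensorProduct.includeRight : C' →ₐ[K] D.A ⊗[K] C').toRingHom = (X - Polynomial.C f) ^ M) ∧
    (∀ c : C', (Algebra.TensorProduct.includeRight : C' →ₐ[K] D.A ⊗[K] C') c = 0 → IsNilpotent c) ∧
    (Module.Flat K C' → Function.Injective (Algebra.TensorProduct.includeRight : C' →ₐ[K] D.A ⊗[K] C') ∧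
      ∀ f, sT f = tT f → f ∈ Set.range (Algebra.TensorProduct.includeRight : C' →ₐ[K] D.A ⊗[K] C')) := by
  have es : ∀ x, sT x = (D.baseChange K hK C').s x := fun x => by
    refine x.induction_on ?_ (fun a c => ?_) (fun x y hx hy => ?_)
    · exact (map_zero sT).trans (map_zero _).symm
    · rw [hs]; rfl
    · rw [map_add, hx, hy]; exact (map_add _ x y).symm
  have et : ∀ x, tT x = (D.baseChange K hK C').t x := fun x => by
    refine x.induction_on ?_ (fun a c => ?_) (fun x y hx hy => ?_)
    · exact (map_zero tT).trans (map_zero _).symm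
    · rw [ht]; rfl
    · rw [map_add, hx, hy]; exact (map_add _ x y).symm
  have hinv : ∀ f, sT f = tT f → (D.baseChange K hK C').s f = (D.baseChange K hK C').t f :=
    fun f hf => (es f).symm.trans (hf.trans (et f))
  refine ⟨fun f hf => exists_pow_sub F K hK C' f (hinv f hf), fun c hc => ?_,
    fun hflat => ⟨?_, fun f hf => ?_⟩⟩
  · rw [nilpotent_iff_mem_prime]
    intro q hq
    have hS : AlgebraicGeometry.Surjective (AlgebraicGeometry.Spec.map (CommRingCat.ofHom (algebraMap K D.A))) :=
      ⟨hsurj⟩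
    have hS' : AlgebraicGeometry.Surjective (AlgebraicGeometry.Spec.map (CommRingCat.ofHom
        (RingHomClass.toRingHom (Algebra.TensorProduct.includeRight : C' →ₐ[K] D.A ⊗[K] C')))) := by
      rw [← AlgebraicGeometry.pullbackSpecIso_inv_snd]
      infer_instance
    obtain ⟨P, hP⟩ := hS'.surj ⟨q, hq⟩
    have e : q = P.asIdeal.comap
        (RingHomClass.toRingHom (Algebra.TensorProduct.includeRight : C' →ₐ[K] D.A ⊗[K] C')) :=
      (congrArg PrimeSpectrum.asIdeal hP).symm
    rw [e, Ideal.mem_comap]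
    exact (congrArg (· ∈ P.asIdeal) hc).mpr (zero_mem _)
  · have h := Module.Flat.rTensor_preserves_injective_linearMap (M := C') (Algebra.linearMap K D.A)
      Subtype.val_injective
    intro x y hxy
    have hx : ∀ z : C', (Algebra.linearMap K D.A).rTensor C' ((1 : K) ⊗ₜ[K] z) =
        (Algebra.TensorProduct.includeRight : C' →ₐ[K] D.A ⊗[K] C') z := fun z => by simp
    have := h (((hx x).trans hxy).trans (hx y).symm)
    simpa using congrArg (TensorProduct.lid K C') this
  · obtain ⟨r, hr⟩ := mem_range_includeRight D K hK C' f (hinv f hf)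
    exact ⟨r, hr⟩

end Groth.Agent.GrpdLib.AffData
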