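import Groth.Agent.GrpdField29.Closure

/-! A locally closed image of a groupoid morphism over a field is closed. -/

set_option backward.isDefEq.respectTransparency false
set_option backward.isDefEq.respectTransparency.types false

universe u

open CategoryTheory CategoryTheory.Limits AlgebraicGeometry Grpd
open Groth.Agent.GrpdLib

namespace Groth.Agent.GrpdField29

variable {S : Scheme.{u}}

theorem eq_of_comp_eq_unit {G : GroupoidScheme S} {T : Scheme.{u}} (x y : T ⟶ G.R) (h : x ≫ G.s = y ≫ G.t)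
    (he : pullback.lift x y h ≫ G.c = x ≫ G.t ≫ G.e) : y = x ≫ G.i := by
  have hi : (x ≫ G.i) ≫ G.s = x ≫ G.t := by rw [Category.assoc, G.i_s]
  calc y = _ := (G.e_comp y).symm
    _ = _ := c_congr G _ (show y ≫ G.t ≫ G.e = pullback.lift (x ≫ G.i) x hi ≫ G.c by
        rw [G.i_comp, ← Category.assoc, ← h, Category.assoc]) rfl
    _ = _ := G.assoc _ _ _ _ _
    _ = _ := c_congr G _ rfl he
    _ = _ := (c_congr G _ rfl (by rw [Category.assoc, reassoc_of% G.i_s])).trans (G.comp_e _)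

theorem hom_comm_i {G₁ G₂ : GroupoidScheme S} (a : GroupoidScheme.Hom G₁ G₂) :
    G₁.i ≫ a.fR = a.fR ≫ G₂.i := by
  refine eq_of_comp_eq_unit a.fR (G₁.i ≫ a.fR)
    (by rw [Category.assoc, a.comm_s, a.comm_t, reassoc_of% G₁.i_t]) ?_
  have h := a.comm_c (𝟙 G₁.R) G₁.i (by rw [Category.id_comp, G₁.i_t])
  have h' := G₁.comp_i (𝟙 G₁.R)
  simp only [Category.id_comp] at h' h
  rw [h'] at h
  rw [← h, reassoc_of% a.comm_t]
  simp only [Category.assoc, hom_comm_e]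

theorem isClosed_range_of_isLocallyClosed {G₁ G₂ : GroupoidScheme S} (k : Type u) [Field k]
    (eU : G₂.U ≅ Spec (CommRingCat.of k)) (a : GroupoidScheme.Hom G₁ G₂) [IsIso a.fU]
    (hlc : IsLocallyClosed (Set.range ⇑a.fR)) : IsClosed (Set.range ⇑a.fR) := by
  obtain ⟨O, Zc, hO, hZc, hAOZ⟩ := hlc
  rw [← closure_subset_iff_isClosed]
  intro r hr
  have hclZ : closure (Set.range ⇑a.fR) ⊆ Zc := hZc.closure_subset_iff.mpr (hAOZ ▸ Set.inter_subset_right)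
  let W : G₂.R.Opens := ⟨O, hO⟩
  let ρ := G₂.R.fromSpecResidueField r
  have hr' : ∀ y, ρ y = r := fun y => Scheme.fromSpecResidueField_apply _ _
  have hinv : ∀ x ∈ closure (Set.range ⇑a.fR), G₂.i x ∈ closure (Set.range ⇑a.fR) := by
    intro x hx
    refine map_mem_closure (Scheme.Hom.continuous G₂.i) hx ?_
    rintro _ ⟨y, rfl⟩
    exact ⟨G₁.i y, by rw [← Scheme.Hom.comp_apply, hom_comm_i, Scheme.Hom.comp_apply]⟩
  obtain ⟨x, ⟨z, rfl⟩, hx⟩ : ∃ x, x ∈ Set.range ⇑(pullback.lift (pullback.fst (ρ ≫ G₂.s) (W.ι ≫ G₂.t) ≫ ρ)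
      (pullback.snd (ρ ≫ G₂.s) (W.ι ≫ G₂.t) ≫ W.ι)
      ((Category.assoc _ _ _).trans (pullback.condition.trans (Category.assoc _ _ _).symm)) ≫ G₂.c) ∧
      x ∈ Set.range ⇑a.fR := by
    refine mem_closure_iff.mp hr _ (GrpdLib.isOpen_range_translate G₂ k eU W ρ) ?_
    have hsub : Set.range ⇑(ρ ≫ G₂.s ≫ G₂.e) ⊆ Set.range ⇑W.ι := by
      rintro _ ⟨y, rfl⟩
      rw [Scheme.Opens.range_ι]
      have hmem : (ρ ≫ G₂.s ≫ G₂.e) y ∈ Set.range ⇑a.fR := by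
        refine ⟨G₁.e (inv a.fU ((ρ ≫ G₂.s) y)), ?_⟩
        rw [← Scheme.Hom.comp_apply G₁.e, hom_comm_e, ← Scheme.Hom.comp_apply, IsIso.inv_hom_id_assoc]
        rfl
      exact (hAOZ ▸ hmem : _ ∈ O ∩ Zc).1
    let w := IsOpenImmersion.lift W.ι (ρ ≫ G₂.s ≫ G₂.e) hsub
    have hw : w ≫ W.ι = ρ ≫ G₂.s ≫ G₂.e := IsOpenImmersion.lift_fac ..
    let z := pullback.lift (𝟙 _) w (show 𝟙 _ ≫ ρ ≫ G₂.s = w ≫ W.ι ≫ G₂.t by
      rw [reassoc_of% hw, G₂.e_t, Category.comp_id, Category.id_comp])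
    refine ⟨z (IsLocalRing.closedPoint _), ?_⟩
    rw [← Scheme.Hom.comp_apply]
    have e : z ≫ (pullback.lift (pullback.fst (ρ ≫ G₂.s) (W.ι ≫ G₂.t) ≫ ρ)
        (pullback.snd (ρ ≫ G₂.s) (W.ι ≫ G₂.t) ≫ W.ι)
        ((Category.assoc _ _ _).trans (pullback.condition.trans (Category.assoc _ _ _).symm)) ≫ G₂.c) = ρ := by
      refine Eq.trans ?_ (G₂.comp_e ρ)
      refine (Category.assoc _ _ _).symm.trans (congrArg (· ≫ G₂.c) ?_)
      apply pullback.hom_ext <;> simp [z, hw] <;> exact Category.id_comp _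
    rw [e]
    exact Scheme.fromSpecResidueField_apply _ _
  let K := (pullback (ρ ≫ G₂.s) (W.ι ≫ G₂.t)).residueField z
  let ζ := (pullback (ρ ≫ G₂.s) (W.ι ≫ G₂.t)).fromSpecResidueField z
  let ρ' : Spec (CommRingCat.of K) ⟶ G₂.R := ζ ≫ pullback.fst _ _ ≫ ρ
  let ω : Spec (CommRingCat.of K) ⟶ G₂.R := ζ ≫ pullback.snd _ _ ≫ W.ι
  have hρω : ρ' ≫ G₂.s = ω ≫ G₂.t := by
    show (ζ ≫ pullback.fst (ρ ≫ G₂.s) (W.ι ≫ G₂.t) ≫ ρ) ≫ G₂.s = _
    simp only [ω, Category.assoc, pullback.condition]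
  let χ : Spec (CommRingCat.of K) ⟶ G₂.R := pullback.lift ρ' ω hρω ≫ G₂.c
  have hχ : χ (IsLocalRing.closedPoint K) ∈ Set.range ⇑a.fR := by
    have e : χ = ζ ≫ (pullback.lift (pullback.fst (ρ ≫ G₂.s) (W.ι ≫ G₂.t) ≫ ρ)
      (pullback.snd (ρ ≫ G₂.s) (W.ι ≫ G₂.t) ≫ W.ι)
      ((Category.assoc _ _ _).trans (pullback.condition.trans (Category.assoc _ _ _).symm)) ≫ G₂.c) := by
      simp only [χ, ← Category.assoc]
      congr 1
      apply pullback.hom_ext <;> simp [ρ', ω]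
    rw [e, Scheme.Hom.comp_apply]
    convert hx
    exact Scheme.fromSpecResidueField_apply _ _
  have hω : ω (IsLocalRing.closedPoint K) ∈ Set.range ⇑a.fR := by
    rw [hAOZ]
    refine ⟨(Subtype.prop _ : (_ : G₂.R) ∈ W), hclZ ?_⟩
    have hρi : (ρ' ≫ G₂.i) ≫ G₂.s = χ ≫ G₂.t := by
      rw [Category.assoc, G₂.i_s]
      exact (G₂.comp_t ρ' ω hρω).symm
    have hωeq : ω = pullback.lift (ρ' ≫ G₂.i) χ hρi ≫ G₂.c :=
      Eq.symm ((G₂.assoc (ρ' ≫ G₂.i) ρ' ω (by rw [Category.assoc, G₂.i_s]) hρω).symm.trans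
        ((c_congr G₂ _ (G₂.i_comp ρ') rfl).trans
          ((c_congr G₂ _ (by rw [← Category.assoc, hρω, Category.assoc]) rfl).trans (G₂.e_comp ω))))
    rw [hωeq, Scheme.Hom.comp_apply]
    refine GrpdField29.c_mem_closure a k eU _ ?_ ?_
    · rw [← Scheme.Hom.comp_apply, pullback.lift_fst, Scheme.Hom.comp_apply]
      refine hinv _ ?_
      show (ζ ≫ pullback.fst (ρ ≫ G₂.s) (W.ι ≫ G₂.t) ≫ ρ) _ ∈ _
      rw [Scheme.Hom.comp_apply, Scheme.Hom.comp_apply, hr']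
      exact hr
    · rw [← Scheme.Hom.comp_apply, pullback.lift_snd]
      exact subset_closure hχ
  obtain ⟨L₁, _, g₁, ω₁, hω₁⟩ := exists_field_lift a.fR K ω hω
  have hχ' : (g₁ ≫ χ) (IsLocalRing.closedPoint L₁) ∈ Set.range ⇑a.fR := by
    rw [Scheme.Hom.comp_apply, Subsingleton.elim (g₁ (IsLocalRing.closedPoint L₁)) (IsLocalRing.closedPoint K)]
    exact hχ
  obtain ⟨L, _, g₂, χ₁, hχ₁⟩ := exists_field_lift a.fR L₁ (g₁ ≫ χ) hχ'
  let ω₂ := g₂ ≫ ω₁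
  have hω₂ : ω₂ ≫ a.fR = (g₂ ≫ g₁) ≫ ω := by simp only [ω₂, Category.assoc, hω₁]
  have hχ₂ : χ₁ ≫ a.fR = (g₂ ≫ g₁) ≫ χ := by simp only [hχ₁, Category.assoc]
  have hs₂ : χ ≫ G₂.s = ω ≫ G₂.s := G₂.comp_s ρ' ω hρω
  have hs : χ₁ ≫ G₁.s = (ω₂ ≫ G₁.i) ≫ G₁.t := by
    rw [Category.assoc, G₁.i_t, ← cancel_mono a.fU, Category.assoc, ← a.comm_s, reassoc_of% hχ₂,
      Category.assoc ω₂ G₁.s, ← a.comm_s, reassoc_of% hω₂, hs₂]
  let γ := pullback.lift χ₁ (ω₂ ≫ G₁.i) hs ≫ G₁.c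
  have hγ : γ ≫ a.fR = (g₂ ≫ g₁) ≫ ρ' := by
    have hcc := a.comm_c γ ω₂ (show γ ≫ G₁.s = ω₂ ≫ G₁.t by
      simp only [γ]; rw [G₁.comp_s, Category.assoc, G₁.i_s])
    have e1 : pullback.lift γ ω₂ (show γ ≫ G₁.s = ω₂ ≫ G₁.t by
      simp only [γ]; rw [G₁.comp_s, Category.assoc, G₁.i_s]) ≫ G₁.c = χ₁ := by
      refine (G₁.assoc χ₁ (ω₂ ≫ G₁.i) ω₂ hs (by rw [Category.assoc, G₁.i_s])).trans ?_
      refine (c_congr G₁ _ rfl (G₁.i_comp ω₂)).trans ((c_congr G₁ _ rfl ?_).trans (G₁.comp_e χ₁))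
      rw [← Category.assoc χ₁, hs]; simp only [Category.assoc, reassoc_of% G₁.i_t]
    rw [e1, hχ₂] at hcc
    have hcomp : (g₂ ≫ g₁) ≫ χ = pullback.lift ((g₂ ≫ g₁) ≫ ρ') ((g₂ ≫ g₁) ≫ ω)
        (by simp only [Category.assoc, hρω]) ≫ G₂.c := by
      rw [show χ = pullback.lift ρ' ω hρω ≫ G₂.c from rfl, ← Category.assoc]
      congr 1
      apply pullback.hom_ext <;> simp
    rw [hcomp] at hcc
    have h := (isPullback_snd_c G₂).hom_ext
      (k := pullback.lift ((g₂ ≫ g₁) ≫ ρ') ((g₂ ≫ g₁) ≫ ω) (by simp only [Category.assoc, hρω]))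
      (l := pullback.lift (γ ≫ a.fR) (ω₂ ≫ a.fR) (by
        rw [Category.assoc γ, a.comm_s, Category.assoc ω₂ a.fR, a.comm_t, ← Category.assoc γ,
          ← Category.assoc ω₂]
        congr 1
        exact (G₁.comp_s _ _ hs).trans (by rw [Category.assoc, G₁.i_s])))
      (by simp [hω₂]) hcc
    have := congrArg (· ≫ pullback.fst G₂.s G₂.t) h
    simpa using this.symm
  refine ⟨γ (IsLocalRing.closedPoint L), ?_⟩
  rw [← Scheme.Hom.comp_apply, hγ]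
  simp only [ρ', Scheme.Hom.comp_apply]
  exact hr' _

end Groth.Agent.GrpdField29
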