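import Groth.Agent.GrpdLib.StabTorsor
import Groth.Agent.GrpOmega.Shear
import Groth.Agent.GrpOmega.Section

/-! Differentials of the target map of a groupoid. -/

set_option autoImplicit false

universe u

open CategoryTheory CategoryTheory.Limits AlgebraicGeometry Grpd

namespace Groth.Agent.GrpdField29

variable {S : Scheme.{u}} (G : GroupoidScheme S)

theorem nonempty_omega_t_iso [QuasiSeparated G.t] :
    Nonempty ((Scheme.Modules.pullback G.s).obj ((Scheme.Modules.pullback G.e).obj (Omega.sheaf G.t)) ≅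
      Omega.sheaf G.t) := by
  obtain ⟨a⟩ := GrpOmega.nonempty_omega_baseChange (IsPullback.of_hasPullback G.s G.t).flip
  obtain ⟨b⟩ := GrpOmega.nonempty_omega_baseChange (GrpdLib.isPullback_fst_c G).flip
  let σ : G.R ⟶ pullback G.s G.t := pullback.lift (𝟙 G.R) (G.s ≫ G.e)
    (by rw [Category.id_comp, Category.assoc, G.e_t, Category.comp_id])
  have h₁ : σ ≫ G.c = 𝟙 G.R :=
    (GrpdLib.c_congr G _ rfl (by simp)).trans (G.comp_e (𝟙 G.R))
  have h₂ : σ ≫ pullback.snd G.s G.t = G.s ≫ G.e := pullback.lift_snd _ _ _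
  exact ⟨(Scheme.Modules.pullbackComp G.s G.e).app _ ≪≫
    (Scheme.Modules.pullbackCongr h₂.symm).app _ ≪≫
    ((Scheme.Modules.pullbackComp σ (pullback.snd G.s G.t)).app _).symm ≪≫
    (Scheme.Modules.pullback σ).mapIso (a ≪≫ b.symm) ≪≫
    (Scheme.Modules.pullbackComp σ G.c).app _ ≪≫
    (Scheme.Modules.pullbackCongr h₁).app _ ≪≫
    (Scheme.Modules.pullbackId G.R).app _⟩

theorem nonempty_conormal_omega_iso [QuasiSeparated G.t] :
    Nonempty ((Scheme.Modules.pullback G.s).obj (Omega.conormal G.e) ≅ Omega.sheaf G.t) := by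
  haveI : QuasiCompact (G.e ≫ G.t) := by rw [G.e_t]; infer_instance
  haveI : QuasiCompact G.e := QuasiCompact.of_comp G.e G.t
  haveI : IsImmersion (G.e ≫ G.t) := by rw [G.e_t]; infer_instance
  haveI : IsImmersion G.e := IsImmersion.of_comp G.e G.t
  obtain ⟨c⟩ := GrpOmega.nonempty_conormalIso G.t G.e (𝟙 G.U)
    (by rw [G.e_t, Category.comp_id]) (by rw [G.e_t, Category.comp_id])
  obtain ⟨a⟩ := nonempty_omega_t_iso G
  exact ⟨(Scheme.Modules.pullback G.s).mapIso c ≪≫ a⟩

end Groth.Agent.GrpdField29
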