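import Groth.Agent.GrpdField29.MaxPoint
import Mathlib.AlgebraicGeometry.Morphisms.Integral
import Mathlib.AlgebraicGeometry.Morphisms.ClosedImmersion
import Mathlib.AlgebraicGeometry.Morphisms.Separated
import Mathlib.Algebra.Module.Submodule.Union
import Mathlib.RingTheory.Artinian.Module
import Mathlib.RingTheory.IntegralClosure.IsIntegral.Basic
import Mathlib.RingTheory.KrullDimension.Zero
import Mathlib.RingTheory.Ideal.GoingUp

/-! Maximal points swept out by an affine scheme integral over a field have an affine neighbourhood. -/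

set_option autoImplicit false
set_option backward.isDefEq.respectTransparency false
set_option backward.isDefEq.respectTransparency.types false

universe u

open CategoryTheory AlgebraicGeometry TopologicalSpace Limits

namespace Groth.Agent.GrpdField29

variable {k K : Type u} [Field k] [Infinite k] [Field K] (φ : k →+* K)

/-- Finitely many elements of an integral algebra have a combination vanishing only where they all vanish. -/
theorem exists_comb {R : Type u} [CommRing R] (κ : K →+* R) (hκ : κ.IsIntegral) {ι : Type} [Fintype ι] (g : ι → R) :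
    ∃ c : ι → k, ∀ p : Ideal R, p.IsPrime → (∃ i, g i ∉ p) → ∑ i, κ (φ (c i)) * g i ∉ p := by
  classical
  letI := κ.toAlgebra
  have : Algebra.IsIntegral K R := ⟨hκ⟩
  let B := Algebra.adjoin K (Set.range g)
  have : Module.Finite K B := Module.Finite.iff_fg.mpr
    (fg_adjoin_of_finite (Set.finite_range g) fun x _ => Algebra.IsIntegral.isIntegral x)
  have : IsArtinianRing B := IsArtinianRing.of_finite K B
  let b : ι → B := fun i => ⟨g i, Algebra.subset_adjoin ⟨i, rfl⟩⟩
  let Q := {q : PrimeSpectrum B // ∃ i, b i ∉ q.asIdeal}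
  let N : Q → Submodule k (ι → k) := fun q =>
    { carrier := {c | ∑ i, algebraMap K B (φ (c i)) * b i ∈ q.1.asIdeal}
      add_mem' := fun {c d} hc hd => by
        simpa [map_add, add_mul, Finset.sum_add_distrib] using q.1.asIdeal.add_mem hc hd
      zero_mem' := by simp
      smul_mem' := fun a c hc => by
        simpa [map_mul, mul_assoc, Finset.mul_sum] using q.1.asIdeal.mul_mem_left (algebraMap K B (φ a)) hc }
  have hN : ∀ q, N q ≠ ⊤ := fun q h => by
    obtain ⟨i, hi⟩ := q.2
    have h1 : ∑ l, algebraMap K B (φ ((Pi.single i 1 : ι → k) l)) * b l ∈ q.1.asIdeal :=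
      (h.ge (trivial : Pi.single i (1 : k) ∈ (⊤ : Submodule k (ι → k))))
    simp [Pi.single_apply, apply_ite φ, apply_ite (algebraMap K B), ite_mul] at h1
    exact hi h1
  obtain ⟨c, hc⟩ := Submodule.exists_forall_notMem_of_forall_ne_top N hN
  refine ⟨c, fun p hp ⟨i, hi⟩ hmem => ?_⟩
  refine hc ⟨⟨p.comap B.val.toRingHom, Ideal.IsPrime.comap _⟩, i, hi⟩ ?_
  show B.val.toRingHom (∑ i, algebraMap K B (φ (c i)) * b i) ∈ p
  rw [map_sum]
  exact hmem

variable {X P : Scheme.{u}} [X.IsSeparated] [IsAffine P]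

/-- An affine scheme integral over a field whose image consists of maximal points maps into an affine open. -/
theorem exists_affine_of_maximal_range (κ : K →+* Γ(P, ⊤)) (hκ : κ.IsIntegral) (γ : k →+* Γ(X, ⊤)) (h : P ⟶ X)
    (hγ : ∀ c, h.appTop (γ c) = κ (φ c)) (hmax : ∀ p, ∀ x, x ⤳ h p → x = h p) :
    ∃ V : X.Opens, IsAffineOpen V ∧ Set.range h ⊆ (V : Set X) := by
  classical
  have hdim : ∀ I : Ideal Γ(P, ⊤), I.IsPrime → I.IsMaximal := fun I hI => by
    letI := κ.toAlgebra
    have : Algebra.IsIntegral K Γ(P, ⊤) := ⟨hκ⟩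
    exact Ideal.isMaximal_of_isIntegral_of_isMaximal_comap I
      (inferInstance : (I.comap (algebraMap K Γ(P, ⊤))).IsMaximal)
  have hT1 : ∀ x y : P, x ⤳ y → x = y := fun x y hxy => by
    apply P.isoSpec.hom.homeomorph.injective
    have h1 : P.isoSpec.hom.homeomorph x ⤳ P.isoSpec.hom.homeomorph y := hxy.map P.isoSpec.hom.homeomorph.continuous
    exact PrimeSpectrum.ext
      ((hdim _ (P.isoSpec.hom.homeomorph x).isPrime).eq_of_le (P.isoSpec.hom.homeomorph y).isPrime.ne_top
        ((PrimeSpectrum.le_iff_specializes _ _).mpr h1))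
  have hclosed : ∀ O : P.Opens, IsCompact (O : Set P) → IsClosed (O : Set P) := fun O hO => by
    have : CompactSpace O.toScheme := isCompact_iff_compactSpace.mp hO
    have : QuasiCompact O.ι := by
      have : QuasiCompact (O.ι ≫ terminal.from P) := by
        rw [terminal.comp_from]
        exact (compactSpace_iff_quasiCompact _).mp inferInstance
      exact QuasiCompact.of_comp O.ι (terminal.from P)
    have hm : IsClosedMap O.ι := (AlgebraicGeometry.isClosedMap_iff_specializingMap _).mpr fun x y hxy =>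
      ⟨x, specializes_rfl, hT1 _ _ hxy⟩
    rw [← O.range_ι]
    exact hm.isClosed_range
  have hqc : QuasiCompact h := by
    have : QuasiCompact (h ≫ terminal.from X) := by
      rw [terminal.comp_from]
      exact (compactSpace_iff_quasiCompact _).mp inferInstance
    exact QuasiCompact.of_comp h (terminal.from X)
  have hb : ∀ V : X.Opens, IsAffineOpen V → IsClosed ((h ⁻¹ᵁ V : P.Opens) : Set P) := fun V hV =>
    hclosed _ (h.isCompact_preimage hV.isCompact)
  have step : ∀ (W V : X.Opens), IsAffineOpen W → IsAffineOpen V →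
      ∃ W' : X.Opens, IsAffineOpen W' ∧ ∀ p, h p ∈ (W : Set X) ∪ V → h p ∈ W' := by
    intro W V hW hV
    let O : P.Opens := h ⁻¹ᵁ V
    have hsep : QuasiSeparatedSpace X := inferInstance
    have hVW : IsCompact ((V ⊓ W : X.Opens) : Set X) :=
      QuasiSeparatedSpace.inter_isCompact _ _ V.isOpen hV.isCompact W.isOpen hW.isCompact
    let X' : X.Opens := V ⊓ ⟨(closure ((V ⊓ W : X.Opens) : Set X))ᶜ, isClosed_closure.isOpen_compl⟩
    let T₂ : Set P := (O : Set P) \ (h ⁻¹' (W : Set X))
    have hT₂ : IsCompact T₂ := ((hb V hV).inter (h ⁻¹ᵁ W).isOpen.isClosed_compl).isCompact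
    have hT₂X : ∀ p ∈ T₂, h p ∈ X' := fun p hp => ⟨hp.1,
      notMem_closure_of_compact (hmax p) hV hp.1 hVW inf_le_left fun hh => hp.2 hh.2⟩
    have hloc : ∀ p : T₂, ∃ f : Γ(X, V), X.basicOpen f ≤ X' ∧ h p.1 ∈ X.basicOpen f := fun p =>
      hV.exists_basicOpen_le (V := X') ⟨h p.1, hT₂X p.1 p.2⟩ p.2.1
    choose f hfX hfp using hloc
    obtain ⟨s, hs⟩ := hT₂.elim_finite_subcover (fun p : T₂ => ((h ⁻¹ᵁ X.basicOpen (f p)) : Set P))
      (fun p => (h ⁻¹ᵁ _).isOpen) fun p hp => Set.mem_iUnion.2 ⟨⟨p, hp⟩, hfp ⟨p, hp⟩⟩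
    obtain ⟨n, ⟨e⟩⟩ := Finite.exists_equiv_fin s
    let a : Fin n → Γ(X, V) := fun i => f (e.symm i).1
    have : IsClosedImmersion O.ι := IsClosedImmersion.of_isPreimmersion _ (by rw [O.range_ι]; exact hb V hV)
    have hsurj : Function.Surjective (P.presheaf.map (homOfLE (le_top : O ≤ ⊤)).op) := by
      intro y
      obtain ⟨z, hz⟩ := O.ι.app_surjective ⊤ (isAffineOpen_top P) ((O.topIso.inv) y)
      refine ⟨z, ?_⟩
      have hy := congrArg O.topIso.hom hz
      rw [Iso.inv_hom_id_apply] at hy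
      rw [← hy]
      simp only [Scheme.Opens.topIso, Scheme.Opens.ι_app, Functor.mapIso_hom]
      exact ConcreteCategory.congr_hom (P.presheaf.map_comp _ _) z
    choose g hg using fun i => hsurj (h.app V (a i))
    obtain ⟨c, hc⟩ := exists_comb φ κ hκ g
    let F : Γ(X, V) := ∑ i, X.presheaf.map (homOfLE (le_top : V ≤ ⊤)).op (γ (c i)) * a i
    have hF : h.app V F = P.presheaf.map (homOfLE (le_top : O ≤ ⊤)).op (∑ i, κ (φ (c i)) * g i) := by
      simp only [F, map_sum, map_mul, hg]
      refine Finset.sum_congr rfl fun i _ => congrArg (· * _) ?_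
      rw [← hγ]
      exact ConcreteCategory.congr_hom (h.naturality (homOfLE (le_top : V ≤ ⊤)).op) (γ (c i))
    have hFle : X.basicOpen F ≤ X' := by
      intro x hx
      have hxV : x ∈ V := X.basicOpen_le _ hx
      rw [Scheme.mem_basicOpen _ F x hxV, map_sum] at hx
      by_contra hxX
      refine (IsLocalRing.mem_maximalIdeal _).mp (Submodule.sum_mem (IsLocalRing.maximalIdeal _) fun i _ => ?_) hx
      rw [map_mul]
      refine Ideal.mul_mem_left _ _ ((IsLocalRing.mem_maximalIdeal _).mpr fun hu => hxX (hfX (e.symm i).1 ?_))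
      exact (Scheme.mem_basicOpen _ _ x hxV).mpr hu
    refine ⟨W ⊔ X.basicOpen F, hW.sup_of_disjoint (hV.basicOpen F) ?_, fun p hp => ?_⟩
    · refine disjoint_iff.2 (eq_bot_iff.2 fun x hx => ?_)
      exact (hFle hx.2).2 (subset_closure ⟨(hFle hx.2).1, hx.1⟩)
    · by_cases hpW : h p ∈ W
      · exact Opens.mem_sup.2 (Or.inl hpW)
      have hpO : p ∈ O := hp.resolve_left hpW
      obtain ⟨q, hqs, hqp⟩ := Set.mem_iUnion₂.1 (hs ⟨hpO, hpW⟩)
      refine Opens.mem_sup.2 (Or.inr ?_)
      have key : ∀ z : Γ(P, ⊤), p ∈ P.basicOpen (P.presheaf.map (homOfLE (le_top : O ≤ ⊤)).op z) ↔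
          z ∉ ((isAffineOpen_top P).primeIdealOf ⟨p, trivial⟩).asIdeal := fun z => by
        rw [Scheme.basicOpen_res, Opens.mem_inf, and_iff_right hpO]
        have h1 := (isAffineOpen_top P).fromSpec_preimage_basicOpen z
        have h2 := SetLike.ext_iff.1 h1 ((isAffineOpen_top P).primeIdealOf ⟨p, trivial⟩)
        rw [Scheme.Hom.mem_preimage, (isAffineOpen_top P).fromSpec_primeIdealOf] at h2
        exact h2
      show p ∈ h ⁻¹ᵁ X.basicOpen F
      rw [Scheme.preimage_basicOpen, hF, key]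
      refine hc _ ((isAffineOpen_top P).primeIdealOf ⟨p, trivial⟩).isPrime ⟨e ⟨q, hqs⟩, ?_⟩
      rw [← key, hg, ← Scheme.preimage_basicOpen]
      show h p ∈ X.basicOpen (f (e.symm (e ⟨q, hqs⟩)).1)
      rw [e.symm_apply_apply]
      exact hqp
  have hcov : ∀ p : P, ∃ V : X.Opens, IsAffineOpen V ∧ h p ∈ V := fun p => by
    obtain ⟨V, hV, hpV, -⟩ := exists_isAffineOpen_mem_and_subset (x := h p) (U := (⊤ : X.Opens)) trivial
    exact ⟨V, hV, hpV⟩
  choose V hV hpV using hcov
  obtain ⟨s, hs⟩ := isCompact_univ.elim_finite_subcover (fun p => ((h ⁻¹ᵁ V p) : Set P))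
    (fun p => (h ⁻¹ᵁ V p).isOpen) fun p _ => Set.mem_iUnion.2 ⟨p, hpV p⟩
  have hind : ∀ s : Finset P, ∃ W : X.Opens, IsAffineOpen W ∧ ∀ p, (∃ q ∈ s, h p ∈ V q) → h p ∈ W := fun s => by
    induction s using Finset.induction_on with
    | empty => exact ⟨⊥, isAffineOpen_bot X, fun p ⟨q, hq, _⟩ => absurd hq (Finset.notMem_empty q)⟩
    | insert a s has ih =>
      obtain ⟨W, hW, hsW⟩ := ih
      obtain ⟨W', hW', hh⟩ := step W (V a) hW (hV a)
      refine ⟨W', hW', fun p ⟨q, hq, hpq⟩ => hh p ?_⟩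
      rcases Finset.mem_insert.1 hq with rfl | hq
      · exact Or.inr hpq
      · exact Or.inl (hsW p ⟨q, hq, hpq⟩)
  obtain ⟨W, hW, hsW⟩ := hind s
  refine ⟨W, hW, ?_⟩
  rintro _ ⟨p, rfl⟩
  obtain ⟨q, hq, hpq⟩ := Set.mem_iUnion₂.1 (hs (Set.mem_univ p))
  exact hsW p ⟨q, hq, hpq⟩

end Groth.Agent.GrpdField29
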