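import Groth.Agent.GrpdLib.BaseChange

/-! The rank polynomial of a frame. -/

set_option autoImplicit false
set_option backward.isDefEq.respectTransparency false
set_option backward.isDefEq.respectTransparency.types false

universe u

open Polynomial Matrix

namespace Groth.Agent.GrpdLib

namespace Frame

variable {A B : Type u} [CommRing A] [CommRing B] {α : A →+* B} {n n' : ℕ}

/-- The polynomial `∑ e_k T^k` of the rank idempotents of a frame. -/
noncomputable def rankPoly (F : Frame α n) : A[X] :=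
  (1 + ((X : A[X]) - 1) • (F.mat 1).map (C : A →+* A[X])).det

theorem rankPoly_eq (F : Frame α n) (F' : Frame α n') : F.rankPoly = F'.rankPoly := by
  rw [rankPoly, rankPoly, F.mat_eq_mul F', ← F.mul_eq_mat F', Matrix.map_mul, Matrix.map_mul,
    ← Matrix.smul_mul, det_one_add_mul_comm, Matrix.mul_smul]

theorem eval₂_rankPoly (F : Frame α n) {S : Type u} [CommRing S] (ψ : A →+* S) (y : S) :
    F.rankPoly.eval₂ ψ y = (1 + (y - 1) • (F.mat 1).map ψ).det := by
  rw [rankPoly, ← coe_eval₂RingHom, RingHom.map_det]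
  congr 1
  ext i j
  simp [Matrix.one_apply, apply_ite (Polynomial.eval₂ ψ y)]

theorem eval_rankPoly (F : Frame α n) (a : A) : F.rankPoly.eval a = F.norm (α a) := by
  rw [Polynomial.eval, F.eval₂_rankPoly, norm]
  congr 2
  rw [show α a - 1 = α (a - 1) * 1 by simp, F.mat_smul]
  ext i j
  simp

theorem IsMap.rankPoly {A' B' : Type u} [CommRing A'] [CommRing B'] {α' : A' →+* B'} {F : Frame α n}
    {F' : Frame α' n} {h : A →+* A'} {g : B →+* B'} (H : IsMap F F' h g) :
    F'.rankPoly = F.rankPoly.map h := by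
  rw [Frame.rankPoly, Frame.rankPoly, ← coe_mapRingHom, RingHom.map_det, ← map_one g, H.mat]
  congr 1
  ext i j
  simp [Matrix.one_apply, apply_ite (Polynomial.map h)]

theorem eval₂_rankPoly_mul (F : Frame α n) {S : Type u} [CommRing S] (ψ : A →+* S) (y z : S) :
    F.rankPoly.eval₂ ψ y * F.rankPoly.eval₂ ψ z = F.rankPoly.eval₂ ψ (y * z) := by
  have hE : (F.mat 1).map ψ * (F.mat 1).map ψ = (F.mat 1).map ψ := by
    rw [← Matrix.map_mul, ← F.mat_mul, one_mul]
  simp only [F.eval₂_rankPoly, ← det_mul]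
  congr 1
  rw [add_mul, one_mul, mul_add, mul_one, Matrix.smul_mul, Matrix.mul_smul, hE, smul_smul, ← add_assoc, add_assoc,
    ← add_smul]
  rw [add_assoc, ← add_smul]
  congr 2
  ring

/-- The rank idempotents separate the powers. -/
theorem coeff_rankPoly_mul_eval₂ (F : Frame α n) (k : ℕ) {S : Type u} [CommRing S] (ψ : A →+* S) (y : S) :
    ψ (F.rankPoly.coeff k) * F.rankPoly.eval₂ ψ y = ψ (F.rankPoly.coeff k) * y ^ k := by
  have key := congrArg (fun p : A[X][X] => p.coeff k) (F.eval₂_rankPoly_mul (C.comp C) (C X) (X : A[X][X]))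
  have e₁ : F.rankPoly.eval₂ (C.comp C : A →+* A[X][X]) (C X) = C F.rankPoly := by
    conv_rhs => rw [← F.rankPoly.eval₂_C_X]
    exact (hom_eval₂ _ _ _ _).symm
  have e₂ : F.rankPoly.eval₂ (C.comp C : A →+* A[X][X]) X = F.rankPoly.map C := rfl
  have e₃ : (F.rankPoly.eval₂ (C.comp C : A →+* A[X][X]) (C X * X)).coeff k = C (F.rankPoly.coeff k) * X ^ k := by
    rw [eval₂_eq_sum, sum_def, finsetSum_coeff]
    simp only [RingHom.comp_apply, mul_pow, ← mul_assoc, ← map_pow C, ← map_mul, coeff_C_mul_X_pow]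
    rw [Finset.sum_ite_eq]
    split_ifs with h
    · rfl
    · rw [notMem_support_iff.mp h, map_zero, zero_mul]
  rw [e₁, e₂, e₃] at key
  replace key := congrArg (eval₂ ψ y) key
  rw [coeff_C_mul, coeff_map, eval₂_mul, eval₂_mul, eval₂_C, eval₂_X_pow] at key
  rwa [mul_comm]

theorem sum_coeff_rankPoly (F : Frame α n) :
    ∑ k ∈ Finset.range (F.rankPoly.natDegree + 1), F.rankPoly.coeff k = 1 := by
  have h := F.eval₂_rankPoly (RingHom.id A) 1
  rw [sub_self, zero_smul, add_zero, det_one, eval₂_eq_sum_range] at h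
  simpa using h

end Frame
end Groth.Agent.GrpdLib
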