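import Groth.Agent.GrpdField29.Closure
import Groth.Agent.GrpdLib.DegDecomp
import Groth.Agent.GrpdField29.LocClosed
import Mathlib.AlgebraicGeometry.Morphisms.SchemeTheoreticallyDominant

/-! Subgroupoids given by monomorphisms into the arrows. -/

set_option autoImplicit false
set_option backward.isDefEq.respectTransparency false
set_option backward.isDefEq.respectTransparency.types false

universe u

open CategoryTheory CategoryTheory.Limits AlgebraicGeometry Grpd

namespace Groth.Agent.GrpdField29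

variable {S : Scheme.{u}} (G : GroupoidScheme S) {Z : Scheme.{u}} (z : Z ⟶ G.R)

/-- The inclusion of composable pairs of a subobject of the arrows. -/
noncomputable abbrev pairι : pullback (z ≫ G.s) (z ≫ G.t) ⟶ pullback G.s G.t :=
  pullback.map (z ≫ G.s) (z ≫ G.t) G.s G.t z z (𝟙 G.U) (by simp) (by simp)

theorem lift_pairι {T : Scheme.{u}} (α β : T ⟶ Z) (h : α ≫ z ≫ G.s = β ≫ z ≫ G.t) :
    pullback.lift α β h ≫ pairι G z = pullback.lift (α ≫ z) (β ≫ z) (by simpa using h) := by
  apply pullback.hom_ext <;> simp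

/-- A monomorphism into the arrows closed under identities, inverses and composition gives a groupoid. -/
theorem exists_subgroupoid [Mono z] (he : ∃ e' : G.U ⟶ Z, e' ≫ z = G.e) (hi : ∃ i' : Z ⟶ Z, i' ≫ z = z ≫ G.i)
    (hc : ∃ c' : pullback (z ≫ G.s) (z ≫ G.t) ⟶ Z, c' ≫ z = pairι G z ≫ G.c) :
    ∃ (G' : GroupoidScheme S) (φ : GroupoidScheme.Hom G' G) (ε : Z ≅ G'.R),
      IsIso φ.fU ∧ ε.hom ≫ φ.fR = z := by
  obtain ⟨e', he⟩ := he
  obtain ⟨i', hi⟩ := hi
  obtain ⟨c', hc⟩ := hc
  have hcomp : ∀ {T : Scheme.{u}} (α β : T ⟶ Z) (h : α ≫ z ≫ G.s = β ≫ z ≫ G.t),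
      (pullback.lift α β h ≫ c') ≫ z = pullback.lift (α ≫ z) (β ≫ z) (by simpa using h) ≫ G.c := by
    intro T α β h
    rw [Category.assoc, hc, ← Category.assoc, lift_pairι]
  let G' : GroupoidScheme S :=
    { U := G.U
      R := Z
      pU := G.pU
      pR := z ≫ G.pR
      s := z ≫ G.s
      t := z ≫ G.t
      e := e'
      i := i'
      c := c'
      s_over := by rw [Category.assoc, G.s_over]
      t_over := by rw [Category.assoc, G.t_over]
      comp_s := fun α β h => by
        rw [← Category.assoc _ z, hcomp, G.comp_s, Category.assoc]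
      comp_t := fun α β h => by
        rw [← Category.assoc _ z, hcomp, G.comp_t, Category.assoc]
      assoc := fun α β γ h₁ h₂ => by
        rw [← cancel_mono z]
        refine (hcomp _ _ _).trans ?_
        refine Eq.trans ?_ (hcomp _ _ _).symm
        refine (GrpdLib.c_congr G _ (hcomp α β h₁) rfl).trans ?_
        refine (G.assoc (α ≫ z) (β ≫ z) (γ ≫ z) (by simpa using h₁) (by simpa using h₂)).trans ?_
        exact GrpdLib.c_congr G _ rfl (hcomp β γ h₂).symm
      e_s := by rw [← Category.assoc, he, G.e_s]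
      e_t := by rw [← Category.assoc, he, G.e_t]
      comp_e := fun α => by
        rw [← cancel_mono z, hcomp]
        exact (GrpdLib.c_congr G _ rfl (by simp [he])).trans (G.comp_e (α ≫ z))
      e_comp := fun α => by
        rw [← cancel_mono z, hcomp]
        exact (GrpdLib.c_congr G _ (by simp [he]) rfl).trans (G.e_comp (α ≫ z))
      i_s := by rw [← Category.assoc, hi, Category.assoc, G.i_s]
      i_t := by rw [← Category.assoc, hi, Category.assoc, G.i_t]
      comp_i := fun α => by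
        rw [← cancel_mono z, hcomp]
        exact (GrpdLib.c_congr G _ rfl (by simp [hi])).trans ((G.comp_i (α ≫ z)).trans (by simp [he]))
      i_comp := fun α => by
        rw [← cancel_mono z, hcomp]
        exact (GrpdLib.c_congr G _ (by simp [hi]) rfl).trans ((G.i_comp (α ≫ z)).trans (by simp [he])) }
  let φ : GroupoidScheme.Hom G' G :=
    { fU := 𝟙 G.U
      fR := z
      fU_over := Category.id_comp _
      comm_s := (Category.comp_id _).symm
      comm_t := (Category.comp_id _).symm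
      comm_c := fun α β h => hcomp α β h }
  exact ⟨G', φ, Iso.refl _, (inferInstance : IsIso (𝟙 G.U)), Category.id_comp _⟩

/-- A map factors through a closed immersion if it does so after a schematically dominant map. -/
theorem exists_lift_of_schDom {X T Y W : Scheme.{u}} (f : X ⟶ T) [IsSchemeTheoreticallyDominant f]
    (h : T ⟶ Y) (w : W ⟶ Y) [IsClosedImmersion w] (g : X ⟶ W) (hg : g ≫ w = f ≫ h) :
    ∃ h' : T ⟶ W, h' ≫ w = h := by
  have hle : w.ker ≤ h.ker := by
    refine (Scheme.Hom.le_ker_comp g w).trans (le_of_eq ?_)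
    rw [hg, Scheme.Hom.ker_comp, f.ker_eq_bot, Scheme.IdealSheafData.map_bot]
  exact ⟨IsClosedImmersion.lift w h hle, IsClosedImmersion.lift_fac _ _ _⟩

instance schDom_toImage {X Y : Scheme.{u}} (f : X ⟶ Y) [QuasiCompact f] :
    IsSchemeTheoreticallyDominant f.toImage := by
  rw [isSchemeTheoreticallyDominant_iff]
  refine Scheme.IdealSheafData.ext_of_iSup_eq_top
    (fun V : Y.affineOpens => ⟨f.imageι ⁻¹ᵁ V.1, V.2.preimage f.imageι⟩) ?_ fun V => ?_
  · rw [eq_top_iff]
    intro x _
    have := (iSup_affineOpens_eq_top Y).ge (Set.mem_univ (f.imageι x))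
    simp only [TopologicalSpace.Opens.mem_iSup] at this ⊢
    exact this
  · rw [Scheme.Hom.ker_apply, Scheme.IdealSheafData.ideal_bot, Pi.bot_apply, ← RingHom.injective_iff_ker_eq_bot]
    exact f.toImage_app_injective V

/-- Over a base of dimension zero, pairs over a schematically dominant map are schematically dense. -/
theorem schDom_pairs {X W U : Scheme.{u}} [IsIntegral U] [Subsingleton U] (a : X ⟶ W)
    [IsSchemeTheoreticallyDominant a] [QuasiCompact a] (p q : W ⟶ U) :
    IsSchemeTheoreticallyDominant (pullback.map (a ≫ p) (a ≫ q) p q a a (𝟙 U) (by simp) (by simp)) := by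
  let u₁ : pullback (a ≫ p) (a ≫ q) ⟶ pullback p (a ≫ q) :=
    pullback.map _ _ _ _ a (𝟙 X) (𝟙 U) (by simp) (by simp)
  let u₂ : pullback p (a ≫ q) ⟶ pullback p q :=
    pullback.map _ _ _ _ (𝟙 W) a (𝟙 U) (by simp) (by simp)
  have H₁ : IsPullback (pullback.fst (a ≫ p) (a ≫ q)) u₁ a (pullback.fst p (a ≫ q)) := by
    refine IsPullback.of_bot ?_ (by simp [u₁]) (IsPullback.of_hasPullback p (a ≫ q))
    simpa [u₁] using IsPullback.of_hasPullback (a ≫ p) (a ≫ q)
  have H₂ : IsPullback (pullback.snd p (a ≫ q)) u₂ a (pullback.snd p q) := by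
    refine IsPullback.of_bot ?_ (by simp [u₂]) (IsPullback.of_hasPullback p q).flip
    simpa [u₂] using (IsPullback.of_hasPullback p (a ≫ q)).flip
  have := IsSchemeTheoreticallyDominant.of_isPullback H₁
  have := IsSchemeTheoreticallyDominant.of_isPullback H₂
  have e : pullback.map (a ≫ p) (a ≫ q) p q a a (𝟙 U) (by simp) (by simp) = u₁ ≫ u₂ := by
    apply pullback.hom_ext <;> simp [u₁, u₂]
  rw [e]
  infer_instance


/-- The factorisations needed for a subgroupoid, from a map of groupoids landing in it densely. -/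
theorem exists_factorisations {S : Scheme.{u}} {G₁ G₂ : GroupoidScheme S} (f : GroupoidScheme.Hom G₁ G₂)
    [IsIso f.fU] {W : Scheme.{u}} (z : W ⟶ G₂.R) [IsClosedImmersion z] (a : G₁.R ⟶ W) (ha : a ≫ z = f.fR)
    [IsSchemeTheoreticallyDominant a]
    (hpairs : IsSchemeTheoreticallyDominant (pullback.map (a ≫ z ≫ G₂.s) (a ≫ z ≫ G₂.t)
      (z ≫ G₂.s) (z ≫ G₂.t) a a (𝟙 G₂.U) (by simp) (by simp))) :
    (∃ e' : G₂.U ⟶ W, e' ≫ z = G₂.e) ∧ (∃ i' : W ⟶ W, i' ≫ z = z ≫ G₂.i) ∧
      ∃ c' : pullback (z ≫ G₂.s) (z ≫ G₂.t) ⟶ W, c' ≫ z = pairι G₂ z ≫ G₂.c := by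
  have h : pullback.fst (a ≫ z ≫ G₂.s) (a ≫ z ≫ G₂.t) ≫ G₁.s =
      pullback.snd (a ≫ z ≫ G₂.s) (a ≫ z ≫ G₂.t) ≫ G₁.t := by
    rw [← cancel_mono f.fU, Category.assoc, Category.assoc, ← f.comm_s, ← f.comm_t, ← ha]
    simpa using pullback.condition (f := a ≫ z ≫ G₂.s) (g := a ≫ z ≫ G₂.t)
  refine ⟨⟨inv f.fU ≫ G₁.e ≫ a, ?_⟩, exists_lift_of_schDom a (z ≫ G₂.i) z (G₁.i ≫ a) ?_,
    @exists_lift_of_schDom _ _ _ _ _ hpairs (pairι G₂ z ≫ G₂.c) z _
      (pullback.lift _ _ h ≫ G₁.c ≫ a) ?_⟩
  · simp only [Category.assoc, ha, GrpdLib.hom_comm_e, IsIso.inv_hom_id_assoc]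
  · rw [Category.assoc, ha, hom_comm_i, ← ha, Category.assoc]
  · rw [Category.assoc, Category.assoc, ha]
    refine ((Category.assoc _ _ _).symm.trans (f.comm_c _ _ h)).trans ?_
    refine Eq.trans ?_ (Category.assoc _ _ _)
    refine congrArg (· ≫ G₂.c) ?_
    apply pullback.hom_ext <;> simp [pairι, ha]

/-- The schematic image of a morphism of groupoids over a field is a groupoid. -/
theorem exists_image_groupoid {S : Scheme.{u}} {G₁ G₂ : GroupoidScheme S} (f : GroupoidScheme.Hom G₁ G₂)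
    [IsIso f.fU] [QuasiCompact f.fR] (k : Type u) [Field k] (eU : G₂.U ≅ Spec (CommRingCat.of k)) :
    ∃ (G' : GroupoidScheme S) (φ : GroupoidScheme.Hom G' G₂) (ε : f.fR.image ≅ G'.R),
      IsIso φ.fU ∧ ε.hom ≫ φ.fR = f.fR.imageι := by
  have : IsIntegral G₂.U := IsIntegral.of_isIso eU.inv
  have : Subsingleton G₂.U := eU.hom.isEmbedding.injective.subsingleton
  obtain ⟨he, hi, hc⟩ := exists_factorisations f f.fR.imageι f.fR.toImage (Scheme.Hom.toImage_imageι _)
    (schDom_pairs f.fR.toImage _ _)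
  exact exists_subgroupoid G₂ f.fR.imageι he hi hc

end Groth.Agent.GrpdField29
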