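import Groth.Agent.GrpdLib.Affine

/-! Base change of affine groupoid data along an algebra over a ring of invariant scalars. -/

set_option autoImplicit false
set_option backward.isDefEq.respectTransparency false
set_option backward.isDefEq.respectTransparency.types false

universe u

open CategoryTheory CategoryTheory.Limits
open scoped TensorProduct

noncomputable section

namespace Groth.Agent.GrpdLib

section Squares

variable {C : Type u} [CommRing C] (N : Type u) [CommRing N] [Algebra C N]

/-- The map on tensor products from the left. -/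
abbrev lmap {M M' : Type u} [CommRing M] [CommRing M'] [Algebra C M] [Algebra C M'] (f : M →ₐ[C] M') :
    N ⊗[C] M →ₐ[N] N ⊗[C] M' :=
  Algebra.TensorProduct.map (AlgHom.id N N) f

theorem isPushout_lmap {M M' : Type u} [CommRing M] [CommRing M'] [Algebra C M] [Algebra C M'] (f : M →ₐ[C] M') :
    IsPushout (CommRingCat.ofHom f.toRingHom)
      (CommRingCat.ofHom (Algebra.TensorProduct.includeRight : M →ₐ[C] N ⊗[C] M).toRingHom)
      (CommRingCat.ofHom (Algebra.TensorProduct.includeRight : M' →ₐ[C] N ⊗[C] M').toRingHom)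
      (CommRingCat.ofHom (lmap N f).toRingHom) := by
  have hM := (CommRingCat.isPushout_tensorProduct C N M).flip
  have hM' := (CommRingCat.isPushout_tensorProduct C N M').flip
  refine IsPushout.of_left ?_ ?_ hM
  · have e1 : CommRingCat.ofHom (algebraMap C M) ≫ CommRingCat.ofHom f.toRingHom = CommRingCat.ofHom (algebraMap C M') :=
      CommRingCat.hom_ext f.comp_algebraMap
    have e2 : CommRingCat.ofHom (Algebra.TensorProduct.includeLeftRingHom : N →+* N ⊗[C] M) ≫
        CommRingCat.ofHom (lmap N f).toRingHom =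
        CommRingCat.ofHom (Algebra.TensorProduct.includeLeftRingHom : N →+* N ⊗[C] M') := by
      refine CommRingCat.hom_ext (RingHom.ext fun n => ?_)
      change (lmap N f) (n ⊗ₜ[C] (1 : M)) = n ⊗ₜ[C] (1 : M')
      simp
    rw [e1, e2]
    exact hM'
  · refine CommRingCat.hom_ext (RingHom.ext fun x => ?_)
    change (1 : N) ⊗ₜ[C] f x = (lmap N f) ((1 : N) ⊗ₜ[C] x)
    simp

theorem isPushout_lmap_sq {M₁ M₂ M₃ M₄ : Type u} [CommRing M₁] [CommRing M₂] [CommRing M₃] [CommRing M₄]
    [Algebra C M₁] [Algebra C M₂] [Algebra C M₃] [Algebra C M₄] (f : M₁ →ₐ[C] M₂) (g : M₁ →ₐ[C] M₃)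
    (h : M₂ →ₐ[C] M₄) (k : M₃ →ₐ[C] M₄)
    (sq : IsPushout (CommRingCat.ofHom f.toRingHom) (CommRingCat.ofHom g.toRingHom)
      (CommRingCat.ofHom h.toRingHom) (CommRingCat.ofHom k.toRingHom)) :
    IsPushout (CommRingCat.ofHom (lmap N f).toRingHom) (CommRingCat.ofHom (lmap N g).toRingHom)
      (CommRingCat.ofHom (lmap N h).toRingHom) (CommRingCat.ofHom (lmap N k).toRingHom) := by
  have h1 := sq.paste_vert (isPushout_lmap N k)
  rw [(isPushout_lmap N h).w, (isPushout_lmap N g).w] at h1
  refine IsPushout.of_top h1 ?_ (isPushout_lmap N f)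
  have h2 : (lmap N h).comp (lmap N f) = (lmap N k).comp (lmap N g) :=
    Algebra.TensorProduct.ext' fun n x => by
      simp [show h (f x) = k (g x) from congrArg (fun φ => φ.hom x) sq.w]
  exact CommRingCat.hom_ext (congrArg AlgHom.toRingHom h2)

end Squares

namespace AffData

variable (D : AffData.{u}) {C : Type u} [CommRing C] [Algebra C D.A]
  (hc : ∀ c : C, D.t (algebraMap C D.A c) = D.s (algebraMap C D.A c))
  (N : Type u) [CommRing N] [Algebra C N]

/-- `B` over the scalars. -/
abbrev algB' (C : Type u) [CommRing C] [Algebra C D.A] : Algebra C D.B := (D.s.comp (algebraMap C D.A)).toAlgebra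

/-- The composable pairs over the scalars. -/
abbrev algC' (C : Type u) [CommRing C] [Algebra C D.A] : Algebra C D.C :=
  (D.p₂.comp (D.s.comp (algebraMap C D.A))).toAlgebra

attribute [local instance] algB' algC'

/-- `s` as an algebra map. -/
def sAlg : D.A →ₐ[C] D.B := { D.s with commutes' := fun _ => rfl }

/-- `t` as an algebra map. -/
def tAlg : D.A →ₐ[C] D.B := { D.t with commutes' := hc }

include hc in
theorem p₁_commutes' (c : C) : D.p₁ (D.s (algebraMap C D.A c)) = D.p₂ (D.s (algebraMap C D.A c)) := by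
  have h := congrArg (fun φ => φ.hom (algebraMap C D.A c)) D.sq₁.w
  simp only [CommRingCat.hom_comp, CommRingCat.hom_ofHom, RingHom.comp_apply, hc c] at h
  exact h.symm

/-- The base change of the data from the left. -/
def tensorLeft : AffData.{u} :=
  let e : D.B →ₐ[C] D.A := { D.e with commutes' := fun _ => D.e_s_apply _ }
  let p₂ : D.B →ₐ[C] D.C := { D.p₂ with commutes' := fun _ => rfl }
  let m : D.B →ₐ[C] D.C :=
    { D.m with commutes' := fun c => (congrArg (fun φ => φ.hom (algebraMap C D.A c)) D.sq₂.w).symm }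
  let p₁ : D.B →ₐ[C] D.C :=
    { D.p₁ with commutes' := p₁_commutes' D hc }
  { A := N ⊗[C] D.A
    B := N ⊗[C] D.B
    C := N ⊗[C] D.C
    s := (lmap N (sAlg D)).toRingHom
    t := (lmap N (tAlg D hc)).toRingHom
    e := (lmap N e).toRingHom
    p₁ := (lmap N p₁).toRingHom
    p₂ := (lmap N p₂).toRingHom
    m := (lmap N m).toRingHom
    e_s := by
      have h : (lmap N e).comp (lmap N (sAlg D)) = AlgHom.id N (N ⊗[C] D.A) :=
        Algebra.TensorProduct.ext' fun n a => by simp [e, sAlg, D.e_s_apply]
      exact congrArg AlgHom.toRingHom h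
    e_t := by
      have h : (lmap N e).comp (lmap N (tAlg D hc)) = AlgHom.id N (N ⊗[C] D.A) :=
        Algebra.TensorProduct.ext' fun n a => by simp [e, tAlg, D.e_t_apply]
      exact congrArg AlgHom.toRingHom h
    m_t := by
      have h : (lmap N m).comp (lmap N (tAlg D hc)) = (lmap N p₁).comp (lmap N (tAlg D hc)) :=
        Algebra.TensorProduct.ext' fun n a => by simp [m, p₁, tAlg, D.m_t_apply]
      exact congrArg AlgHom.toRingHom h
    sq₁ := isPushout_lmap_sq N (tAlg D hc) (sAlg D) p₂ p₁ D.sq₁
    sq₂ := isPushout_lmap_sq N (sAlg D) (sAlg D) p₂ m D.sq₂ }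

end AffData

end Groth.Agent.GrpdLib
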