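import Groth.Agent.GrpdField29.TensorLeft
import Mathlib.RingTheory.RingHom.Etale
import Mathlib.AlgebraicGeometry.PullbackCarrier
import Mathlib.AlgebraicGeometry.Morphisms.UnderlyingMap

/-! Tools for base changes of rings: equalizers, primes, idempotent localisations. -/

set_option autoImplicit false
set_option backward.isDefEq.respectTransparency false
set_option backward.isDefEq.respectTransparency.types false

universe u

open CategoryTheory CategoryTheory.Limits AlgebraicGeometry
open scoped TensorProduct

namespace Groth.Agent.GrpdLib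

variable {C : Type u} [CommRing C] (N : Type u) [CommRing N] [Algebra C N]

theorem exists_eq_map_val_of_eq [Module.Flat C N] {A B : Type u} [CommRing A] [CommRing B] [Algebra C A] [Algebra C B]
    (f g : A →ₐ[C] B) (z : N ⊗[C] A) (h : lmap N f z = lmap N g z) :
    ∃ w : N ⊗[C] AlgHom.equalizer f g, lmap N (AlgHom.equalizer f g).val w = z := by
  have hex : Function.Exact (AlgHom.equalizer f g).val.toLinearMap (f.toLinearMap - g.toLinearMap) := fun a => by
    simp only [LinearMap.sub_apply, sub_eq_zero, Set.mem_range]
    exact ⟨fun ha => ⟨⟨a, ha⟩, rfl⟩, fun ⟨k, hk⟩ => hk ▸ k.2⟩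
  have h2 := Module.Flat.lTensor_exact N hex
  have hz : (f.toLinearMap - g.toLinearMap).lTensor N z = 0 := by
    rw [LinearMap.lTensor_sub, LinearMap.sub_apply, sub_eq_zero]
    exact h
  obtain ⟨w, hw⟩ := (h2 z).1 hz
  exact ⟨w, hw⟩

theorem injective_lmap [Module.Flat C N] {A B : Type u} [CommRing A] [CommRing B] [Algebra C A] [Algebra C B]
    (f : A →ₐ[C] B) (hf : Function.Injective f) : Function.Injective (lmap N f) :=
  Module.Flat.lTensor_preserves_injective_linearMap (M := N) f.toLinearMap hf

theorem exists_eq_algebraMap_of_eq [Module.Flat C N] {A B : Type u} [CommRing A] [CommRing B] [Algebra C A]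
    [Algebra C B] (f g : A →ₐ[C] B) (hC : ∀ a, f a = g a → a ∈ Set.range (algebraMap C A)) (z : N ⊗[C] A)
    (h : lmap N f z = lmap N g z) : z ∈ Set.range (algebraMap N (N ⊗[C] A)) := by
  obtain ⟨w, rfl⟩ := exists_eq_map_val_of_eq N f g z h
  clear h
  induction w using TensorProduct.induction_on with
  | zero => exact ⟨0, by simp⟩
  | add a b ha hb =>
    obtain ⟨x, hx⟩ := ha
    obtain ⟨y, hy⟩ := hb
    exact ⟨x + y, by rw [map_add, map_add, hx, hy]⟩
  | tmul n k =>
    obtain ⟨c, hc⟩ := hC k.1 k.2
    refine ⟨c • n, ?_⟩
    show (c • n) ⊗ₜ[C] (1 : A) = (lmap N _) (n ⊗ₜ[C] k)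
    rw [Algebra.TensorProduct.map_tmul, AlgHom.id_apply, Subalgebra.coe_val, ← hc,
      Algebra.algebraMap_eq_smul_one, TensorProduct.smul_tmul]

theorem exists_prime_tensor {K : Type u} [CommRing K] [Algebra C K] (P : Ideal N) [hP : P.IsPrime]
    (q : Ideal K) [hq : q.IsPrime] (h : P.comap (algebraMap C N) = q.comap (algebraMap C K)) :
    ∃ Q : Ideal (N ⊗[C] K), Q.IsPrime ∧ Q.comap (algebraMap N (N ⊗[C] K)) = P ∧
      Q.comap (Algebra.TensorProduct.includeRight : K →ₐ[C] N ⊗[C] K).toRingHom = q := by
  obtain ⟨z, h₁, h₂⟩ := Scheme.Pullback.exists_preimage_pullback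
    (f := Spec.map (CommRingCat.ofHom (algebraMap C N))) (g := Spec.map (CommRingCat.ofHom (algebraMap C K)))
    ⟨P, hP⟩ ⟨q, hq⟩ (PrimeSpectrum.ext h)
  refine ⟨((pullbackSpecIso C N K).hom z).asIdeal, inferInstance, ?_, ?_⟩
  · rw [← pullbackSpecIso_hom_fst, Scheme.Hom.comp_apply] at h₁
    exact congrArg PrimeSpectrum.asIdeal h₁
  · rw [← pullbackSpecIso_hom_snd, Scheme.Hom.comp_apply] at h₂
    exact congrArg PrimeSpectrum.asIdeal h₂

theorem surjective_comap_lmap {K A : Type u} [CommRing K] [CommRing A] [Algebra C K] [Algebra C A] (f : K →ₐ[C] A)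
    (hf : Function.Surjective (PrimeSpectrum.comap f.toRingHom)) :
    Function.Surjective (PrimeSpectrum.comap (lmap N f).toRingHom) := by
  have sq := isPullback_SpecMap_of_isPushout _ _ _ _ (isPushout_lmap N f)
  have hS : Surjective (Spec.map (CommRingCat.ofHom f.toRingHom)) := ⟨hf⟩
  exact (MorphismProperty.of_isPullback (P := @Surjective) sq hS).surj

theorem etale_of_isPushout {R S R' S' : Type u} [CommRing R] [CommRing S] [CommRing R'] [CommRing S']
    (f : R →+* S) (g : R →+* R') (h : S →+* S') (k : R' →+* S')
    (sq : IsPushout (CommRingCat.ofHom f) (CommRingCat.ofHom g) (CommRingCat.ofHom h) (CommRingCat.ofHom k))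
    (hf : f.Etale) : k.Etale := by
  algebraize [f, g, h, k, h.comp f]
  have : IsScalarTower R R' S' := IsScalarTower.of_algebraMap_eq' (congrArg CommRingCat.Hom.hom sq.w)
  have : Algebra.IsPushout R S R' S' := CommRingCat.isPushout_iff_isPushout.1 sq
  have : Algebra.IsPushout R R' S S' := Algebra.IsPushout.symm inferInstance
  exact RingHom.etale_algebraMap.2 (Algebra.Etale.of_equiv (Algebra.IsPushout.equiv R R' S S'))

/-- Localisations form pushouts. -/
theorem isPushout_away {R S : Type u} [CommRing R] [CommRing S] (f : R →+* S) (r : R) :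
    IsPushout (CommRingCat.ofHom f) (CommRingCat.ofHom (algebraMap R (Localization.Away r)))
      (CommRingCat.ofHom (algebraMap S (Localization.Away (f r))))
      (CommRingCat.ofHom (Localization.awayMap f r)) := by
  letI : Algebra R S := f.toAlgebra
  letI : Algebra (Localization.Away r) (Localization.Away (f r)) := (Localization.awayMap f r).toAlgebra
  have : IsScalarTower R (Localization.Away r) (Localization.Away (f r)) :=
    IsScalarTower.of_algebraMap_eq fun x => (IsScalarTower.algebraMap_apply R S (Localization.Away (f r)) x).trans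
      (by
        show _ = Localization.awayMap f r (algebraMap R (Localization.Away r) x)
        rw [Localization.awayMap, IsLocalization.Away.map, IsLocalization.map_eq]
        rfl)
  have : IsLocalization (Algebra.algebraMapSubmonoid S (Submonoid.powers r)) (Localization.Away (f r)) := by
    have e : Algebra.algebraMapSubmonoid S (Submonoid.powers r) = Submonoid.powers (f r) :=
      Submonoid.map_powers f r
    rw [e]
    infer_instance
  have : Algebra.IsPushout R S (Localization.Away r) (Localization.Away (f r)) :=
    Algebra.isPushout_of_isLocalization (Submonoid.powers r) _ _ _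
  exact CommRingCat.isPushout_iff_isPushout.2 this

theorem surjective_algebraMap_away {R : Type u} [CommRing R] {e : R} (he : IsIdempotentElem e) :
    Function.Surjective (algebraMap R (Localization.Away e)) :=
  IsLocalization.Away.algebraMap_surjective_of_isIdempotentElem e he

end Groth.Agent.GrpdLib
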