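import Groth.Agent.GrpdField29.FittThickFP

/-! Invariant affine opens under an invariant finite locally free thickening. -/

set_option autoImplicit false
set_option backward.isDefEq.respectTransparency false
set_option backward.isDefEq.respectTransparency.types false

universe u

open CategoryTheory CategoryTheory.Limits AlgebraicGeometry TopologicalSpace Grpd

namespace Groth.Agent.GrpdField29

variable {S : Scheme.{u}} (G : GroupoidScheme S) [IsFinite G.s]

/-- A finite union of orbits inside an affine open of the thickened open has an invariant affine neighbourhood. -/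
theorem exists_invariant_affine_thick {W : G.U.Opens} (W' : W.toScheme.IdealSheafData) (hsupp : W'.support = ⊤)
    (h : Mor2.IsFinLocFree (pullback.snd G.s (W'.subschemeι ≫ W.ι))) {A : G.U.Opens} (hA : IsAffineOpen A)
    (hAW : A ≤ W) {T : Set G.U} (hT : T.Finite) (hTA : T ⊆ A)
    (hTinv : ∀ r : G.R, G.s r ∈ T → G.t r ∈ T) :
    ∃ V : G.U.Opens, IsAffineOpen V ∧ T ⊆ V ∧ GrpdLib.IsInv G V ∧ V ≤ A := by
  obtain ⟨_, _, _⟩ := h
  let m := W'.subschemeι ≫ W.ι
  let s' := pullback.snd G.s m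
  have hTcore : T ⊆ GrpdLib.invCore G A := fun x hx => GrpdLib.mem_invCore.2 fun r hr => hTA (hTinv r (hr.symm ▸ hx))
  obtain ⟨f, hTf, hfle⟩ := GrpdLib.exists_basicOpen_of_finite hA hT (GrpdLib.invCore G A) hTA hTcore
  let D := G.U.basicOpen f
  have hD : IsAffineOpen D := hA.basicOpen f
  have hDW : D ≤ W := (G.U.basicOpen_le f).trans hAW
  have hD1 : IsAffineOpen (W.ι ⁻¹ᵁ D) := hD.preimage_of_isOpenImmersion W.ι (by simpa using hDW)
  have hD' : IsAffineOpen (m ⁻¹ᵁ D) := hD1.preimage W'.subschemeι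
  let a := pullback.fst G.s m ≫ G.t
  have hle : s' ⁻¹ᵁ (m ⁻¹ᵁ D) ≤ a ⁻¹ᵁ A := fun z hz => by
    have hz' : m (s' z) ∈ D := hz
    rw [← Scheme.Hom.comp_apply, ← pullback.condition, Scheme.Hom.comp_apply] at hz'
    show G.t (pullback.fst G.s m z) ∈ A
    exact GrpdLib.mem_invCore.1 (hfle hz') _ rfl
  obtain ⟨N, hN⟩ := GrpdLib.exists_norm_basicOpen s' hD' (a.appLE A (s' ⁻¹ᵁ (m ⁻¹ᵁ D)) hle f)
  have hsurj : Function.Surjective (m.app D).hom := by
    rw [Scheme.Hom.comp_app]
    have : IsIso (W.ι.app D) := W.ι.isIso_app D (by simpa using hDW)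
    exact (W'.subschemeι.app_surjective _ hD1).comp (ConcreteCategory.bijective_of_isIso (W.ι.app D)).2
  obtain ⟨N', hN'⟩ := hsurj N
  have hTD : T ⊆ D := hTf
  refine ⟨GrpdLib.invCore G D, ?_, fun x hx => GrpdLib.mem_invCore.2 fun r hr => hTD (hTinv r (hr.symm ▸ hx)),
    GrpdLib.isInv_invCore D, (GrpdLib.invCore_le D).trans (G.U.basicOpen_le f)⟩
  have hb : GrpdLib.invCore G D = G.U.basicOpen N' := by
    ext x
    refine ⟨fun hx => ?_, fun hx => ?_⟩ <;>
    · have hxD : x ∈ D := by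
        first | exact GrpdLib.invCore_le D hx | exact G.U.basicOpen_le _ hx
      obtain ⟨w, hw⟩ : (⟨x, hDW hxD⟩ : W) ∈ Set.range W'.subschemeι := by
        rw [Scheme.IdealSheafData.range_subschemeι, hsupp]
        trivial
      have hmw : m w = x := congrArg W.ι hw
      have hiff : x ∈ G.U.basicOpen N' ↔ w ∈ W'.subscheme.basicOpen N := by
        rw [← hN', ← Scheme.preimage_basicOpen, ← hmw]
        rfl
      have key : x ∈ GrpdLib.invCore G D ↔ w ∈ W'.subscheme.basicOpen N := by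
        rw [hN, GrpdLib.mem_invCore]
        constructor
        · refine fun H => ⟨show m w ∈ D from hmw.symm ▸ hxD, fun z hz => ?_⟩
          rw [Scheme.basicOpen_appLE]
          refine ⟨show m (s' z) ∈ D from hz.symm ▸ hmw.symm ▸ hxD, ?_⟩
          refine H (pullback.fst G.s m z) ?_
          rw [← Scheme.Hom.comp_apply, pullback.condition, Scheme.Hom.comp_apply]
          show m (s' z) = x
          rw [hz, hmw]
        · rintro ⟨-, H⟩ r hr
          obtain ⟨z, hz1, hz2⟩ := Scheme.Pullback.exists_preimage_pullback r w (hr.trans hmw.symm)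
          have := H z hz2
          rw [Scheme.basicOpen_appLE] at this
          rw [← hz1]
          exact this.2
      first | exact hiff.2 (key.1 hx) | exact key.2 (hiff.1 hx)
  rw [hb]
  exact hD.basicOpen N'

omit [IsFinite G.s] in
/-- Restricting an invariant thickening to an invariant open. -/
theorem exists_restrict_thick {W V : G.U.Opens} (hVW : V ≤ W) (hV : GrpdLib.IsInv G V)
    (W' : W.toScheme.IdealSheafData) (hsupp : W'.support = ⊤)
    (hφ : ∃ φ : pullback G.s (W'.subschemeι ≫ W.ι) ≅ pullback G.t (W'.subschemeι ≫ W.ι),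
      φ.hom ≫ pullback.fst G.t (W'.subschemeι ≫ W.ι) = pullback.fst G.s (W'.subschemeι ≫ W.ι))
    (hs : Mor2.IsFinLocFree (pullback.snd G.s (W'.subschemeι ≫ W.ι))) :
    ∃ V' : V.toScheme.IdealSheafData, V'.support = ⊤ ∧
      (LocallyOfFinitePresentation W'.subschemeι → LocallyOfFinitePresentation V'.subschemeι) ∧
      (∃ φ : pullback G.s (V'.subschemeι ≫ V.ι) ≅ pullback G.t (V'.subschemeι ≫ V.ι),
        φ.hom ≫ pullback.fst G.t (V'.subschemeι ≫ V.ι) = pullback.fst G.s (V'.subschemeι ≫ V.ι)) ∧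
      Mor2.IsFinLocFree (pullback.snd G.s (V'.subschemeι ≫ V.ι)) ∧
      Mor2.IsFinLocFree (pullback.snd G.t (V'.subschemeι ≫ V.ι)) := by
  obtain ⟨φ, hφ⟩ := hφ
  let h := G.U.homOfLE hVW
  let V' := W'.comap h
  let q := (W'.comapIso h).hom ≫ pullback.snd h W'.subschemeι
  have hsq : IsPullback V'.subschemeι q h W'.subschemeι :=
    (IsPullback.of_hasPullback h W'.subschemeι).of_iso (W'.comapIso h).symm (Iso.refl _) (Iso.refl _) (Iso.refl _)
      (by simp [V']) (by simp only [q, Iso.symm_hom, Iso.refl_hom, Category.comp_id, Iso.inv_hom_id_assoc]) (by simp) (by simp)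
  have hm : V'.subschemeι ≫ V.ι = q ≫ W'.subschemeι ≫ W.ι := by
    rw [← reassoc_of% hsq.w, Scheme.homOfLE_ι]
  have hlift : ∀ {P : Scheme.{u}} (g : P ⟶ G.U) (k : P ⟶ W'.subscheme), k ≫ W'.subschemeι ≫ W.ι = g →
      (∀ x, g x ∈ V) → ∃ k', k' ≫ V'.subschemeι ≫ V.ι = g := fun g k hk hg => by
    let g' := IsOpenImmersion.lift V.ι g (by rintro _ ⟨x, rfl⟩; rw [Scheme.Opens.range_ι]; exact hg x)
    refine ⟨hsq.lift g' k ?_, ?_⟩
    · rw [← cancel_mono W.ι, Category.assoc, Scheme.homOfLE_ι, IsOpenImmersion.lift_fac, Category.assoc, hk]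
    · rw [hsq.lift_fst_assoc, IsOpenImmersion.lift_fac]
  have hflf : Mor2.IsFinLocFree (pullback.snd G.s (V'.subschemeι ≫ V.ι)) := by
    have hbig : IsPullback (pullback.fst G.s (V'.subschemeι ≫ V.ι)) (pullback.snd G.s (V'.subschemeι ≫ V.ι)) G.s
        (q ≫ W'.subschemeι ≫ W.ι) := by
      rw [← hm]
      exact IsPullback.of_hasPullback _ _
    have hp := IsPullback.of_right' hbig (IsPullback.of_hasPullback G.s (W'.subschemeι ≫ W.ι))
    obtain ⟨h1, h2, h3⟩ := hs
    exact ⟨MorphismProperty.of_isPullback hp h1, MorphismProperty.of_isPullback hp h2,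
      MorphismProperty.of_isPullback hp h3⟩
  refine ⟨V', ?_, fun hl => MorphismProperty.of_isPullback hsq.flip hl, ?_, hflf, isFinLocFree_snd_t G _ hflf⟩
  · rw [Scheme.IdealSheafData.support_comap, hsupp]
    ext1
    rfl
  · refine exists_iso_of_lifts _ _ _ ?_ ?_
    · have e : pullback.fst G.s (V'.subschemeι ≫ V.ι) ≫ G.s =
          (pullback.snd G.s (V'.subschemeι ≫ V.ι) ≫ q) ≫ W'.subschemeι ≫ W.ι := by
        exact pullback.condition.trans ((congrArg (_ ≫ ·) hm).trans (Category.assoc _ _ _).symm)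
      refine hlift _ ((pullback.lift _ _ e ≫ φ.hom) ≫ pullback.snd _ _) ?_ fun x => ?_
      · rw [Category.assoc, ← pullback.condition, ← Category.assoc, Category.assoc (pullback.lift _ _ e), hφ,
          pullback.lift_fst]
      · rw [Scheme.Hom.comp_apply, ← hV.mem_iff, ← Scheme.Hom.comp_apply, pullback.condition, Scheme.Hom.comp_apply,
          Scheme.Hom.comp_apply]
        exact (V'.subschemeι _).2
    · have e : pullback.fst G.t (V'.subschemeι ≫ V.ι) ≫ G.t =
          (pullback.snd G.t (V'.subschemeι ≫ V.ι) ≫ q) ≫ W'.subschemeι ≫ W.ι := by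
        exact pullback.condition.trans ((congrArg (_ ≫ ·) hm).trans (Category.assoc _ _ _).symm)
      refine hlift _ ((pullback.lift _ _ e ≫ φ.inv) ≫ pullback.snd _ _) ?_ fun x => ?_
      · have hi : φ.inv ≫ pullback.fst G.s (W'.subschemeι ≫ W.ι) = pullback.fst G.t (W'.subschemeι ≫ W.ι) := by
          rw [← hφ, Iso.inv_hom_id_assoc]
        rw [Category.assoc, ← pullback.condition, ← Category.assoc, Category.assoc (pullback.lift _ _ e), hi,
          pullback.lift_fst]
      · rw [Scheme.Hom.comp_apply, hV.mem_iff, ← Scheme.Hom.comp_apply, pullback.condition, Scheme.Hom.comp_apply,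
          Scheme.Hom.comp_apply]
        exact (V'.subschemeι _).2

/-- Finitely many points with maximal orbits have an invariant affine thickened neighbourhood. -/
theorem exists_thick_affine_nhd [IsFinite G.t] [LocallyOfFinitePresentation G.s] [QuasiSeparatedSpace G.U]
    {m : ℕ} (u : Fin m → G.U) (hu : ∀ i (r : G.R), G.s r = u i → ∀ x : G.U, x ⤳ G.t r → x = G.t r) :
    ∃ (V : G.U.Opens) (V' : V.toScheme.IdealSheafData), IsAffineOpen V ∧ (∀ i, u i ∈ V) ∧ G.s ⁻¹ᵁ V = G.t ⁻¹ᵁ V ∧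
      V'.support = ⊤ ∧ LocallyOfFinitePresentation V'.subschemeι ∧
      (∃ φ : pullback G.s (V'.subschemeι ≫ V.ι) ≅ pullback G.t (V'.subschemeι ≫ V.ι),
        φ.hom ≫ pullback.fst G.t (V'.subschemeι ≫ V.ι) = pullback.fst G.s (V'.subschemeι ≫ V.ι)) ∧
      Mor2.IsFinLocFree (pullback.snd G.s (V'.subschemeι ≫ V.ι)) ∧
      Mor2.IsFinLocFree (pullback.snd G.t (V'.subschemeι ≫ V.ι)) := by
  classical
  obtain ⟨W', hsupp, hW'⟩ := exists_thickening G
  have hs := isFinLocFree_thick_s hW'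
  let T : Set G.U := ⋃ i, G.t '' (G.s ⁻¹' {u i})
  have hT : T.Finite := Set.finite_iUnion fun i => (G.s.finite_preimage_singleton (u i)).image _
  have hTinv : ∀ r : G.R, G.s r ∈ T → G.t r ∈ T := fun r hr => by
    obtain ⟨i, r', hr', e⟩ := Set.mem_iUnion.1 hr
    obtain ⟨z, h1, h2⟩ := GrpdLib.exists_comp G r r' e.symm
    exact Set.mem_iUnion.2 ⟨i, z, h2.trans hr', h1⟩
  have hTmax : ∀ y ∈ T, ∀ x, x ⤳ y → x = y := fun y hy => by
    obtain ⟨i, r, hr, rfl⟩ := Set.mem_iUnion.1 hy
    exact hu i r hr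
  have hmem : ∀ i, u i ∈ T := fun i => Set.mem_iUnion.2 ⟨i, G.e (u i),
    by rw [Set.mem_preimage, ← Scheme.Hom.comp_apply, G.e_s]; rfl,
    by rw [← Scheme.Hom.comp_apply, G.e_t]; rfl⟩
  have hTW : T ⊆ thickOpen G := fun y hy => by
    obtain ⟨i, r, hr, rfl⟩ := Set.mem_iUnion.1 hy
    exact ((isInv_thickOpen G).mem_iff r).1 (show G.s r ∈ thickOpen G from
      (show G.s r = u i from hr) ▸ mem_thickOpen_of_maximal G (u i) (hu i))
  obtain ⟨A₀, hA₀, hTA₀⟩ := exists_affine_of_maximal hT.toFinset fun y hy => hTmax y (hT.mem_toFinset.1 hy)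
  obtain ⟨f, hTf, hf⟩ := GrpdLib.exists_basicOpen_of_finite hA₀ hT (thickOpen G)
    (fun y hy => hTA₀ y (hT.mem_toFinset.2 hy)) hTW
  obtain ⟨V, hV, hTV, hVinv, hVA⟩ :=
    exists_invariant_affine_thick G W' hsupp hs (hA₀.basicOpen f) hf hT hTf hTinv
  obtain ⟨V', h1, h2, h3, h4, h5⟩ :=
    exists_restrict_thick G (hVA.trans hf) hVinv W' hsupp (exists_iso_thick hW') hs
  exact ⟨V, V', hV, fun i => hTV (hmem i), hVinv, h1, h2 (lfp_thick G hW'), h3, h4, h5⟩

end Groth.Agent.GrpdField29
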