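import Groth.Agent.GrpdField29.RankPoly
import Mathlib.RingTheory.Unramified.Finite
import Mathlib.RingTheory.Etale.Field

/-! Étale algebras from symmetric dual families for a trace. -/

set_option autoImplicit false
set_option backward.isDefEq.respectTransparency false
set_option backward.isDefEq.respectTransparency.types false

universe u

open scoped TensorProduct
open Polynomial Matrix

namespace Groth.Agent.GrpdLib

variable {N E : Type u} [CommRing N] [CommRing E] [Algebra N E]

/-- A finite algebra with a nondegenerate trace is étale: the criterion by dual families. -/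
theorem etale_of_dual {r : ℕ} (τ : E →ₗ[N] N) (θ u : Fin r → E)
    (h₁ : ∀ x, ∑ k, τ (x * u k) • θ k = x) (h₂ : ∀ x, ∑ k, τ (x * (θ k * u k)) = τ x) :
    Algebra.Etale N E ∧ Module.Finite N E ∧ Module.Projective N E := by
  let a : E →ₗ[N] (Fin r → N) := LinearMap.pi fun k => τ.comp (LinearMap.mulRight N (u k))
  let b : (Fin r → N) →ₗ[N] E := Fintype.linearCombination N θ
  have hba : b.comp a = LinearMap.id := LinearMap.ext fun x => by
    simp only [b, a, LinearMap.comp_apply, Fintype.linearCombination_apply, LinearMap.pi_apply,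
      LinearMap.mulRight_apply, LinearMap.id_apply]
    exact h₁ x
  have hproj : Module.Projective N E := .of_split a b hba
  have hfin : Module.Finite N E :=
    .of_surjective b fun x => ⟨a x, LinearMap.congr_fun hba x⟩
  have nd : ∀ z, (∀ k, τ (z * u k) = 0) → z = 0 := fun z hz => by
    rw [← h₁ z]; exact Finset.sum_eq_zero fun k _ => by rw [hz, zero_smul]
  have h₃ : ∀ x, ∑ k, τ (x * θ k) • u k = x := fun x => by
    refine sub_eq_zero.1 (nd _ fun m => ?_)
    rw [sub_mul, map_sub, Finset.sum_mul, map_sum, sub_eq_zero]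
    conv_rhs => rw [← h₁ (u m), Finset.mul_sum, map_sum]
    refine Finset.sum_congr rfl fun k _ => ?_
    rw [smul_mul_assoc, map_smul, mul_smul_comm, map_smul, smul_eq_mul, smul_eq_mul, mul_comm,
      mul_comm (u k)]
  have h₄ : ∑ k, θ k * u k = 1 := sub_eq_zero.1 (nd _ fun m => by
    rw [sub_mul, one_mul, map_sub, sub_eq_zero, Finset.sum_mul, map_sum]
    refine Eq.trans (Finset.sum_congr rfl fun k _ => ?_) (h₂ (u m))
    rw [mul_comm])
  have hur : Algebra.FormallyUnramified N E := by
    rw [Algebra.FormallyUnramified.iff_exists_tensorProduct]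
    refine ⟨∑ k, θ k ⊗ₜ[N] u k, fun x => ?_, by simp [h₄]⟩
    rw [sub_mul, sub_eq_zero, Finset.mul_sum, Finset.mul_sum]
    simp only [Algebra.TensorProduct.tmul_mul_tmul, one_mul]
    calc ∑ k, θ k ⊗ₜ[N] (x * u k)
        = ∑ k, ∑ m, θ k ⊗ₜ[N] (τ (x * u k * θ m) • u m) := by
          exact Finset.sum_congr rfl fun k _ => by rw [← TensorProduct.tmul_sum, h₃]
      _ = ∑ m, ∑ k, (τ (x * θ m * u k) • θ k) ⊗ₜ[N] u m := by
          rw [Finset.sum_comm]
          exact Finset.sum_congr rfl fun m _ => Finset.sum_congr rfl fun k _ => by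
            rw [TensorProduct.tmul_smul, TensorProduct.smul_tmul', mul_right_comm x (θ m)]
      _ = ∑ m, (x * θ m) ⊗ₜ[N] u m := by
          exact Finset.sum_congr rfl fun m _ => by rw [← TensorProduct.sum_tmul, h₁]
  have : Algebra.FinitePresentation N E := by
    have : Module.FinitePresentation N E := Module.finitePresentation_of_projective N E
    infer_instance
  exact ⟨Algebra.Etale.of_formallyUnramified_of_flat, hfin, hproj⟩

namespace Frame

variable {A B : Type u} [CommRing A] [CommRing B] {α : A →+* B} {n n' : ℕ}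

/-- The trace. -/
def tr (F : Frame α n) : B →+ A where
  toFun b := (F.mat b).trace
  map_zero' := by rw [F.mat_zero, Matrix.trace_zero]
  map_add' b c := by rw [F.mat_add, Matrix.trace_add]

theorem tr_apply (F : Frame α n) (b : B) : F.tr b = ∑ i, F.v i (b * F.u i) := rfl

theorem tr_smul (F : Frame α n) (a : A) (b : B) : F.tr (α a * b) = a * F.tr b := by
  show (F.mat _).trace = a * (F.mat b).trace
  rw [F.mat_smul, Matrix.trace_smul, smul_eq_mul]

theorem tr_eq (F : Frame α n) (F' : Frame α n') (b : B) : F.tr b = F'.tr b := by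
  show (F.mat b).trace = (F'.mat b).trace
  rw [F.mat_eq_mul F', Matrix.trace_mul_comm, F.mul_eq_mat F']

theorem IsMap.tr {A' B' : Type u} [CommRing A'] [CommRing B'] {α' : A' →+* B'} {F : Frame α n}
    {F' : Frame α' n} {h : A →+* A'} {g : B →+* B'} (H : IsMap F F' h g) (b : B) :
    F'.tr (g b) = h (F.tr b) := by
  show (F'.mat _).trace = h (F.mat b).trace
  rw [H.mat, AddMonoidHom.map_trace]

end Frame
end Groth.Agent.GrpdLib
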